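import Cfsg.Agent.Classification.SmallOrders.Autom

/-!
Abelian Sylow subgroups of simple groups; groups of order 8.
-/

set_option autoImplicit false

namespace Cfsg.Agent.Classification.SmallOrders.AbelianSylow

open Subgroup MulAction Autom

variable {G : Type*} [Group G] [Finite G]

/-- In a non-abelian simple group, no nonidentity element of an abelian Sylow subgroup `S` is centralized
by `N(S)`. -/
theorem eq_one_of_forall_normalizer_comm [IsSimpleGroup G] (hG : ¬ IsMulCommutative G) {p : ℕ}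
    [hp : Fact p.Prime] (S : Sylow p G) (hS : IsMulCommutative S) {z : G}
    (hz : z ∈ (S : Subgroup G))
    (hN : ∀ n ∈ normalizer ((S : Subgroup G) : Set G), n * z = z * n) : z = 1 := by
  classical
  let : CommGroup (S : Subgroup G) := { (inferInstance : Group (S : Subgroup G)) with
    mul_comm := hS.is_comm.comm }
  have key : ∀ (k : ℕ) (g₀ : G), g₀⁻¹ * z ^ k * g₀ ∈ (S : Subgroup G) →
      g₀⁻¹ * z ^ k * g₀ = z ^ k := by
    intro k g₀ h
    obtain ⟨n, hn, hn'⟩ := S.conj_eq_normalizer_conj_of_mem (z ^ k) g₀ (pow_mem hz k) h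
    rw [hn']
    have h1 : Commute n (z ^ k) := (show Commute n z from hN n hn).pow_right k
    rw [mul_assoc, ← h1.eq, ← mul_assoc, inv_mul_cancel, one_mul]
  have h1 := MonoidHom.transfer_eq_pow (MonoidHom.id (S : Subgroup G)) z key
  have h2 : MonoidHom.transfer (MonoidHom.id (S : Subgroup G)) z = 1 :=
    SmallSimple.Parity.commHom_eq_one (fun h => hG ⟨⟨h⟩⟩) _ z
  rw [h2] at h1
  have h3 : z ^ (S : Subgroup G).index = 1 := by
    have := congrArg Subtype.val h1
    simpa using this.symm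
  have h4 : orderOf z ∣ (S : Subgroup G).index := orderOf_dvd_of_pow_eq_one h3
  have h5 : orderOf z ∣ Nat.card (S : Subgroup G) := Subgroup.orderOf_dvd_natCard _ hz
  exact orderOf_eq_one_iff.1 (Nat.eq_one_of_dvd_coprimes S.card_coprime_index h5 h4)

/-- If `A B` are subgroups of a subgroup `S` with `|S| < |A| |B|` then they meet nontrivially. -/
theorem inf_ne_bot_of_card_lt {A B S : Subgroup G} (hA : A ≤ S) (hB : B ≤ S)
    (h : Nat.card S < Nat.card A * Nat.card B) : A ⊓ B ≠ ⊥ := by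
  intro hAB
  have h1 : Nat.card (A × B) ≤ Nat.card S := by
    refine Nat.card_le_card_of_injective
      (fun z : A × B => (⟨(z.1 : G) * z.2, mul_mem (hA z.1.2) (hB z.2.2)⟩ : S)) ?_
    rintro ⟨a, b⟩ ⟨a', b'⟩ hab
    have h2 : (a : G) * b = a' * b' := congrArg Subtype.val hab
    have h3 : (a' : G)⁻¹ * a = b' * (b : G)⁻¹ := by
      rw [inv_mul_eq_iff_eq_mul, ← mul_assoc, ← h2, mul_inv_cancel_right]
    have h4 : (a' : G)⁻¹ * a ∈ A ⊓ B :=
      mem_inf.2 ⟨A.mul_mem (A.inv_mem a'.2) a.2, by rw [h3]; exact B.mul_mem b'.2 (B.inv_mem b.2)⟩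
    rw [hAB, mem_bot] at h4
    have h5 : (b' : G) * (b : G)⁻¹ = 1 := h3 ▸ h4
    rw [inv_mul_eq_one] at h4
    rw [mul_inv_eq_one] at h5
    exact Prod.ext (Subtype.ext h4.symm) (Subtype.ext h5.symm)
  rw [Nat.card_prod] at h1
  omega

/-- Elements of order 4 of a subgroup of order 8 have the same square. -/
theorem sq_eq_sq_of_orderOf_four {S : Subgroup G} (hS : Nat.card S = 8) {x y : G} (hx : x ∈ S)
    (hy : y ∈ S) (hxo : orderOf x = 4) (hyo : orderOf y = 4) : x ^ 2 = y ^ 2 := by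
  classical
  have h1 : zpowers x ⊓ zpowers y ≠ ⊥ := by
    apply inf_ne_bot_of_card_lt (zpowers_le.2 hx) (zpowers_le.2 hy)
    rw [hS, Nat.card_zpowers, Nat.card_zpowers, hxo, hyo]
    norm_num
  -- a nonidentity element of a cyclic group of order 4 has the involution as a power
  have key : ∀ x z : G, orderOf x = 4 → z ∈ zpowers x → z ≠ 1 → z ^ 2 = 1 → z = x ^ 2 := by
    intro x z hx hz hz1 hz2
    rw [mem_zpowers_iff_mem_range_orderOf, hx] at hz
    simp only [Finset.mem_image, Finset.mem_range] at hz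
    obtain ⟨k, hk, rfl⟩ := hz
    have h4 : x ^ 4 = 1 := by rw [← hx]; exact pow_orderOf_eq_one x
    interval_cases k
    · simp at hz1
    · exfalso
      rw [pow_one] at hz2
      have := orderOf_dvd_of_pow_eq_one hz2
      rw [hx] at this
      omega
    · rfl
    · exfalso
      rw [← pow_mul] at hz2
      have := orderOf_dvd_of_pow_eq_one hz2
      rw [hx] at this
      omega
  obtain ⟨z, hz1⟩ := Subgroup.ne_bot_iff_exists_ne_one.1 h1
  have hz1' : (z : G) ≠ 1 := fun h => hz1 (Subtype.ext h)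
  obtain ⟨hzx, hzy⟩ := z.2
  have hzo : orderOf (z : G) ∣ 4 := by
    have := orderOf_dvd_natCard (⟨(z : G), hzx⟩ : zpowers x)
    rw [Nat.card_zpowers, hxo] at this
    rwa [← Subgroup.orderOf_coe] at this
  obtain ⟨w, hw1, hw2, hwx, hwy⟩ : ∃ w : G, w ≠ 1 ∧ w ^ 2 = 1 ∧ w ∈ zpowers x ∧ w ∈ zpowers y := by
    by_cases h2 : (z : G) ^ 2 = 1
    · exact ⟨z, hz1', h2, hzx, hzy⟩
    · refine ⟨(z : G) ^ 2, h2, ?_, pow_mem hzx 2, pow_mem hzy 2⟩
      rw [← pow_mul]
      exact orderOf_dvd_iff_pow_eq_one.1 hzo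
  rw [← key x w hxo hwx hw1 hw2, ← key y w hyo hwy hw1 hw2]

end Cfsg.Agent.Classification.SmallOrders.AbelianSylow
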