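import Cfsg.Agent.Classification.SmallOrders.Tools

/-!
Subgroups of the normalizer of a subgroup of prime order.
-/

set_option autoImplicit false

namespace Cfsg.Agent.Classification.SmallOrders.Autom

open Subgroup MulAction

variable {G : Type*} [Group G] [Finite G]

theorem isCyclic_mulAut {P : Type*} [Group P] {p : ℕ} [hp : Fact p.Prime] (hP : Nat.card P = p) :
    IsCyclic (MulAut P) := by
  have hc : IsCyclic P := isCyclic_of_prime_card hP
  have e := hc.mulAutMulEquiv
  rw [hP] at e
  exact isCyclic_of_injective e.toMonoidHom e.injective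

/-- The action of a subgroup `S` of `N(P)` on `P`. -/
def act (P S : Subgroup G) (hS : S ≤ normalizer (P : Set G)) : S →* MulAut P :=
  P.normalizerMonoidHom.comp (Subgroup.inclusion hS)

omit [Finite G] in
theorem mem_ker_act {P S : Subgroup G} (hS : S ≤ normalizer (P : Set G)) (x : S) :
    x ∈ (act P S hS).ker ↔ (x : G) ∈ centralizer (P : Set G) := by
  unfold act
  rw [MonoidHom.mem_ker, MonoidHom.comp_apply, ← MonoidHom.mem_ker, normalizerMonoidHom_ker,
    mem_subgroupOf]
  rfl

omit [Finite G] in
/-- If `P` has prime order, `S ≤ N(P)` and `S ∩ C(P) = 1` then `S` is cyclic. -/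
theorem isCyclic_of_inf_eq_bot {P S : Subgroup G} {p : ℕ} [hp : Fact p.Prime]
    (hP : Nat.card P = p) (hS : S ≤ normalizer (P : Set G))
    (h : S ⊓ centralizer (P : Set G) = ⊥) : IsCyclic S := by
  have := isCyclic_mulAut hP
  refine isCyclic_of_injective (act P S hS) ?_
  rw [← MonoidHom.ker_eq_bot_iff, eq_bot_iff]
  intro x hx
  rw [mem_ker_act] at hx
  have h1 : (x : G) ∈ S ⊓ centralizer (P : Set G) := ⟨x.2, hx⟩
  rw [h, mem_bot] at h1
  rw [mem_bot]
  exact Subtype.ext h1

/-- If `P` has prime order, `S ≤ N(P)` and `|S ∩ C(P)| ≤ 2` then `S` is commutative. -/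
theorem comm_of_card_inf_le_two {P S : Subgroup G} {p : ℕ} [hp : Fact p.Prime]
    (hP : Nat.card P = p) (hS : S ≤ normalizer (P : Set G))
    (h : Nat.card (S ⊓ centralizer (P : Set G) : Subgroup G) ≤ 2) (x y : S) : x * y = y * x := by
  have := isCyclic_mulAut hP
  have h1 : (act P S hS).ker ≤ center S := by
    intro k hk
    rw [mem_center_iff]
    intro g
    have hk' := (mem_ker_act hS k).1 hk
    by_cases hk1 : k = 1
    · rw [hk1]; simp
    · have h2 : g * k * g⁻¹ ∈ (act P S hS).ker := (inferInstance : (act P S hS).ker.Normal).conj_mem k hk g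
      have h3 := (mem_ker_act hS _).1 h2
      have h4 : g * k * g⁻¹ = k := by
        by_contra hne
        have h5 : ({(1 : G), (k : G), ((g * k * g⁻¹ : S) : G)} : Set G) ⊆
            ((S ⊓ centralizer (P : Set G) : Subgroup G) : Set G) := by
          rintro z (rfl | rfl | rfl)
          · exact one_mem _
          · exact ⟨k.2, hk'⟩
          · exact ⟨(g * k * g⁻¹).2, h3⟩
        have h6 := Set.ncard_le_ncard h5 (Set.toFinite _)
        have h7 : ({(1 : G), (k : G), ((g * k * g⁻¹ : S) : G)} : Set G).ncard = 3 := by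
          rw [Set.ncard_eq_three]
          refine ⟨_, _, _, ?_, ?_, ?_, rfl⟩
          · intro h8
            exact hk1 (Subtype.ext h8.symm)
          · intro h8
            have h9 : g * k * g⁻¹ = 1 := Subtype.ext h8.symm
            apply hk1
            rw [mul_inv_eq_one] at h9
            exact mul_eq_left.1 h9
          · intro h8
            exact hne (Subtype.ext h8.symm)
        rw [h7] at h6
        have h8 : ((S ⊓ centralizer (P : Set G) : Subgroup G) : Set G).ncard =
            Nat.card (S ⊓ centralizer (P : Set G) : Subgroup G) := rfl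
        omega
      exact mul_inv_eq_iff_eq_mul.1 h4
  exact (MonoidHom.isMulCommutative_of_isCyclic_of_ker_le_center (act P S hS) h1).is_comm.comm x y

omit [Finite G] in
theorem exists_le_card_eq [Finite G] {p k : ℕ} [hp : Fact p.Prime] (N : Subgroup G)
    (h : p ^ k ∣ Nat.card N) : ∃ S : Subgroup G, S ≤ N ∧ Nat.card S = p ^ k := by
  obtain ⟨K, hK⟩ := Sylow.exists_subgroup_card_pow_prime (G := N) p h
  refine ⟨K.map N.subtype, ?_, ?_⟩
  · exact Subgroup.map_subtype_le K
  · rw [← hK]
    exact (Nat.card_congr (K.equivMapOfInjective N.subtype N.subtype_injective).toEquiv).symm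

/-- In a simple group with Sylow `2`-subgroups of order `2 ^ a` there is no cyclic subgroup of that order. -/
theorem not_isCyclic_of_card [IsSimpleGroup G] (hG : ¬ IsMulCommutative G) {a m : ℕ} (ha : a ≠ 0)
    (hn : Nat.card G = 2 ^ a * m) (hm : ¬ 2 ∣ m) (S : Subgroup G) (hS : Nat.card S = 2 ^ a) :
    ¬ IsCyclic S := by
  intro hc
  have hp : Fact (Nat.Prime 2) := ⟨Nat.prime_two⟩
  have h1 : IsPGroup 2 S := IsPGroup.of_card hS
  obtain ⟨T, hT⟩ := h1.exists_le_sylow
  have h2 : Nat.card T = 2 ^ a := SmallSimple.SylowPrimeInvol.card_sylow_of_card_eq T hn hm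
  have h3 : S = (T : Subgroup G) := Subgroup.eq_of_le_of_card_ge hT (by rw [hS, h2])
  rw [h3] at hc
  refine SmallSimple.EvenOrder.not_isCyclic_sylow_two hG ?_ T hc
  rw [hn]
  exact (dvd_pow_self 2 ha).mul_right m

omit [Finite G] in
theorem zpowers_le_centralizer_iff {x : G} {P : Subgroup G} :
    x ∈ centralizer (P : Set G) ↔ P ≤ centralizer ({x} : Set G) := by
  rw [mem_centralizer_iff]
  constructor
  · intro h y hy
    rw [mem_centralizer_singleton_iff]
    exact h y hy
  · intro h y hy
    exact mem_centralizer_singleton_iff.1 (h hy)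

end Cfsg.Agent.Classification.SmallOrders.Autom
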