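import Mathlib
import Cfsg.Agent.SmallSimple.Embed
import Cfsg.Agent.SmallSimple.EvenOrder
import Cfsg.Agent.SmallSimple.BurnsideNC
import Cfsg.Agent.SmallSimple.SylowPrimeInvol
import Cfsg.Agent.Classification.SmallOrders.PrimeDegree

/-!
A computable list `cands p a m` containing the number of Sylow `p`-subgroups of any non-abelian
simple group of order `p ^ a * m` (Sylow congruence and divisibility, embedding in an alternating
group, Burnside transfer, degree `p + 1`).
-/

set_option autoImplicit false

namespace Cfsg.Agent.Classification.SmallOrders.Cands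

open Subgroup

theorem beq_false_iff {a b : ℕ} : Nat.beq a b = false ↔ a ≠ b := by
  rw [← Bool.not_eq_true, Nat.beq_eq]

/-- the number `d` is not excluded as number of Sylow `p`-subgroups of a non-abelian simple group of
order `p ^ a * m` -/
def okCand (p a m d : ℕ) : Bool :=
  Nat.beq (m % d) 0 && Nat.beq (d % p) 1 && !(Nat.beq d 1) &&
    (Nat.blt 20 d || Nat.beq (d.factorial % (2 * (p ^ a * m))) 0) &&
    (!(Nat.beq a 1) || !(Nat.beq (Nat.gcd (p - 1) (m / d)) 1)) &&
    (!(Nat.beq a 1) || Nat.beq p 2 || !(Nat.beq d (p + 1)) ||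
      Nat.beq ((p - 1) % (2 * (m / d))) 0) &&
    (!(Nat.beq a 2) || !(Nat.beq (Nat.gcd ((p ^ 2 - 1) * (p - 1)) (m / d)) 1))

theorem okCand_card_sylow {G : Type*} [Group G] [Finite G] [IsSimpleGroup G]
    (hG : ¬ IsMulCommutative G) {p a m : ℕ} [hp : Fact p.Prime] (ha : a ≠ 0)
    (hn : Nat.card G = p ^ a * m) (hm : ¬ p ∣ m) : okCand p a m (Nat.card (Sylow p G)) = true := by
  have hpp : p.Prime := hp.out
  have hp2 : 2 ≤ p := hpp.two_le
  have hdvd : p ∣ Nat.card G := by
    rw [hn]; exact (dvd_pow_self p ha).mul_right m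
  obtain ⟨P⟩ : Nonempty (Sylow p G) := inferInstance
  have hPcard : Nat.card P = p ^ a := SmallSimple.SylowPrimeInvol.card_sylow_of_card_eq P hn hm
  have h1 : Nat.card (Sylow p G) ∣ m :=
    SmallSimple.SylowPrimeInvol.card_sylow_dvd_of_card_eq P hn hm
  have h2 := card_sylow_modEq_one p G
  have h3 := SmallSimple.Embed.five_le_card_sylow hG hdvd
  have h4 := SmallSimple.Embed.two_mul_card_dvd_factorial_card_sylow hG hdvd
  have h5 : Nat.card (Sylow p G) * Nat.card (normalizer ((P : Subgroup G) : Set G)) = Nat.card G :=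
    SmallSimple.BurnsideNC.card_sylow_mul_card_normalizer P
  have h50 : (normalizer ((P : Subgroup G) : Set G)).index = Nat.card (Sylow p G) :=
    P.card_eq_index_normalizer.symm
  have hne : Nat.card G ≠ p := SmallSimple.EvenOrder.card_ne_prime hG hpp
  have hm0 : m ≠ 0 := fun h => hm (h ▸ dvd_zero p)
  set d := Nat.card (Sylow p G) with hd
  obtain ⟨e, he⟩ := h1
  have hd0 : 0 < d := by omega
  have hmd : m / d = e := by rw [he]; exact Nat.mul_div_cancel_left e hd0
  have hN : Nat.card (normalizer ((P : Subgroup G) : Set G)) = p ^ a * e := by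
    have h6 : d * Nat.card (normalizer ((P : Subgroup G) : Set G)) = d * (p ^ a * e) := by
      rw [h5, hn, he]; ring
    exact Nat.eq_of_mul_eq_mul_left hd0 h6
  unfold okCand
  simp only [Bool.and_eq_true, Bool.or_eq_true, Bool.not_eq_true', Nat.beq_eq,
    beq_false_iff, Nat.blt_eq, hmd]
  refine ⟨⟨⟨⟨⟨⟨?_, ?_⟩, ?_⟩, ?_⟩, ?_⟩, ?_⟩, ?_⟩
  · exact Nat.mod_eq_zero_of_dvd ⟨e, he⟩
  · have := h2
    unfold Nat.ModEq at this
    rw [this]
    exact Nat.mod_eq_of_lt (by omega)
  · omega
  · right
    rw [← hn]
    exact Nat.mod_eq_zero_of_dvd h4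
  · by_cases ha1 : a = 1
    · right
      subst ha1
      rw [pow_one] at hPcard hn hN
      refine SmallSimple.BurnsideNC.gcd_ne_one_of_card_eq_prime (m := e) hne P hPcard ?_
      rw [hn, he]; ring
    · left; exact ha1
  · by_cases ha1 : a = 1
    · by_cases hp3 : p = 2
      · left; left; right; exact hp3
      · by_cases hdp : d = p + 1
        · right
          subst ha1
          rw [pow_one] at hPcard hN
          have h7 := PrimeDegree.two_mul_card_normalizer_dvd hG hp3 P hPcard
            (normalizer ((P : Subgroup G) : Set G))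
            (SmallSimple.Embed.normalizer_sylow_ne_top hG hdvd P)
            (Or.inr (h50.trans hdp))
          rw [hN] at h7
          apply Nat.mod_eq_zero_of_dvd
          have h8 : p * (2 * e) ∣ p * (p - 1) := by
            have : 2 * (p * e) = p * (2 * e) := by ring
            rwa [this] at h7
          exact Nat.dvd_of_mul_dvd_mul_left hpp.pos h8
        · left; right; exact hdp
    · left; left; left; exact ha1
  · by_cases ha2 : a = 2
    · right
      subst ha2
      intro hgcd
      have h7 := SmallSimple.BurnsideNC.relIndex_dvd_of_card_eq_sq P hPcard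
      have hcomm : IsMulCommutative P := IsPGroup.isMulCommutative_of_card_eq_prime_sq hPcard
      have h8 := SmallSimple.BurnsideNC.coprime_relIndex P hcomm
      have h9 := SmallSimple.BurnsideNC.relIndex_ne_one hdvd hne P
      have h10 := SmallSimple.BurnsideNC.card_normalizer_eq (P : Subgroup G)
      rw [hN] at h10
      have h11 : (centralizer ((P : Subgroup G) : Set G)).relIndex
          (normalizer ((P : Subgroup G) : Set G)) ∣ p ^ 2 * e := Dvd.intro_left _ h10.symm
      have h12 : (centralizer ((P : Subgroup G) : Set G)).relIndex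
          (normalizer ((P : Subgroup G) : Set G)) ∣ e :=
        (Nat.Coprime.pow_left 2 h8).symm.dvd_of_dvd_mul_left h11
      exact h9 (Nat.eq_one_of_dvd_coprimes hgcd h7 h12)
    · left; exact ha2

/-- The list of possible numbers of Sylow `p`-subgroups. -/
def cands (p a m : ℕ) : List ℕ := (List.range (m + 1)).filter (fun d => okCand p a m d)

/-- The number of Sylow `p`-subgroups of a non-abelian simple group of order `p ^ a * m` is in the list
`cands p a m` (which can be computed by `decide` or `rfl`). -/
theorem card_sylow_mem_cands {G : Type*} [Group G] [Finite G] [IsSimpleGroup G]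
    (hG : ¬ IsMulCommutative G) {p a m : ℕ} [hp : Fact p.Prime] (ha : a ≠ 0)
    (hn : Nat.card G = p ^ a * m) (hm : ¬ p ∣ m) : Nat.card (Sylow p G) ∈ cands p a m := by
  have hm0 : m ≠ 0 := fun h => hm (h ▸ dvd_zero p)
  obtain ⟨P⟩ : Nonempty (Sylow p G) := inferInstance
  have h1 : Nat.card (Sylow p G) ∣ m :=
    SmallSimple.SylowPrimeInvol.card_sylow_dvd_of_card_eq P hn hm
  unfold cands
  rw [List.mem_filter, List.mem_range]
  exact ⟨Nat.lt_succ_of_le (Nat.le_of_dvd (Nat.pos_of_ne_zero hm0) h1),
    okCand_card_sylow hG ha hn hm⟩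

end Cfsg.Agent.Classification.SmallOrders.Cands
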