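import Cfsg.Agent.Classification.SmallOrders.Autom

/-!
Counting the elements of order divisible by `p` when the Sylow `p`-subgroups have order `p`.
-/

set_option autoImplicit false

namespace Cfsg.Agent.Classification.SmallOrders.Count

open Subgroup MulAction Autom

variable {G : Type*} [Group G] [Finite G]

/-- Distinct Sylow subgroups of prime order meet trivially. -/
theorem eq_of_mem_of_mem {p : ℕ} [hp : Fact p.Prime] {P Q : Sylow p G} (hP : Nat.card P = p)
    (hQ : Nat.card Q = p) {x : G} (hxP : x ∈ (P : Subgroup G)) (hxQ : x ∈ (Q : Subgroup G))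
    (hx : x ≠ 1) : P = Q := by
  have h1 : zpowers x = (P : Subgroup G) := by
    apply Subgroup.eq_of_le_of_card_ge (zpowers_le.2 hxP)
    have h3 : Nat.card (zpowers x) ∣ p := by
      rw [← hP]; exact Subgroup.card_dvd_of_le (zpowers_le.2 hxP)
    rcases (Nat.dvd_prime hp.out).1 h3 with h | h
    · rw [Subgroup.card_eq_one, zpowers_eq_bot] at h
      exact absurd h hx
    · rw [h]; exact hP.le
  have h2 : (P : Subgroup G) ≤ Q := by rw [← h1]; exact zpowers_le.2 hxQ
  exact Sylow.ext (Subgroup.eq_of_le_of_card_ge h2 (by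
    rw [show Nat.card (P : Subgroup G) = p from hP, show Nat.card (Q : Subgroup G) = p from hQ]))

/-- If the Sylow `p`-subgroups have order `p` and their centralizers contain subgroups of order `f` prime to
`p`, there are at least `n_p (p - 1) f` elements of order divisible by `p`. -/
theorem le_card_orderOf_dvd {p f : ℕ} [hp : Fact p.Prime] (hP : ∀ P : Sylow p G, Nat.card P = p)
    (hT : ∀ P : Sylow p G, ∃ T : Subgroup G, T ≤ centralizer ((P : Subgroup G) : Set G) ∧
      Nat.card T = f) (hpf : ¬ p ∣ f) :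
    Nat.card (Sylow p G) * ((p - 1) * f) ≤ Nat.card {x : G // p ∣ orderOf x} := by
  classical
  choose T hT1 hT2 using hT
  have hcard : ∀ P : Sylow p G, Nat.card ({y : (P : Subgroup G) // y ≠ 1} × T P) = (p - 1) * f := by
    intro P
    rw [Nat.card_prod, hT2]
    congr 1
    have : Fintype (P : Subgroup G) := Fintype.ofFinite _
    rw [Nat.card_eq_fintype_card, Fintype.card_subtype_compl, ← Nat.card_eq_fintype_card,
      Fintype.card_subtype_eq, show Nat.card (P : Subgroup G) = p from hP P]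
  have hsig : Nat.card (Σ P : Sylow p G, {y : (P : Subgroup G) // y ≠ 1} × T P) =
      Nat.card (Sylow p G) * ((p - 1) * f) := by
    have : Fintype (Sylow p G) := Fintype.ofFinite _
    rw [Nat.card_sigma]
    simp only [hcard]
    rw [Finset.sum_const, Finset.card_univ, Nat.card_eq_fintype_card, smul_eq_mul]
  rw [← hsig]
  have hcomm : ∀ (P : Sylow p G) (y : (P : Subgroup G)) (t : T P), Commute (y : G) (t : G) := by
    intro P y t
    have := mem_centralizer_iff.1 (hT1 P t.2) (y : G) y.2
    exact this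
  have hy : ∀ (P : Sylow p G) (y : (P : Subgroup G)), y ≠ 1 → orderOf (y : G) = p := by
    intro P y hy
    have h1 : orderOf (y : G) ∣ p := by
      rw [Subgroup.orderOf_coe]
      have := orderOf_dvd_natCard y
      rwa [show Nat.card (P : Subgroup G) = p from hP P] at this
    rcases (Nat.dvd_prime hp.out).1 h1 with h | h
    · exact absurd (Subtype.ext (orderOf_eq_one_iff.1 h)) hy
    · exact h
  have ht : ∀ (P : Sylow p G) (t : T P), (t : G) ^ f = 1 := by
    intro P t
    have : t ^ f = 1 := by rw [← hT2 P]; exact pow_card_eq_one'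
    exact_mod_cast congrArg Subtype.val this
  refine Nat.card_le_card_of_injective (fun z : Σ P : Sylow p G, {y : (P : Subgroup G) // y ≠ 1} × T P =>
    (⟨((z.2.1 : (z.1 : Subgroup G)) : G) * (z.2.2 : G), ?_⟩ : {x : G // p ∣ orderOf x})) ?_
  · obtain ⟨P, ⟨y, hy1⟩, t⟩ := z
    have h1 : (orderOf (y : G)).Coprime (orderOf (t : G)) := by
      rw [hy P y hy1]
      rw [Nat.Prime.coprime_iff_not_dvd hp.out]
      intro h
      exact hpf (h.trans (orderOf_dvd_of_pow_eq_one (ht P t)))
    show p ∣ orderOf ((y : G) * (t : G))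
    rw [(hcomm P y t).orderOf_mul_eq_mul_orderOf_of_coprime h1, hy P y hy1]
    exact dvd_mul_right p _
  · rintro ⟨P, ⟨y, hy1⟩, t⟩ ⟨Q, ⟨y', hy1'⟩, t'⟩ h
    have h1 : (y : G) * (t : G) = (y' : G) * (t' : G) := congrArg Subtype.val h
    have h2 : (y : G) ^ f = (y' : G) ^ f := by
      have h3 : ((y : G) * (t : G)) ^ f = ((y' : G) * (t' : G)) ^ f := by rw [h1]
      rw [(hcomm P y t).mul_pow, (hcomm Q y' t').mul_pow, ht, ht, mul_one, mul_one] at h3
      exact h3
    have h4 : (y : G) ^ f ≠ 1 := by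
      intro h5
      have := orderOf_dvd_of_pow_eq_one h5
      rw [hy P y hy1] at this
      exact hpf this
    have h5 : P = Q := eq_of_mem_of_mem (hP P) (hP Q) (x := (y : G) ^ f) (pow_mem y.2 f)
      (by rw [h2]; exact pow_mem y'.2 f) h4
    subst h5
    -- now `y⁻¹ y' = t t'⁻¹`
    have h6 : (y : G) = y' := by
      have h7 : (y : G)⁻¹ * y' = t * (t' : G)⁻¹ := by
        rw [inv_mul_eq_iff_eq_mul, ← mul_assoc, h1, mul_inv_cancel_right]
      by_contra hne
      have h8 : (y : G)⁻¹ * y' ≠ 1 := by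
        intro h
        rw [inv_mul_eq_one] at h
        exact hne h
      have h9 : orderOf ((y : G)⁻¹ * y') = p :=
        hy P ⟨(y : G)⁻¹ * y', mul_mem (inv_mem y.2) y'.2⟩ (fun h => h8 (congrArg Subtype.val h))
      have h10 : (t * t'⁻¹ : T P) ^ f = 1 := by rw [← hT2 P]; exact pow_card_eq_one'
      have h11 : ((t : G) * (t' : G)⁻¹) ^ f = 1 := by exact_mod_cast congrArg Subtype.val h10
      rw [← h7] at h11
      have := orderOf_dvd_of_pow_eq_one h11
      rw [h9] at this
      exact hpf this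
    have h7 : y = y' := Subtype.ext h6
    subst h7
    have h8 : t = t' := Subtype.ext (mul_left_cancel h1)
    subst h8
    rfl

/-- An element of order divisible by `p` centralizes a Sylow `p`-subgroup (of order `p`). -/
theorem exists_mem_centralizer {p : ℕ} [hp : Fact p.Prime] (hP : ∀ P : Sylow p G, Nat.card P = p)
    {x : G} (hx : p ∣ orderOf x) : ∃ P : Sylow p G, x ∈ centralizer ((P : Subgroup G) : Set G) := by
  obtain ⟨m, hm⟩ := hx
  have hpos : 0 < orderOf x := orderOf_pos x
  have hm0 : m ≠ 0 := by rintro rfl; omega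
  have h1 : orderOf (x ^ m) = p := by
    rw [orderOf_pow_of_dvd hm0 ⟨p, by rw [hm, mul_comm]⟩, hm]
    exact Nat.mul_div_cancel p (Nat.pos_of_ne_zero hm0)
  have h2 : IsPGroup p (zpowers (x ^ m)) :=
    IsPGroup.of_card (n := 1) (by rw [Nat.card_zpowers, h1, pow_one])
  obtain ⟨P, hPx⟩ := h2.exists_le_sylow
  refine ⟨P, ?_⟩
  have h3 : zpowers (x ^ m) = (P : Subgroup G) := by
    apply Subgroup.eq_of_le_of_card_ge hPx
    rw [Nat.card_zpowers, h1]
    exact (hP P).le
  rw [← h3, mem_centralizer_iff]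
  intro y hy
  obtain ⟨k, rfl⟩ := mem_zpowers_iff.1 hy
  exact (((Commute.refl x).pow_left m).zpow_left k).eq

/-- Disjointness: if `q` does not divide the order of the centralizers of the Sylow `p`-subgroups there is no
element of order divisible by `p` and `q`. -/
theorem not_dvd_orderOf {p : ℕ} [Fact p.Prime] (hP : ∀ P : Sylow p G, Nat.card P = p) {q : ℕ}
    (hq : ∀ P : Sylow p G, ¬ q ∣ Nat.card (centralizer ((P : Subgroup G) : Set G))) {x : G}
    (hx : p ∣ orderOf x) : ¬ q ∣ orderOf x := by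
  intro hqx
  obtain ⟨P, hxP⟩ := exists_mem_centralizer hP hx
  exact hq P (hqx.trans (Subgroup.orderOf_dvd_natCard _ hxP))

/-- If `q` divides `|C(P)|` for some Sylow `p`-subgroup `P` of prime order `p`, then `p` divides `|C(Q)|` for
some Sylow `q`-subgroup `Q` (of prime order `q`). -/
theorem exists_dvd_card_centralizer {p q : ℕ} [hq : Fact q.Prime]
    (hQ : ∀ Q : Sylow q G, Nat.card Q = q) {P : Subgroup G} (hP : Nat.card P = p)
    (h : q ∣ Nat.card (centralizer (P : Set G))) :
    ∃ Q : Sylow q G, p ∣ Nat.card (centralizer ((Q : Subgroup G) : Set G)) := by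
  obtain ⟨x, hx⟩ : ∃ x : centralizer (P : Set G), orderOf x = q :=
    exists_prime_orderOf_dvd_card' q h
  have hxo : orderOf (x : G) = q := by rw [Subgroup.orderOf_coe, hx]
  have h2 : IsPGroup q (zpowers (x : G)) :=
    IsPGroup.of_card (n := 1) (by rw [Nat.card_zpowers, hxo, pow_one])
  obtain ⟨Q, hQx⟩ := h2.exists_le_sylow
  refine ⟨Q, ?_⟩
  have h3 : zpowers (x : G) = (Q : Subgroup G) := by
    apply Subgroup.eq_of_le_of_card_ge hQx
    rw [Nat.card_zpowers, hxo]
    exact (hQ Q).le
  rw [← hP]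
  apply Subgroup.card_dvd_of_le
  rw [← h3]
  intro y hy
  rw [mem_centralizer_iff]
  intro z hz
  obtain ⟨k, rfl⟩ := mem_zpowers_iff.1 hz
  have h4 : Commute (x : G) y := (mem_centralizer_iff.1 x.2 y hy).symm
  exact (h4.zpow_left k).eq

/-- The centralizers of Sylow subgroups are conjugate. -/
theorem card_centralizer_sylow_eq {p : ℕ} [hp : Fact p.Prime] (P Q : Sylow p G) :
    Nat.card (centralizer ((P : Subgroup G) : Set G)) =
      Nat.card (centralizer ((Q : Subgroup G) : Set G)) := by
  obtain ⟨g, rfl⟩ := MulAction.exists_smul_eq G P Q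
  refine Nat.card_congr ⟨fun x => ⟨g * x * g⁻¹, ?_⟩, fun x => ⟨g⁻¹ * x * g, ?_⟩, ?_, ?_⟩
  · rw [mem_centralizer_iff]
    rintro _ ⟨y, hy, rfl⟩
    have := mem_centralizer_iff.1 x.2 y hy
    show g * y * g⁻¹ * (g * x * g⁻¹) = g * x * g⁻¹ * (g * y * g⁻¹)
    calc g * y * g⁻¹ * (g * x * g⁻¹) = g * (y * x) * g⁻¹ := by group
      _ = g * (x * y) * g⁻¹ := by rw [this]
      _ = g * x * g⁻¹ * (g * y * g⁻¹) := by group
  · rw [mem_centralizer_iff]
    intro y hy
    have h1 : g * y * g⁻¹ ∈ ((g • P : Sylow p G) : Subgroup G) := ⟨y, hy, rfl⟩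
    have := mem_centralizer_iff.1 x.2 _ h1
    calc y * (g⁻¹ * x * g) = g⁻¹ * (g * y * g⁻¹ * x) * g := by group
      _ = g⁻¹ * (x * (g * y * g⁻¹)) * g := by rw [this]
      _ = g⁻¹ * x * g * y := by group
  · intro x; apply Subtype.ext; simp [mul_assoc]
  · intro x; apply Subtype.ext; simp [mul_assoc]

/-- Disjoint subsets. -/
theorem card_add_card_le {s t : Set G} (h : Disjoint s t) : Nat.card s + Nat.card t ≤ Nat.card G := by
  have h1 : (s ∪ t).ncard = s.ncard + t.ncard := Set.ncard_union_eq h (Set.toFinite s) (Set.toFinite t)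
  have h2 : (s ∪ t).ncard ≤ (Set.univ : Set G).ncard := Set.ncard_le_ncard (Set.subset_univ _)
  rw [Set.ncard_univ] at h2
  rw [Nat.card_coe_set_eq, Nat.card_coe_set_eq]
  omega

/-- Three pairwise disjoint subsets. -/
theorem card_add_card_add_card_le {s t u : Set G} (h1 : Disjoint s t) (h2 : Disjoint s u)
    (h3 : Disjoint t u) : Nat.card s + Nat.card t + Nat.card u ≤ Nat.card G := by
  have h4 : Nat.card (s ∪ t : Set G) + Nat.card u ≤ Nat.card G :=
    card_add_card_le (Disjoint.union_left h2 h3)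
  have h5 : (s ∪ t).ncard = s.ncard + t.ncard := Set.ncard_union_eq h1 (Set.toFinite s) (Set.toFinite t)
  rw [Nat.card_coe_set_eq, h5] at h4
  rw [Nat.card_coe_set_eq, Nat.card_coe_set_eq]
  exact h4

end Cfsg.Agent.Classification.SmallOrders.Count
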