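import Cfsg.Agent.Classification.SmallOrders.SylowFix

/-!
More on fixed points.
-/

set_option autoImplicit false

namespace Cfsg.Agent.Classification.SmallOrders.FixTools

open Subgroup MulAction

/-- Fixed points of commuting elements, one of `p`-power order. -/
theorem card_fixedBy_modEq {G X : Type*} [Group G] [MulAction G X] [Finite X] {p n : ℕ}
    [hp : Fact p.Prime] {v x : G} (hx : x ^ (p ^ n) = 1) (hc : v * x = x * v) :
    Nat.card (fixedBy X v) ≡ Nat.card {a : X // v • a = a ∧ x • a = a} [MOD p] := by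
  classical
  have := Fintype.ofFinite X
  let f : Function.End (fixedBy X v) := fun a => ⟨x • a.1, by
    have h1 : v • a.1 = a.1 := a.2
    show v • x • a.1 = x • a.1
    rw [← mul_smul, hc, mul_smul, h1]⟩
  have hf : ∀ (m : ℕ) (a : fixedBy X v), (((f ^ m : Function.End (fixedBy X v)) a : fixedBy X v) : X) =
      (x ^ m) • a.1 := by
    intro m
    induction m with
    | zero => intro a; rw [pow_zero, pow_zero, one_smul]; rfl
    | succ m ih =>
      intro a
      rw [pow_succ', pow_succ', mul_smul, ← ih]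
      rfl
  have h1 : f ^ (p ^ n) = 1 := by
    funext a
    apply Subtype.ext
    rw [hf, hx, one_smul]
    rfl
  have h2 := Equiv.Perm.card_fixedPoints_modEq h1
  rw [← Nat.card_eq_fintype_card, ← Nat.card_eq_fintype_card] at h2
  have h3 : Nat.card {a : X // v • a = a ∧ x • a = a} = Nat.card (Function.fixedPoints f) := by
    refine Nat.card_congr ⟨fun a => ⟨⟨a.1, a.2.1⟩, ?_⟩, fun a => ⟨a.1.1, a.1.2, ?_⟩, ?_, ?_⟩
    · exact Subtype.ext a.2.2
    · exact congrArg Subtype.val a.2
    · intro a; rfl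
    · intro a; rfl
  rw [h3]
  exact h2

/-- Faithfulness of the action of a simple group on the cosets of a proper subgroup. -/
theorem card_fixedBy_lt {G : Type*} [Group G] [Finite G] [IsSimpleGroup G] (H : Subgroup G)
    (hH : H ≠ ⊤) {v : G} (hv : v ≠ 1) : Nat.card (fixedBy (G ⧸ H) v) < H.index := by
  refine lt_of_le_of_ne (Finite.card_subtype_le _) ?_
  intro heq
  have h1 : (fixedBy (G ⧸ H) v) = Set.univ := by
    apply Set.eq_of_subset_of_ncard_le (Set.subset_univ _) _ (Set.toFinite _)
    rw [Set.ncard_univ]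
    exact heq.ge
  have h2 : v ∈ H.normalCore := by
    intro g
    have h3 : ((g⁻¹ : G) : G ⧸ H) ∈ fixedBy (G ⧸ H) v := h1 ▸ Set.mem_univ _
    have h4 := (Invol.smul_mk_eq_iff H v g⁻¹).1 h3
    rwa [inv_inv] at h4
  rcases (inferInstance : H.normalCore.Normal).eq_bot_or_eq_top with h3 | h3
  · rw [h3, mem_bot] at h2
    exact hv h2
  · exact hH (top_le_iff.1 (h3 ▸ H.normalCore_le))

/-- A `p`-element fixes a Sylow `p`-subgroup iff it belongs to it. -/
theorem smul_sylow_eq_iff {G : Type*} [Group G] {p n : ℕ} {x : G} {R : Sylow p G}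
    (hx : x ^ (p ^ n) = 1) : x • R = R ↔ x ∈ (R : Subgroup G) := by
  have h1 : IsPGroup p (zpowers x) := by
    rintro ⟨y, hy⟩
    obtain ⟨k, rfl⟩ := mem_zpowers_iff.1 hy
    refine ⟨n, ?_⟩
    apply Subtype.ext
    show (x ^ k) ^ (p ^ n) = 1
    rw [← zpow_natCast, ← zpow_mul, mul_comm, zpow_mul, zpow_natCast, hx, one_zpow]
  have h2 := h1.inf_normalizer_sylow R
  rw [Sylow.smul_eq_iff_mem_normalizer]
  constructor
  · intro h
    have h3 : x ∈ zpowers x ⊓ normalizer ((R : Subgroup G) : Set G) := ⟨mem_zpowers x, h⟩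
    have h4 : x ∈ zpowers x ⊓ (R : Subgroup G) := h2 ▸ h3
    exact h4.2
  · intro h
    exact le_normalizer h

end Cfsg.Agent.Classification.SmallOrders.FixTools
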