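import Cfsg.Agent.Classification.SmallOrders.Tools

/-!
Counting fixed points on coset spaces, and parity, for involutions of a simple group.
-/

set_option autoImplicit false

namespace Cfsg.Agent.Classification.SmallOrders.Invol

open Subgroup MulAction

variable {G : Type*} [Group G] [Finite G]

theorem mem_zpowers_of_orderOf_two {G : Type*} [Group G] {t y : G} (ht : t ^ 2 = 1)
    (hy : y ∈ zpowers t) : y = 1 ∨ y = t := by
  obtain ⟨k, rfl⟩ := mem_zpowers_iff.1 hy
  have h2 : t ^ (2 : ℤ) = 1 := by exact_mod_cast ht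
  obtain ⟨m, hm | hm⟩ := Int.even_or_odd' k
  · left; rw [hm, zpow_mul, h2, one_zpow]
  · right; rw [hm, zpow_add, zpow_mul, h2, one_zpow, one_mul, zpow_one]

/-- `x` fixes `gH` iff `g⁻¹ x g ∈ H`. -/
theorem smul_mk_eq_iff {G : Type*} [Group G] (H : Subgroup G) (x g : G) :
    x • (g : G ⧸ H) = (g : G ⧸ H) ↔ g⁻¹ * x * g ∈ H := by
  constructor
  · intro h
    have h1 : ((x * g : G) : G ⧸ H) = (g : G ⧸ H) := h
    have h2 := QuotientGroup.eq.1 h1.symm
    rwa [← mul_assoc] at h2
  · intro h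
    show ((x * g : G) : G ⧸ H) = (g : G ⧸ H)
    rw [eq_comm, QuotientGroup.eq, ← mul_assoc]
    exact h

omit [Finite G] in
/-- `|Fix(x)| |H| = |{g | g⁻¹ x g ∈ H}|`. -/
theorem card_fixedBy_mul_card (H : Subgroup G) (x : G) :
    Nat.card (fixedBy (G ⧸ H) x) * Nat.card H = Nat.card {g : G // g⁻¹ * x * g ∈ H} := by
  rw [mul_comm, ← Nat.card_prod]
  refine (Nat.card_congr ((QuotientGroup.preimageMkEquivSubgroupProdSet H
    (fixedBy (G ⧸ H) x)).symm.trans (Equiv.subtypeEquivRight ?_)))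
  intro g
  show x • (g : G ⧸ H) = (g : G ⧸ H) ↔ _
  exact smul_mk_eq_iff H x g

omit [Finite G] in
/-- `|{g | g⁻¹ x g ∈ H}| = |C(x)| |x^G ∩ H|`. -/
theorem card_conj_mem (H : Set G) (x : G) :
    Nat.card {g : G // g⁻¹ * x * g ∈ H} =
      Nat.card (centralizer ({x} : Set G)) * Nat.card {y : G // IsConj x y ∧ y ∈ H} := by
  classical
  have hex : ∀ y : {y : G // IsConj x y ∧ y ∈ H}, ∃ g : G, g⁻¹ * x * g = y := by
    intro y
    obtain ⟨c, hc⟩ := isConj_iff.1 y.2.1
    exact ⟨c⁻¹, by rw [inv_inv]; exact hc⟩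
  choose f hf using hex
  rw [← Nat.card_prod]
  refine Nat.card_congr ⟨fun g => (⟨(g : G) * (f ⟨(g : G)⁻¹ * x * g, ?_, g.2⟩)⁻¹, ?_⟩,
    ⟨(g : G)⁻¹ * x * g, ?_, g.2⟩), fun z => ⟨(z.1 : G) * f z.2, ?_⟩, ?_, ?_⟩
  · exact isConj_iff.2 ⟨(g : G)⁻¹, by rw [inv_inv]⟩
  · rw [mem_centralizer_singleton_iff]
    have h1 := hf ⟨(g : G)⁻¹ * x * g, isConj_iff.2 ⟨(g : G)⁻¹, by rw [inv_inv]⟩, g.2⟩
    set w := f ⟨(g : G)⁻¹ * x * g, isConj_iff.2 ⟨(g : G)⁻¹, by rw [inv_inv]⟩, g.2⟩ with hw
    have h2 : w⁻¹ * x * w = (g : G)⁻¹ * x * g := h1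
    calc (g : G) * w⁻¹ * x = g * (w⁻¹ * x * w) * w⁻¹ := by group
      _ = g * ((g : G)⁻¹ * x * g) * w⁻¹ := by rw [h2]
      _ = x * (g * w⁻¹) := by group
  · exact isConj_iff.2 ⟨(g : G)⁻¹, by rw [inv_inv]⟩
  · have h1 := mem_centralizer_singleton_iff.1 z.1.2
    have h2 : ((z.1 : G) * f z.2)⁻¹ * x * ((z.1 : G) * f z.2) = (z.2 : G) := by
      calc ((z.1 : G) * f z.2)⁻¹ * x * ((z.1 : G) * f z.2)
          = (f z.2)⁻¹ * (z.1 : G)⁻¹ * (x * z.1) * f z.2 := by group
        _ = (f z.2)⁻¹ * (z.1 : G)⁻¹ * (z.1 * x) * f z.2 := by rw [h1]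
        _ = (f z.2)⁻¹ * x * f z.2 := by group
        _ = z.2 := hf z.2
    rw [h2]
    exact z.2.2.2
  · intro g
    apply Subtype.ext
    simp
  · intro z
    have h1 := mem_centralizer_singleton_iff.1 z.1.2
    have h2 : ((z.1 : G) * f z.2)⁻¹ * x * ((z.1 : G) * f z.2) = (z.2 : G) := by
      calc ((z.1 : G) * f z.2)⁻¹ * x * ((z.1 : G) * f z.2)
          = (f z.2)⁻¹ * (z.1 : G)⁻¹ * (x * z.1) * f z.2 := by group
        _ = (f z.2)⁻¹ * (z.1 : G)⁻¹ * (z.1 * x) * f z.2 := by rw [h1]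
        _ = (f z.2)⁻¹ * x * f z.2 := by group
        _ = z.2 := hf z.2
    refine Prod.ext ?_ (Subtype.ext h2)
    apply Subtype.ext
    simp only [h2, Subtype.coe_eta, mul_inv_cancel_right]

omit [Finite G] in
/-- `|Fix(x)| |H| = |C(x)| |x^G ∩ H|`. -/
theorem card_fixedBy (H : Subgroup G) (x : G) :
    Nat.card (fixedBy (G ⧸ H) x) * Nat.card H =
      Nat.card (centralizer ({x} : Set G)) * Nat.card {y : G // IsConj x y ∧ y ∈ H} :=
  (card_fixedBy_mul_card H x).trans (card_conj_mem (H : Set G) x)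

/-- Parity on the cosets of `H`. -/
theorem index_eq_add [IsSimpleGroup G] (h2 : 2 < Nat.card G) (H : Subgroup G) {t : G}
    (ht : t ^ 2 = 1) : ∃ k, H.index = Nat.card (fixedBy (G ⧸ H) t) + 4 * k := by
  obtain ⟨k, hk⟩ := SmallSimple.Parity.card_modEq_four (X := G ⧸ H) h2 t ht
  exact ⟨k, hk⟩

/-- In a simple group of order `> 2`, the centralizer order of an involution is congruent to the group
order modulo 8. -/
theorem card_eq_card_centralizer_add [IsSimpleGroup G] (h2 : 2 < Nat.card G) {t : G}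
    (ht : orderOf t = 2) : ∃ k, Nat.card G = Nat.card (centralizer ({t} : Set G)) + 8 * k := by
  obtain ⟨k, hk⟩ := index_eq_add h2 (zpowers t) (t := t) (by rw [← ht]; exact pow_orderOf_eq_one t)
  have h1 := card_fixedBy (zpowers t) t
  have hz : Nat.card (zpowers t) = 2 := by rw [Nat.card_zpowers, ht]
  have h3 : Nat.card {y : G // IsConj t y ∧ y ∈ zpowers t} = 1 := by
    rw [Nat.card_eq_one_iff_unique]
    refine ⟨⟨?_⟩, ⟨t, IsConj.refl t, mem_zpowers t⟩⟩
    have h4 : ∀ y : {y : G // IsConj t y ∧ y ∈ zpowers t}, (y : G) = t := by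
      rintro ⟨y, hy1, hy2⟩
      obtain ⟨c, hc⟩ := isConj_iff.1 hy1
      have hyo : orderOf y = 2 := by rw [← hc, Tools.orderOf_conj, ht]
      rcases mem_zpowers_of_orderOf_two (by rw [← ht]; exact pow_orderOf_eq_one t) hy2 with h | h
      · rw [h, orderOf_one] at hyo; omega
      · exact h
    intro a b
    exact Subtype.ext ((h4 a).trans (h4 b).symm)
  rw [h3, hz, mul_one] at h1
  have h4 := (zpowers t).card_mul_index
  rw [hz, hk] at h4
  exact ⟨k, by omega⟩

/-- If 8 divides the group order it divides the order of the centralizer of an involution. -/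
theorem eight_dvd_card_centralizer [IsSimpleGroup G] (h8 : 8 ∣ Nat.card G) {t : G}
    (ht : orderOf t = 2) : 8 ∣ Nat.card (centralizer ({t} : Set G)) := by
  have h2 : 2 < Nat.card G := by
    have := Nat.le_of_dvd Nat.card_pos h8
    omega
  obtain ⟨k, hk⟩ := card_eq_card_centralizer_add h2 ht
  omega

/-- In a simple group of order `> 2` not divisible by 8 all involutions are conjugate. -/
theorem isConj_of_not_dvd_eight [IsSimpleGroup G] (h2 : 2 < Nat.card G) (h8 : ¬ 8 ∣ Nat.card G)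
    {t u : G} (ht : orderOf t = 2) (hu : orderOf u = 2) : IsConj t u := by
  by_contra hcon
  apply h8
  obtain ⟨k, hk⟩ := index_eq_add h2 (zpowers u) (t := t) (by rw [← ht]; exact pow_orderOf_eq_one t)
  have h1 := card_fixedBy (zpowers u) t
  have hz : Nat.card (zpowers u) = 2 := by rw [Nat.card_zpowers, hu]
  have h3 : Nat.card {y : G // IsConj t y ∧ y ∈ zpowers u} = 0 := by
    have : IsEmpty {y : G // IsConj t y ∧ y ∈ zpowers u} := by
      constructor
      rintro ⟨y, hy1, hy2⟩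
      obtain ⟨c, hc⟩ := isConj_iff.1 hy1
      have hyo : orderOf y = 2 := by rw [← hc, Tools.orderOf_conj, ht]
      rcases mem_zpowers_of_orderOf_two (by rw [← hu]; exact pow_orderOf_eq_one u) hy2 with h | h
      · rw [h, orderOf_one] at hyo; omega
      · rw [h] at hy1; exact hcon hy1
    exact Nat.card_of_isEmpty
  rw [h3, hz, mul_zero] at h1
  have h4 := (zpowers u).card_mul_index
  rw [hz, hk] at h4
  have h5 : Nat.card (fixedBy (G ⧸ zpowers u) t) = 0 := by omega
  exact ⟨k, by omega⟩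

omit [Finite G] in
/-- The centralizer of a nonidentity element of a non-abelian simple group is proper. -/
theorem centralizer_ne_top [IsSimpleGroup G] (hG : ¬ IsMulCommutative G) {t : G} (ht : t ≠ 1) :
    centralizer ({t} : Set G) ≠ ⊤ := by
  intro h
  have h1 : t ∈ center G := by
    rw [mem_center_iff]
    intro g
    have h2 : g ∈ centralizer ({t} : Set G) := h ▸ mem_top g
    exact (mem_centralizer_singleton_iff.1 h2)
  rcases (inferInstance : (center G).Normal).eq_bot_or_eq_top with hc | hc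
  · rw [hc, mem_bot] at h1
    exact ht h1
  · apply hG
    refine ⟨⟨fun a b => ?_⟩⟩
    have : a ∈ center G := by rw [hc]; exact mem_top a
    exact ((mem_center_iff.1 this) b).symm

/-- Conjugate elements have centralizers of the same order. -/
theorem card_centralizer_eq_of_isConj {t u : G} (h : IsConj t u) :
    Nat.card (centralizer ({t} : Set G)) = Nat.card (centralizer ({u} : Set G)) := by
  have h1 := card_conj_mem (Set.univ : Set G) t
  have h2 := card_conj_mem (Set.univ : Set G) u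
  have h3 : Nat.card {y : G // IsConj t y ∧ y ∈ (Set.univ : Set G)} =
      Nat.card {y : G // IsConj u y ∧ y ∈ (Set.univ : Set G)} :=
    Nat.card_congr (Equiv.subtypeEquivRight fun y =>
      ⟨fun hy => ⟨h.symm.trans hy.1, hy.2⟩, fun hy => ⟨h.trans hy.1, hy.2⟩⟩)
  have h4 : Nat.card {g : G // g⁻¹ * t * g ∈ (Set.univ : Set G)} =
      Nat.card {g : G // g⁻¹ * u * g ∈ (Set.univ : Set G)} :=
    Nat.card_congr (Equiv.subtypeEquivRight fun y => by simp)
  rw [h4, h2, h3] at h1
  have h5 : 0 < Nat.card {y : G // IsConj u y ∧ y ∈ (Set.univ : Set G)} := by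
    have : Nonempty {y : G // IsConj u y ∧ y ∈ (Set.univ : Set G)} :=
      ⟨⟨u, IsConj.refl u, Set.mem_univ u⟩⟩
    exact Nat.card_pos
  exact (Nat.eq_of_mul_eq_mul_right h5 h1).symm

omit [Finite G] in
/-- `|C(x)| |x^G| = |G|`. -/
theorem card_centralizer_mul (x : G) :
    Nat.card (centralizer ({x} : Set G)) * Nat.card {y : G // IsConj x y} = Nat.card G := by
  have h1 := card_conj_mem (Set.univ : Set G) x
  have h2 : Nat.card {y : G // IsConj x y ∧ y ∈ (Set.univ : Set G)} =
      Nat.card {y : G // IsConj x y} :=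
    Nat.card_congr (Equiv.subtypeEquivRight fun y => by simp)
  have h3 : Nat.card {g : G // g⁻¹ * x * g ∈ (Set.univ : Set G)} = Nat.card G :=
    Nat.card_congr ((Equiv.subtypeUnivEquiv fun y => by simp))
  rw [h2, h3] at h1
  exact h1.symm

end Cfsg.Agent.Classification.SmallOrders.Invol
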