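import Cfsg.Agent.Classification.SmallOrders.SylowFix
import Cfsg.Agent.Classification.SmallOrders.Autom
import Cfsg.Agent.Classification.SmallOrders.Cands

/-!
No simple group of order 1008.
-/

set_option autoImplicit false

namespace Cfsg.Agent.Classification.SmallOrders.N1008

open Subgroup MulAction Cands Tools Invol Autom SylowFix

variable {G : Type*} [Group G] [Finite G]

/-- The involution centralizing `P` is unique if `|C(P)| = 2 |P|`, `|P|` odd. -/
theorem eq_of_mem_centralizer {P : Subgroup G} (hodd : ¬ 2 ∣ Nat.card P)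
    (hC : Nat.card (centralizer (P : Set G)) = Nat.card P * 2)
    (hle : P ≤ centralizer (P : Set G)) {t y : G} (ht : orderOf t = 2) (hy : orderOf y = 2)
    (htC : t ∈ centralizer (P : Set G)) (hyC : y ∈ centralizer (P : Set G)) : t = y := by
  have hidx : (P.subgroupOf (centralizer (P : Set G))).index = 2 := by
    have h1 := Subgroup.card_mul_index (P.subgroupOf (centralizer (P : Set G)))
    rw [← card_inf_eq, inf_eq_right.2 hle, hC] at h1
    have hpos : 0 < Nat.card P := Nat.card_pos
    exact Nat.eq_of_mul_eq_mul_left hpos h1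
  have hnot : ∀ z : G, orderOf z = 2 → z ∉ P := by
    intro z hz hzP
    apply hodd
    rw [← hz]
    exact Subgroup.orderOf_dvd_natCard _ hzP
  have h1 := Subgroup.mul_mem_iff_of_index_two hidx (a := ⟨t, htC⟩) (b := ⟨y, hyC⟩)
  rw [mem_subgroupOf, mem_subgroupOf, mem_subgroupOf] at h1
  have h2 : t * y ∈ P := h1.2 ⟨fun h => absurd h (hnot t ht), fun h => absurd h (hnot y hy)⟩
  have hcomm : Commute (t * y) y := mem_centralizer_iff.1 hyC _ h2
  have ht2 : t ^ 2 = 1 := by rw [← ht]; exact pow_orderOf_eq_one t
  have hy2 : y ^ 2 = 1 := by rw [← hy]; exact pow_orderOf_eq_one y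
  have hty : t = (t * y) * y := by rw [mul_assoc, ← sq, hy2, mul_one]
  have h3 : (t * y) ^ 2 = 1 := by
    have h4 : t ^ 2 = (t * y) ^ 2 * y ^ 2 := by
      conv_lhs => rw [hty]
      exact hcomm.mul_pow 2
    rw [ht2, hy2, mul_one] at h4
    exact h4.symm
  have h4 : t * y = 1 := by
    by_contra hne
    exact hnot _ (orderOf_eq_prime h3 hne) h2
  rw [hty, h4, one_mul]

/-- There is no simple group of order 1008. -/
theorem card_ne_1008 [IsSimpleGroup G] (hG : ¬ IsMulCommutative G) : Nat.card G ≠ 1008 := by
  intro hn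
  have hp2 : Fact (Nat.Prime 2) := ⟨by norm_num⟩
  have hp7 : Fact (Nat.Prime 7) := ⟨by norm_num⟩
  have hn7 : Nat.card G = 7 ^ 1 * 144 := by rw [hn]; norm_num
  have h7 := card_sylow_mem_cands (p := 7) hG (by norm_num) hn7 (by norm_num)
  rw [show cands 7 1 144 = [36] by decide +kernel, List.mem_singleton] at h7
  obtain ⟨P⟩ : Nonempty (Sylow 7 G) := inferInstance
  have hPcard : Nat.card P = 7 := SmallSimple.SylowPrimeInvol.card_sylow_of_card_eq P hn7 (by norm_num)
  have hNP : Nat.card (normalizer ((P : Subgroup G) : Set G)) = 7 * 4 := by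
    have := card_sylow_mul_card_normalizer P hn h7
    omega
  obtain ⟨e, f, he1, he2, he3, he4, -⟩ := automizer_prime hG P hPcard hNP
  have hf : f = 2 := by
    have : e ≤ 6 := Nat.le_of_dvd (by norm_num) he1
    interval_cases e <;> omega
  rw [hf] at he4
  obtain ⟨t, ht, htP⟩ : ∃ t : G, orderOf t = 2 ∧ t ∈ centralizer ((P : Subgroup G) : Set G) := by
    obtain ⟨x, hx⟩ : ∃ x : centralizer ((P : Subgroup G) : Set G), orderOf x = 2 :=
      exists_prime_orderOf_dvd_card' 2 (by rw [he4]; norm_num)
    exact ⟨x, by rw [Subgroup.orderOf_coe, hx], x.2⟩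
  have hPle : (P : Subgroup G) ≤ centralizer ((P : Subgroup G) : Set G) := by
    have hc : IsCyclic P := isCyclic_of_prime_card hPcard
    intro x hx
    rw [mem_centralizer_iff]
    intro y hy
    exact congrArg Subtype.val (hc.isMulCommutative.is_comm.comm (⟨y, hy⟩ : P) ⟨x, hx⟩)
  -- order of `C(t)`
  have h2 : 2 < Nat.card G := by rw [hn]; norm_num
  have ht1 : t ≠ 1 := by rintro rfl; simp at ht
  have hc7 : 7 ∣ Nat.card (centralizer ({t} : Set G)) := by
    have := Subgroup.card_dvd_of_le (zpowers_le_centralizer_iff.1 htP)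
    rwa [hPcard] at this
  have hc8 : 8 ∣ Nat.card (centralizer ({t} : Set G)) :=
    eight_dvd_card_centralizer (by rw [hn]; norm_num) ht
  have hidx := le_index hG (k := 8) hn (by decide) _ (centralizer_ne_top hG ht1)
  have hmul := (centralizer ({t} : Set G)).card_mul_index
  rw [hn] at hmul
  obtain ⟨j, hj⟩ : 56 ∣ Nat.card (centralizer ({t} : Set G)) := by omega
  have hj2 : j ≤ 2 := by
    rw [hj] at hmul
    by_contra hcon
    push Not at hcon
    have : 56 * 3 * 8 ≤ 56 * j * (centralizer ({t} : Set G)).index :=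
      Nat.mul_le_mul (by omega) hidx
    omega
  -- fixed points on the Sylow 7-subgroups
  have hfix1 := SmallSimple.SylowPrimeCount.card_fixedBy_modEq_one P htP
  have hfix2 := SmallSimple.SylowPrimeCount.card_fixedBy_lt (p := 7) (by rw [h7]; norm_num) ht1
  obtain ⟨k, hk⟩ := card_sylow_eq_add h2 7 ht
  have hfix3 := card_fixedBy_sylow P t
  rw [h7] at hk hfix2
  unfold Nat.ModEq at hfix1
  have hfix : Nat.card (fixedBy (Sylow 7 G) t) = 8 := by omega
  rw [hfix, hNP, hj] at hfix3
  -- all conjugates of `t` in `N(P)` centralize `P`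
  have hsub : Nat.card {y : G // IsConj t y ∧ y ∈ normalizer ((P : Subgroup G) : Set G)} ≤ 1 := by
    have hsub : Subsingleton {y : G // IsConj t y ∧ y ∈ normalizer ((P : Subgroup G) : Set G)} := by
      have key : ∀ y : {y : G // IsConj t y ∧ y ∈ normalizer ((P : Subgroup G) : Set G)},
          t = (y : G) := by
        rintro ⟨y, hy1, hy2⟩
        have hyo : orderOf y = 2 := by
          obtain ⟨c, hc⟩ := isConj_iff.1 hy1
          rw [← hc, orderOf_conj, ht]
        by_cases hyC : y ∈ centralizer ((P : Subgroup G) : Set G)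
        · refine eq_of_mem_centralizer (P := (P : Subgroup G)) ?_ ?_ hPle ht hyo htP hyC
          · rw [show Nat.card (P : Subgroup G) = 7 from hPcard]; norm_num
          · rw [he4, show Nat.card (P : Subgroup G) = 7 from hPcard]
        · exfalso
          have h3 := le_card_conj hp7.out hPcard hy2 hyC
          have h4 : Nat.card {z : G // IsConj y z ∧ z ∈ normalizer ((P : Subgroup G) : Set G)} =
              Nat.card {z : G // IsConj t z ∧ z ∈ normalizer ((P : Subgroup G) : Set G)} :=
            Nat.card_congr (Equiv.subtypeEquivRight fun z =>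
              ⟨fun hz => ⟨hy1.trans hz.1, hz.2⟩, fun hz => ⟨hy1.symm.trans hz.1, hz.2⟩⟩)
          rw [h4] at h3
          have h5 : j ≠ 0 := by rintro rfl; omega
          have h6 : 56 * 1 * 7 ≤ 56 * j *
              Nat.card {z : G // IsConj t z ∧ z ∈ normalizer ((P : Subgroup G) : Set G)} :=
            Nat.mul_le_mul (by omega) h3
          omega
      exact ⟨fun a b => Subtype.ext ((key a).symm.trans (key b))⟩
    exact Finite.card_le_one_iff_subsingleton.2 hsub
  have h5 : 56 * j * Nat.card {y : G // IsConj t y ∧ y ∈ normalizer ((P : Subgroup G) : Set G)} ≤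
      56 * 2 * 1 := Nat.mul_le_mul (by omega) hsub
  omega

end Cfsg.Agent.Classification.SmallOrders.N1008
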