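import Cfsg.Agent.Classification.SmallOrders.SylowFix
import Cfsg.Agent.Classification.SmallOrders.Count
import Cfsg.Agent.Classification.SmallOrders.Cands

/-!
No simple group of order 1040.
-/

set_option autoImplicit false

namespace Cfsg.Agent.Classification.SmallOrders.N1040

open Subgroup MulAction Cands Tools Invol Autom SylowFix SmallOrders.Count

variable {G : Type*} [Group G] [Finite G]

/-- A subgroup of order 8 of the normalizer of a group `P` of order 5 with `|S ∩ C(P)| ≤ 2` has at most 4
elements `y` with `y ^ 2 = 1`. -/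
theorem card_sq_eq_one_le {P S : Subgroup G} (hP : Nat.card P = 5)
    (hS : Nat.card S = 2 ^ 3) (hSP : S ≤ normalizer (P : Set G))
    (hle : Nat.card (S ⊓ centralizer (P : Set G) : Subgroup G) ≤ 2) :
    Nat.card {y : G // y ∈ S ∧ y ^ 2 = 1} ≤ 4 := by
  have hp5 : Fact (Nat.Prime 5) := ⟨by norm_num⟩
  have hcomm := comm_of_card_inf_le_two hP hSP hle
  -- the image of `S` in `Aut P` has order at least 4
  have hker : Nat.card (act P S hSP).ker = Nat.card (S ⊓ centralizer (P : Set G) : Subgroup G) := by
    refine Nat.card_congr ⟨fun x => ⟨(x : S), (x : S).2, (mem_ker_act hSP _).1 x.2⟩,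
      fun x => ⟨⟨x, x.2.1⟩, (mem_ker_act hSP _).2 x.2.2⟩, ?_, ?_⟩
    · intro x; rfl
    · intro x; rfl
  have hrange : 4 ≤ Nat.card (act P S hSP).range := by
    have h2 := Subgroup.card_mul_index (act P S hSP).ker
    rw [Subgroup.index_ker, hker, hS] at h2
    by_contra h3
    push Not at h3
    nlinarith
  have hcyc := isCyclic_mulAut hP
  have h4 : Nat.card (MulAut P) = 4 := by
    have hc : IsCyclic P := isCyclic_of_prime_card hP
    rw [hc.card_mulAut, hP]; decide
  have hsurj : (act P S hSP).range = ⊤ :=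
    Subgroup.eq_top_of_le_card _ (by rw [h4]; exact hrange)
  obtain ⟨g, hg⟩ := hcyc.exists_generator
  have hgo : orderOf g = 4 := by
    rw [← h4]; exact orderOf_eq_card_of_forall_mem_zpowers hg
  obtain ⟨x, hx⟩ : g ∈ (act P S hSP).range := hsurj ▸ mem_top g
  have hxo : 4 ∣ orderOf x := by
    rw [← hgo, ← hx]; exact orderOf_map_dvd _ x
  let Ω : Subgroup S :=
    { carrier := {y : S | y ^ 2 = 1}
      mul_mem' := fun {a b} ha hb => by
        have : (a * b) ^ 2 = a ^ 2 * b ^ 2 := (show Commute a b from hcomm a b).mul_pow 2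
        show (a * b) ^ 2 = 1
        rw [this, show a ^ 2 = 1 from ha, show b ^ 2 = 1 from hb, mul_one]
      one_mem' := by show (1 : S) ^ 2 = 1; rw [one_pow]
      inv_mem' := fun {a} ha => by
        show (a⁻¹) ^ 2 = 1
        rw [inv_pow, show a ^ 2 = 1 from ha, inv_one] }
  have h1 : Nat.card Ω ∣ 2 ^ 3 := by rw [← hS]; exact Ω.card_subgroup_dvd_card
  have h2 : Nat.card Ω ≠ 8 := by
    intro h
    have h3 : Ω = ⊤ := Subgroup.eq_top_of_card_eq _ (by rw [h, hS]; norm_num)
    have h5 : x ∈ Ω := h3 ▸ mem_top x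
    have h6 : x ^ 2 = 1 := h5
    have := hxo.trans (orderOf_dvd_of_pow_eq_one h6)
    omega
  have h3 : Nat.card {y : G // y ∈ S ∧ y ^ 2 = 1} = Nat.card Ω := by
    refine Nat.card_congr ⟨fun y => ⟨⟨y, y.2.1⟩, Subtype.ext y.2.2⟩,
      fun y => ⟨y, y.1.2, congrArg Subtype.val y.2⟩, ?_, ?_⟩
    · intro y; rfl
    · intro y; rfl
  rw [h3]
  obtain ⟨i, hi, hi'⟩ := (Nat.dvd_prime_pow Nat.prime_two).1 h1
  rw [hi'] at h2 ⊢
  interval_cases i <;> omega

/-- There is no simple group of order 1040. -/
theorem card_ne_1040 [IsSimpleGroup G] (hG : ¬ IsMulCommutative G) : Nat.card G ≠ 1040 := by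
  intro hn
  have hp2 : Fact (Nat.Prime 2) := ⟨by norm_num⟩
  have hp5 : Fact (Nat.Prime 5) := ⟨by norm_num⟩
  have hp13 : Fact (Nat.Prime 13) := ⟨by norm_num⟩
  have hn2 : Nat.card G = 2 ^ 4 * 65 := by rw [hn]; norm_num
  have hn5 : Nat.card G = 5 ^ 1 * 208 := by rw [hn]; norm_num
  have hn13 : Nat.card G = 13 ^ 1 * 80 := by rw [hn]; norm_num
  have h5 := card_sylow_mem_cands (p := 5) hG (by norm_num) hn5 (by norm_num)
  have h13 := card_sylow_mem_cands (p := 13) hG (by norm_num) hn13 (by norm_num)
  rw [show cands 5 1 208 = [26] by decide +kernel, List.mem_singleton] at h5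
  rw [show cands 13 1 80 = [40] by decide +kernel, List.mem_singleton] at h13
  have hP5 : ∀ P : Sylow 5 G, Nat.card P = 5 := fun P =>
    SmallSimple.SylowPrimeInvol.card_sylow_of_card_eq P hn5 (by norm_num)
  have hP13 : ∀ P : Sylow 13 G, Nat.card P = 13 := fun P =>
    SmallSimple.SylowPrimeInvol.card_sylow_of_card_eq P hn13 (by norm_num)
  have hN5 : ∀ P : Sylow 5 G, Nat.card (normalizer ((P : Subgroup G) : Set G)) = 5 * 8 := by
    intro P
    have := card_sylow_mul_card_normalizer P hn h5
    omega
  have hN13 : ∀ P : Sylow 13 G, Nat.card (normalizer ((P : Subgroup G) : Set G)) = 13 * 2 := by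
    intro P
    have := card_sylow_mul_card_normalizer P hn h13
    omega
  have hC13 : ∀ P : Sylow 13 G, Nat.card (centralizer ((P : Subgroup G) : Set G)) = 13 * 1 := by
    intro P
    obtain ⟨e, f, he1, he2, he3, he4, -⟩ := automizer_prime hG P (hP13 P) (hN13 P)
    have hf : f = 1 := by
      have : e ≤ 12 := Nat.le_of_dvd (by norm_num) he1
      interval_cases e <;> omega
    rw [he4, hf]
  have h2 : 2 < Nat.card G := by rw [hn]; norm_num
  -- (i) the involution `t` inverting a Sylow 13-subgroup
  obtain ⟨t, ht, hct⟩ : ∃ t : G, orderOf t = 2 ∧ Nat.card (centralizer ({t} : Set G)) = 8 := by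
    obtain ⟨P⟩ : Nonempty (Sylow 13 G) := inferInstance
    obtain ⟨x, hx⟩ : ∃ x : normalizer ((P : Subgroup G) : Set G), orderOf x = 2 :=
      exists_prime_orderOf_dvd_card' 2 (by rw [hN13 P]; norm_num)
    have hxo : orderOf (x : G) = 2 := by rw [Subgroup.orderOf_coe, hx]
    have hxC : (x : G) ∉ centralizer ((P : Subgroup G) : Set G) := by
      intro hxC
      have h1 := Subgroup.orderOf_dvd_natCard _ hxC
      rw [hxo, hC13 P] at h1
      omega
    refine ⟨x, hxo, ?_⟩
    have h1 := SmallSimple.SylowPrimeCount.mul_card_fixedBy_le P (hP13 P) x.2 hxC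
    have h3 := card_fixedBy_sylow P (x : G)
    have h4 := le_card_conj hp13.out (hP13 P) x.2 hxC
    rw [h13] at h1
    rw [hN13 P] at h3
    have h6 : Nat.card (centralizer ({(x : G)} : Set G)) ≤ 8 := by nlinarith
    have h7 : 8 ∣ Nat.card (centralizer ({(x : G)} : Set G)) :=
      eight_dvd_card_centralizer (by rw [hn]; norm_num) hxo
    have h8 : 0 < Nat.card (centralizer ({(x : G)} : Set G)) := Nat.card_pos
    omega
  -- (ii) involutions commuting with an element of order 5
  have hii : ∀ s : G, orderOf s = 2 → 5 ∣ Nat.card (centralizer ({s} : Set G)) →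
      Nat.card (centralizer ({s} : Set G)) = 40 := by
    intro s hs hs5
    have h7 : 8 ∣ Nat.card (centralizer ({s} : Set G)) :=
      eight_dvd_card_centralizer (by rw [hn]; norm_num) hs
    obtain ⟨j, hj⟩ : 40 ∣ Nat.card (centralizer ({s} : Set G)) := by omega
    have hidx := le_index hG (k := 13) hn (by decide) _
      (centralizer_ne_top hG (t := s) (by rintro rfl; simp at hs))
    have hmul := (centralizer ({s} : Set G)).card_mul_index
    rw [hn, hj] at hmul
    have hj2 : j ≤ 2 := by
      by_contra hcon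
      push Not at hcon
      have : 40 * 3 * 13 ≤ 40 * j * (centralizer ({s} : Set G)).index :=
        Nat.mul_le_mul (by omega) hidx
      omega
    have hj0 : j ≠ 0 := by rintro rfl; omega
    have hj1 : j ≠ 2 := by
      intro hj2
      -- a Sylow 5-subgroup in `C(s)`
      obtain ⟨K, hK1, hK2⟩ := exists_le_card_eq (p := 5) (k := 1) (centralizer ({s} : Set G))
        (by rw [pow_one]; exact hs5)
      obtain ⟨P, hP⟩ := (IsPGroup.of_card hK2).exists_le_sylow
      have hKP : K = (P : Subgroup G) :=
        Subgroup.eq_of_le_of_card_ge hP (by rw [hK2, show Nat.card (P : Subgroup G) = 5 from hP5 P]; norm_num)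
      rw [hKP] at hK1
      obtain ⟨d, hd1, -, hd3⟩ := exists_card_eq_mul P _ hK1
      have hsP : s ∈ centralizer ((P : Subgroup G) : Set G) := zpowers_le_centralizer_iff.2 hK1
      have hd5 : 5 ∣ Nat.card (centralizer ({s} : Set G) ⊓
          normalizer ((P : Subgroup G) : Set G) : Subgroup G) := by
        have := Subgroup.card_dvd_of_le (le_inf hK1 (Subgroup.le_normalizer (H := (P : Subgroup G))))
        rwa [show Nat.card (P : Subgroup G) = 5 from hP5 P] at this
      have hd2 : 2 ∣ Nat.card (centralizer ({s} : Set G) ⊓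
          normalizer ((P : Subgroup G) : Set G) : Subgroup G) := by
        rw [← hs]
        apply Subgroup.orderOf_dvd_natCard
        exact mem_inf.2 ⟨mem_centralizer_singleton_iff.2 rfl, Tools.centralizer_le_normalizer _ hsP⟩
      obtain ⟨c, hc⟩ : 10 ∣ Nat.card (centralizer ({s} : Set G) ⊓
          normalizer ((P : Subgroup G) : Set G) : Subgroup G) := by omega
      rw [hj, hj2, hc] at hd3
      have hdc : d * c = 8 := by nlinarith
      have hd8 : d ∣ 8 := Dvd.intro c hdc
      have hd : d = 1 := by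
        have : d ≤ 8 := Nat.le_of_dvd (by norm_num) hd8
        interval_cases d <;> omega
      have h9 : 80 ∣ Nat.card (normalizer ((P : Subgroup G) : Set G)) := by
        have h10 := Subgroup.card_dvd_of_le (inf_le_right : centralizer ({s} : Set G) ⊓
          normalizer ((P : Subgroup G) : Set G) ≤ _)
        rw [hc] at h10
        have : c = 8 := by rw [hd, one_mul] at hdc; exact hdc
        rwa [this] at h10
      rw [hN5 P] at h9
      norm_num at h9
    omega
  -- (iii) a 2-central involution
  obtain ⟨z, hz, hcz⟩ : ∃ z : G, orderOf z = 2 ∧ Nat.card (centralizer ({z} : Set G)) = 16 := by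
    obtain ⟨T⟩ : Nonempty (Sylow 2 G) := inferInstance
    have hT : Nat.card T = 2 ^ 4 := SmallSimple.SylowPrimeInvol.card_sylow_of_card_eq T hn2 (by norm_num)
    have hTnt : Nontrivial (T : Subgroup G) := by
      rw [← Finite.one_lt_card_iff_nontrivial, show Nat.card (T : Subgroup G) = 2 ^ 4 from hT]
      norm_num
    have hcent : Nontrivial (center (T : Subgroup G)) := T.isPGroup'.center_nontrivial
    obtain ⟨z, hz⟩ : ∃ z : center (T : Subgroup G), orderOf z = 2 := by
      apply exists_prime_orderOf_dvd_card' 2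
      have h3 := (center (T : Subgroup G)).card_subgroup_dvd_card
      rw [show Nat.card (T : Subgroup G) = 2 ^ 4 from hT] at h3
      obtain ⟨i, hi, hi'⟩ := (Nat.dvd_prime_pow Nat.prime_two).1 h3
      rw [hi']
      have : i ≠ 0 := by
        rintro rfl
        have := Finite.one_lt_card (α := center (T : Subgroup G))
        rw [hi'] at this
        norm_num at this
      exact dvd_pow_self 2 this
    have hzo : orderOf ((z : (T : Subgroup G)) : G) = 2 := by
      rw [Subgroup.orderOf_coe, Subgroup.orderOf_coe, hz]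
    refine ⟨((z : (T : Subgroup G)) : G), hzo, ?_⟩
    have hTz : (T : Subgroup G) ≤ centralizer ({((z : (T : Subgroup G)) : G)} : Set G) := by
      intro y hy
      rw [mem_centralizer_singleton_iff]
      have := mem_center_iff.1 z.2 ⟨y, hy⟩
      exact congrArg Subtype.val this
    have h16 : 16 ∣ Nat.card (centralizer ({((z : (T : Subgroup G)) : G)} : Set G)) := by
      have := Subgroup.card_dvd_of_le hTz
      rw [show Nat.card (T : Subgroup G) = 2 ^ 4 from hT] at this
      exact this
    have hidx := le_index hG (k := 13) hn (by decide) _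
      (centralizer_ne_top hG (t := ((z : (T : Subgroup G)) : G)) (by
        intro h; rw [h, orderOf_one] at hzo; omega))
    have hmul := (centralizer ({((z : (T : Subgroup G)) : G)} : Set G)).card_mul_index
    rw [hn] at hmul
    have h5' := hii _ hzo
    obtain ⟨j, hj⟩ := h16
    rw [hj] at hmul h5' ⊢
    have hj65 : j ∣ 65 := by
      refine ⟨(centralizer ({((z : (T : Subgroup G)) : G)} : Set G)).index, ?_⟩
      have : 16 * 65 = 16 * (j * (centralizer ({((z : (T : Subgroup G)) : G)} : Set G)).index) := by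
        rw [← mul_assoc, hmul]
      exact Nat.eq_of_mul_eq_mul_left (by norm_num) this
    have hj5 : j ≤ 5 := by
      by_contra hcon
      push Not at hcon
      have : 16 * 6 * 13 ≤ 16 * j * (centralizer ({((z : (T : Subgroup G)) : G)} : Set G)).index :=
        Nat.mul_le_mul (by omega) hidx
      omega
    interval_cases j
    · omega
    · rfl
    · omega
    · omega
    · omega
    · have := h5' (by norm_num)
      omega
  have hcl : ∀ x : G, Nat.card (centralizer ({x} : Set G)) * Nat.card {y : G // IsConj x y} = 1040 :=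
    fun x => by rw [card_centralizer_mul, hn]
  have hclt : Nat.card {y : G // IsConj t y} = 130 := by
    have := hcl t; rw [hct] at this; omega
  have hclz : Nat.card {y : G // IsConj z y} = 65 := by
    have := hcl z; rw [hcz] at this; omega
  have horder : ∀ {x y : G}, IsConj x y → orderOf y = orderOf x := by
    intro x y hxy
    obtain ⟨c, hc⟩ := isConj_iff.1 hxy
    rw [← hc, orderOf_conj]
  -- (iv) `|C(P_5)| = 10`
  have hC5 : ∀ P : Sylow 5 G, Nat.card (centralizer ((P : Subgroup G) : Set G)) = 5 * 2 := by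
    intro P
    obtain ⟨e, f, he1, he2, he3, he4, -⟩ := automizer_prime hG P (hP5 P) (hN5 P)
    have hf : f = 4 ∨ f = 2 := by
      have : e ≤ 4 := Nat.le_of_dvd (by norm_num) he1
      interval_cases e <;> omega
    rcases hf with hf | hf
    swap
    · rw [he4, hf]
    exfalso
    have hC5 : ∀ Q : Sylow 5 G, Nat.card (centralizer ((Q : Subgroup G) : Set G)) = 5 * 4 := by
      intro Q
      rw [card_centralizer_sylow_eq Q P, he4, hf]
    have c13 := le_card_orderOf_dvd (p := 13) (f := 1) hP13 (fun P =>
      ⟨⊥, bot_le, Subgroup.card_bot⟩) (by norm_num)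
    have c5 := le_card_orderOf_dvd (p := 5) (f := 4) hP5 (fun P => by
      obtain ⟨T, hT1, hT2⟩ := exists_le_card_eq (p := 2) (k := 2)
        (centralizer ((P : Subgroup G) : Set G)) (by rw [hC5 P]; norm_num)
      exact ⟨T, hT1, hT2⟩) (by norm_num)
    rw [h13] at c13
    rw [h5] at c5
    have hdisj := card_add_card_add_card_le (s := {x : G | 13 ∣ orderOf x})
      (t := {x : G | 5 ∣ orderOf x}) (u := {y : G | IsConj t y} ∪ {y : G | IsConj z y})
      (Set.disjoint_left.2 fun x hx hx' => not_dvd_orderOf hP13 (q := 5)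
        (fun P => by rw [hC13 P]; norm_num) hx hx')
      (Set.disjoint_left.2 fun x hx hx' => by
        have hx1 : 13 ∣ orderOf x := hx
        rcases hx' with hx' | hx'
        · rw [horder hx', ht] at hx1; omega
        · rw [horder hx', hz] at hx1; omega)
      (Set.disjoint_left.2 fun x hx hx' => by
        have hx1 : 5 ∣ orderOf x := hx
        rcases hx' with hx' | hx'
        · rw [horder hx', ht] at hx1; omega
        · rw [horder hx', hz] at hx1; omega)
    have hunion : Nat.card ({y : G | IsConj t y} ∪ {y : G | IsConj z y} : Set G) = 195 := by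
      rw [Nat.card_coe_set_eq, Set.ncard_union_eq ?_ (Set.toFinite _) (Set.toFinite _)]
      · have e1 : ({y : G | IsConj t y}).ncard = 130 := hclt
        have e2 : ({y : G | IsConj z y}).ncard = 65 := hclz
        rw [e1, e2]
      · rw [Set.disjoint_left]
        intro x hx hx'
        have h1 : Nat.card (centralizer ({t} : Set G)) = Nat.card (centralizer ({z} : Set G)) :=
          card_centralizer_eq_of_isConj (IsConj.trans hx (IsConj.symm hx'))
        rw [hct, hcz] at h1
        omega
    rw [hunion, hn] at hdisj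
    have e13 : Nat.card ({x : G | 13 ∣ orderOf x} : Set G) = Nat.card {x : G // 13 ∣ orderOf x} := rfl
    have e5 : Nat.card ({x : G | 5 ∣ orderOf x} : Set G) = Nat.card {x : G // 5 ∣ orderOf x} := rfl
    omega
  -- (v)
  obtain ⟨P⟩ : Nonempty (Sylow 5 G) := inferInstance
  obtain ⟨s, hs, hcs⟩ : ∃ s : G, orderOf s = 2 ∧ Nat.card (centralizer ({s} : Set G)) = 40 := by
    obtain ⟨x, hx⟩ : ∃ x : centralizer ((P : Subgroup G) : Set G), orderOf x = 2 :=
      exists_prime_orderOf_dvd_card' 2 (by rw [hC5 P]; norm_num)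
    have hxo : orderOf (x : G) = 2 := by rw [Subgroup.orderOf_coe, hx]
    refine ⟨x, hxo, hii _ hxo ?_⟩
    have := Subgroup.card_dvd_of_le (zpowers_le_centralizer_iff.1 x.2)
    rwa [show Nat.card (P : Subgroup G) = 5 from hP5 P] at this
  obtain ⟨S, hS1, hS2⟩ := exists_le_card_eq (p := 2) (k := 3)
    (normalizer ((P : Subgroup G) : Set G)) (by rw [hN5 P]; norm_num)
  have hle : Nat.card (S ⊓ centralizer ((P : Subgroup G) : Set G) : Subgroup G) ≤ 2 := by
    have h3 := Subgroup.card_dvd_of_le
      (inf_le_left : S ⊓ centralizer ((P : Subgroup G) : Set G) ≤ S)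
    have h4 := Subgroup.card_dvd_of_le
      (inf_le_right : S ⊓ centralizer ((P : Subgroup G) : Set G) ≤ _)
    rw [hS2] at h3
    rw [hC5 P] at h4
    exact Nat.le_of_dvd (by norm_num) (Nat.dvd_gcd h3 h4)
  have hfew := card_sq_eq_one_le (hP5 P) hS2 hS1 hle
  have hSidx : S.index = 130 := by
    have := S.card_mul_index
    rw [hS2, hn] at this
    omega
  have ht2 : t ^ 2 = 1 := by rw [← ht]; exact pow_orderOf_eq_one t
  have hs2 : s ^ 2 = 1 := by rw [← hs]; exact pow_orderOf_eq_one s
  obtain ⟨k1, hk1⟩ := index_eq_add h2 S ht2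
  obtain ⟨k2, hk2⟩ := index_eq_add h2 S hs2
  have hf1 := card_fixedBy S t
  have hf2 := card_fixedBy S s
  rw [hS2, hct] at hf1
  rw [hS2, hcs] at hf2
  rw [hSidx] at hk1 hk2
  have hm1 : 2 ≤ Nat.card {y : G // IsConj t y ∧ y ∈ S} := by omega
  have hm2 : 2 ≤ Nat.card {y : G // IsConj s y ∧ y ∈ S} := by omega
  have hall : ({(1 : G)} ∪ ({y : G | IsConj t y ∧ y ∈ S} ∪ {y : G | IsConj s y ∧ y ∈ S})) ⊆
      {y : G | y ∈ S ∧ y ^ 2 = 1} := by
    rintro y (hy | hy | hy)
    · rw [Set.mem_singleton_iff] at hy
      rw [hy]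
      exact ⟨one_mem S, one_pow 2⟩
    · refine ⟨hy.2, ?_⟩
      rw [← ht, ← horder hy.1]
      exact pow_orderOf_eq_one y
    · refine ⟨hy.2, ?_⟩
      rw [← hs, ← horder hy.1]
      exact pow_orderOf_eq_one y
  have hcard := Set.ncard_le_ncard hall (Set.toFinite _)
  rw [Set.ncard_union_eq ?_ (Set.toFinite _) (Set.toFinite _),
    Set.ncard_union_eq ?_ (Set.toFinite _) (Set.toFinite _), Set.ncard_singleton] at hcard
  · have e1 : ({y : G | IsConj t y ∧ y ∈ S}).ncard = Nat.card {y : G // IsConj t y ∧ y ∈ S} := rfl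
    have e2 : ({y : G | IsConj s y ∧ y ∈ S}).ncard = Nat.card {y : G // IsConj s y ∧ y ∈ S} := rfl
    have e3 : ({y : G | y ∈ S ∧ y ^ 2 = 1}).ncard = Nat.card {y : G // y ∈ S ∧ y ^ 2 = 1} := rfl
    rw [e1, e2, e3] at hcard
    omega
  · rw [Set.disjoint_left]
    intro x hx hx'
    have h1 : Nat.card (centralizer ({t} : Set G)) = Nat.card (centralizer ({s} : Set G)) :=
      card_centralizer_eq_of_isConj (IsConj.trans hx.1 (IsConj.symm hx'.1))
    rw [hct, hcs] at h1
    omega
  · rw [Set.disjoint_left]
    rintro x hx (hx' | hx')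
    · rw [Set.mem_singleton_iff] at hx
      have h1 := horder hx'.1
      rw [hx, orderOf_one, ht] at h1
      omega
    · rw [Set.mem_singleton_iff] at hx
      have h1 := horder hx'.1
      rw [hx, orderOf_one, hs] at h1
      omega

end Cfsg.Agent.Classification.SmallOrders.N1040
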