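import Cfsg.Agent.Classification.SmallOrders.Tools
import Cfsg.Agent.Classification.SmallOrders.Cands

/-!
No simple group of order 1080.
-/

set_option autoImplicit false

namespace Cfsg.Agent.Classification.SmallOrders.N1080

open Subgroup MulAction Cands Tools

variable {G : Type*} [Group G] [Finite G]

/-- There is no simple group of order 1080. -/
theorem card_ne_1080 [IsSimpleGroup G] (hG : ¬ IsMulCommutative G) : Nat.card G ≠ 1080 := by
  intro hn
  have hp : Fact (Nat.Prime 5) := ⟨by norm_num⟩
  have hp3 : Fact (Nat.Prime 3) := ⟨by norm_num⟩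
  have hn' : Nat.card G = 5 ^ 1 * 216 := by rw [hn]; norm_num
  have h1 := card_sylow_mem_cands (p := 5) hG (by norm_num) hn' (by norm_num)
  have h2 : cands 5 1 216 = [36] := by decide +kernel
  rw [h2, List.mem_singleton] at h1
  obtain ⟨P⟩ : Nonempty (Sylow 5 G) := inferInstance
  have hPcard : Nat.card P = 5 := SmallSimple.SylowPrimeInvol.card_sylow_of_card_eq P hn' (by norm_num)
  have hN : Nat.card (normalizer ((P : Subgroup G) : Set G)) = 5 * 6 := by
    have := card_sylow_mul_card_normalizer P hn h1
    omega
  obtain ⟨e, f, he1, he2, he3, he4, -⟩ := automizer_prime hG P hPcard hN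
  have hf : f = 3 := by
    have : e ≤ 4 := Nat.le_of_dvd (by norm_num) he1
    interval_cases e
    · simp at he1
    · omega
    · omega
    · norm_num at he1
    · omega
  rw [hf] at he4
  -- an element of order 3 in the centralizer
  obtain ⟨x, hx⟩ : ∃ x : centralizer ((P : Subgroup G) : Set G), orderOf x = 3 :=
    exists_prime_orderOf_dvd_card' 3 (by rw [he4]; norm_num)
  have hxo : orderOf (x : G) = 3 := by rw [Subgroup.orderOf_coe, hx]
  have hle : normalizer ((P : Subgroup G) : Set G) ≤ normalizer ((zpowers (x : G) : Subgroup G) : Set G) := by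
    intro g hg
    have h3 : g * x * g⁻¹ ∈ centralizer ((P : Subgroup G) : Set G) := conj_mem_centralizer hg x.2
    have h4 : g * x * g⁻¹ ∈ zpowers (x : G) := by
      refine mem_zpowers_of_orderOf_eq_of_mem (p := 3) (K := centralizer ((P : Subgroup G) : Set G))
        ?_ ?_ x.2 h3 hxo ?_
      · refine card_sylow_eq_one (p := 3) (a := 1) (m := 5) (by rw [he4]; norm_num) (by norm_num) ?_
        decide
      · rw [he4]; norm_num
      · rw [orderOf_conj]; exact hxo
    exact mem_normalizer_zpowers h4
  set D : Subgroup G := zpowers (x : G) with hD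
  have hDcard : Nat.card D = 3 := by rw [hD, Nat.card_zpowers, hxo]
  have hne : normalizer (D : Set G) ≠ ⊤ := by
    apply normalizer_ne_top
    · intro h; rw [h, Subgroup.card_bot] at hDcard; omega
    · intro h; rw [h, Subgroup.card_top] at hDcard; omega
  have h9 : 3 ^ 2 ∣ Nat.card (normalizer (D : Set G)) :=
    Sylow.prime_pow_dvd_card_normalizer (n := 1) (by rw [hn]; norm_num) (by rw [hDcard]; norm_num)
  have h30 : 30 ∣ Nat.card (normalizer (D : Set G)) := by
    have := Subgroup.card_dvd_of_le hle
    rwa [hN] at this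
  have hidx := le_index hG (k := 9) hn (by decide) _ hne
  have hmul := (normalizer (D : Set G)).card_mul_index
  rw [hn] at hmul
  obtain ⟨d, hd1, hd2⟩ := exists_card_eq_mul_of_normalizer_le P _ hle
  rw [hN] at hd2
  have h90 : 90 ∣ Nat.card (normalizer (D : Set G)) := by omega
  obtain ⟨j, hj⟩ := h90
  have hj1 : j = 1 := by
    rw [hj] at hmul
    have : j ≤ 1 := by nlinarith
    have : j ≠ 0 := by rintro rfl; omega
    omega
  omega

end Cfsg.Agent.Classification.SmallOrders.N1080
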