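import Cfsg.Agent.Classification.SmallOrders.Invol
import Cfsg.Agent.Classification.SmallOrders.Autom
import Cfsg.Agent.Classification.SmallOrders.Cands

/-!
No simple group of order 420.
-/

set_option autoImplicit false

namespace Cfsg.Agent.Classification.SmallOrders.N420

open Subgroup MulAction Cands Tools Invol Autom

variable {G : Type*} [Group G] [Finite G]

/-- There is no simple group of order 420. -/
theorem card_ne_420 [IsSimpleGroup G] (hG : ¬ IsMulCommutative G) : Nat.card G ≠ 420 := by
  intro hn
  have hp2 : Fact (Nat.Prime 2) := ⟨by norm_num⟩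
  have hp5 : Fact (Nat.Prime 5) := ⟨by norm_num⟩
  have hp7 : Fact (Nat.Prime 7) := ⟨by norm_num⟩
  have hn2 : Nat.card G = 2 ^ 2 * 105 := by rw [hn]; norm_num
  have hn5 : Nat.card G = 5 ^ 1 * 84 := by rw [hn]; norm_num
  have hn7 : Nat.card G = 7 ^ 1 * 60 := by rw [hn]; norm_num
  have h5 := card_sylow_mem_cands (p := 5) hG (by norm_num) hn5 (by norm_num)
  have h7 := card_sylow_mem_cands (p := 7) hG (by norm_num) hn7 (by norm_num)
  rw [show cands 5 1 84 = [21] by decide +kernel, List.mem_singleton] at h5
  rw [show cands 7 1 60 = [15] by decide +kernel, List.mem_singleton] at h7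
  obtain ⟨P⟩ : Nonempty (Sylow 5 G) := inferInstance
  obtain ⟨Q⟩ : Nonempty (Sylow 7 G) := inferInstance
  have hPcard : Nat.card P = 5 := SmallSimple.SylowPrimeInvol.card_sylow_of_card_eq P hn5 (by norm_num)
  have hQcard : Nat.card Q = 7 := SmallSimple.SylowPrimeInvol.card_sylow_of_card_eq Q hn7 (by norm_num)
  have hNP : Nat.card (normalizer ((P : Subgroup G) : Set G)) = 5 * 4 := by
    have := card_sylow_mul_card_normalizer P hn h5
    omega
  have hNQ : Nat.card (normalizer ((Q : Subgroup G) : Set G)) = 7 * 4 := by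
    have := card_sylow_mul_card_normalizer Q hn h7
    omega
  -- an involution centralizing `Q`
  obtain ⟨t, ht, htQ⟩ : ∃ t : G, orderOf t = 2 ∧ t ∈ centralizer ((Q : Subgroup G) : Set G) := by
    obtain ⟨e, f, he1, he2, he3, he4, -⟩ := automizer_prime hG Q hQcard hNQ
    have hf : f = 2 := by
      have : e ≤ 6 := Nat.le_of_dvd (by norm_num) he1
      interval_cases e
      · simp at he1
      · omega
      · omega
      · omega
      · norm_num at he1
      · omega
      · omega
    obtain ⟨x, hx⟩ : ∃ x : centralizer ((Q : Subgroup G) : Set G), orderOf x = 2 :=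
      exists_prime_orderOf_dvd_card' 2 (by rw [he4, hf]; norm_num)
    exact ⟨x, by rw [Subgroup.orderOf_coe, hx], x.2⟩
  -- an involution centralizing `P`
  obtain ⟨u, hu, huP⟩ : ∃ t : G, orderOf t = 2 ∧ t ∈ centralizer ((P : Subgroup G) : Set G) := by
    obtain ⟨e, f, he1, he2, he3, he4, -⟩ := automizer_prime hG P hPcard hNP
    have hf : f = 2 ∨ f = 1 := by
      have : e ≤ 4 := Nat.le_of_dvd (by norm_num) he1
      interval_cases e
      · simp at he1
      · omega
      · omega
      · omega
      · omega
    rcases hf with hf | hf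
    · obtain ⟨x, hx⟩ : ∃ x : centralizer ((P : Subgroup G) : Set G), orderOf x = 2 :=
        exists_prime_orderOf_dvd_card' 2 (by rw [he4, hf]; norm_num)
      exact ⟨x, by rw [Subgroup.orderOf_coe, hx], x.2⟩
    · exfalso
      rw [hf] at he4
      obtain ⟨S, hS1, hS2⟩ := exists_le_card_eq (p := 2) (k := 2)
        (normalizer ((P : Subgroup G) : Set G)) (by rw [hNP]; norm_num)
      have h8 : S ⊓ centralizer ((P : Subgroup G) : Set G) = ⊥ := by
        rw [← Subgroup.card_eq_one]
        have h9 := Subgroup.card_dvd_of_le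
          (inf_le_left : S ⊓ centralizer ((P : Subgroup G) : Set G) ≤ S)
        have h10 := Subgroup.card_dvd_of_le
          (inf_le_right : S ⊓ centralizer ((P : Subgroup G) : Set G) ≤ _)
        rw [hS2] at h9
        rw [he4] at h10
        exact Nat.eq_one_of_dvd_coprimes (by norm_num) h9 h10
      have h9 := isCyclic_of_inf_eq_bot hPcard hS1 h8
      exact not_isCyclic_of_card hG (by norm_num) hn2 (by norm_num) S hS2 h9
  have hconj : IsConj t u := isConj_of_not_dvd_eight (by rw [hn]; norm_num) (by rw [hn]; norm_num) ht hu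
  have hc := card_centralizer_eq_of_isConj hconj
  have h1 : 7 ∣ Nat.card (centralizer ({t} : Set G)) := by
    have := Subgroup.card_dvd_of_le (zpowers_le_centralizer_iff.1 htQ)
    rwa [hQcard] at this
  have h2 : 5 ∣ Nat.card (centralizer ({u} : Set G)) := by
    have := Subgroup.card_dvd_of_le (zpowers_le_centralizer_iff.1 huP)
    rwa [hPcard] at this
  rw [← hc] at h2
  obtain ⟨k, hk⟩ := card_eq_card_centralizer_add (by rw [hn]; norm_num) ht
  have hmul := (centralizer ({t} : Set G)).card_mul_index
  have hidx := le_index hG (k := 7) hn (by decide) _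
    (centralizer_ne_top hG (t := t) (by rintro rfl; simp at ht))
  rw [hn] at hk hmul
  have h140 : 140 ∣ Nat.card (centralizer ({t} : Set G)) := by omega
  obtain ⟨j, hj⟩ := h140
  rw [hj] at hmul hk
  have : j ≠ 0 := by rintro rfl; omega
  have : 140 * 7 ≤ 140 * j * (centralizer ({t} : Set G)).index :=
    Nat.mul_le_mul (by omega) hidx
  omega

end Cfsg.Agent.Classification.SmallOrders.N420
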