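import Cfsg.Agent.Classification.SmallOrders.Tools
import Cfsg.Agent.Classification.SmallOrders.Cands

/-!
No simple group of order 480 or 960.
-/

set_option autoImplicit false

namespace Cfsg.Agent.Classification.SmallOrders.N480

open Subgroup MulAction Cands Tools

variable {G : Type*} [Group G] [Finite G]

/-- There is no simple group of order 480. -/
theorem card_ne_480 [IsSimpleGroup G] (hG : ¬ IsMulCommutative G) : Nat.card G ≠ 480 := by
  intro hn
  have hp : Fact (Nat.Prime 2) := ⟨Nat.prime_two⟩
  have hn' : Nat.card G = 2 ^ 5 * 15 := by rw [hn]; norm_num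
  have h1 := card_sylow_mem_cands (p := 2) hG (by norm_num) hn' (by norm_num)
  have h2 : cands 2 5 15 = [15] := by decide +kernel
  rw [h2, List.mem_singleton] at h1
  obtain ⟨P, Q, D, k, -, -, -, -, -, hne, hk, hkm, d, hd1, hd2, hd3⟩ :=
    exists_normalizer_of_not_modEq (by norm_num) hn' (by norm_num) (by rw [h1]; decide)
  have h3 := le_index hG (k := 6) hn (by decide) _ hne
  have h4 := (normalizer (D : Set G)).card_mul_index
  rw [hk, hn] at h4
  have h5 : k ≤ 2 := by nlinarith
  have h6 := Nat.le_of_dvd (by omega) hkm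
  have h7 : k ≠ 0 := by rintro rfl; simp at hkm
  have h8 := Nat.le_of_dvd (by omega) hd1
  omega

/-- There is no simple group of order 960. -/
theorem card_ne_960 [IsSimpleGroup G] (hG : ¬ IsMulCommutative G) : Nat.card G ≠ 960 := by
  intro hn
  have hp : Fact (Nat.Prime 2) := ⟨Nat.prime_two⟩
  have hn' : Nat.card G = 2 ^ 6 * 15 := by rw [hn]; norm_num
  have h1 := card_sylow_mem_cands (p := 2) hG (by norm_num) hn' (by norm_num)
  have h2 : cands 2 6 15 = [15] := by decide +kernel
  rw [h2, List.mem_singleton] at h1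
  obtain ⟨P, Q, D, k, -, -, -, -, -, hne, hk, hkm, d, hd1, hd2, hd3⟩ :=
    exists_normalizer_of_not_modEq (by norm_num) hn' (by norm_num) (by rw [h1]; decide)
  have h3 := le_index hG (k := 6) hn (by decide) _ hne
  have h4 := (normalizer (D : Set G)).card_mul_index
  rw [hk, hn] at h4
  have h5 : k ≤ 2 := by nlinarith
  have h6 := Nat.le_of_dvd (by omega) hkm
  have h7 : k ≠ 0 := by rintro rfl; simp at hkm
  have h8 := Nat.le_of_dvd (by omega) hd1
  omega

end Cfsg.Agent.Classification.SmallOrders.N480
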