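import Cfsg.Agent.Classification.SmallOrders.SylowFix
import Cfsg.Agent.Classification.SmallOrders.Autom
import Cfsg.Agent.Classification.SmallOrders.Cands

/-!
No simple group of order 612.
-/

set_option autoImplicit false

namespace Cfsg.Agent.Classification.SmallOrders.N612

open Subgroup MulAction Cands Tools Invol Autom SylowFix

variable {G : Type*} [Group G] [Finite G]

/-- There is no simple group of order 612. -/
theorem card_ne_612 [IsSimpleGroup G] (hG : ¬ IsMulCommutative G) : Nat.card G ≠ 612 := by
  intro hn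
  have hp2 : Fact (Nat.Prime 2) := ⟨by norm_num⟩
  have hp3 : Fact (Nat.Prime 3) := ⟨by norm_num⟩
  have hp17 : Fact (Nat.Prime 17) := ⟨by norm_num⟩
  have hn3 : Nat.card G = 3 ^ 2 * 68 := by rw [hn]; norm_num
  have hn17 : Nat.card G = 17 ^ 1 * 36 := by rw [hn]; norm_num
  have h3 := card_sylow_mem_cands (p := 3) hG (by norm_num) hn3 (by norm_num)
  have h17 := card_sylow_mem_cands (p := 17) hG (by norm_num) hn17 (by norm_num)
  rw [show cands 3 2 68 = [34] by decide +kernel, List.mem_singleton] at h3
  rw [show cands 17 1 36 = [18] by decide +kernel, List.mem_singleton] at h17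
  obtain ⟨P⟩ : Nonempty (Sylow 17 G) := inferInstance
  have hPcard : Nat.card P = 17 := SmallSimple.SylowPrimeInvol.card_sylow_of_card_eq P hn17 (by norm_num)
  have hNP : Nat.card (normalizer ((P : Subgroup G) : Set G)) = 17 * 2 := by
    have := card_sylow_mul_card_normalizer P hn h17
    omega
  -- an involution normalizing `P`
  obtain ⟨t, ht, htP, htC⟩ : ∃ t : G, orderOf t = 2 ∧ t ∈ normalizer ((P : Subgroup G) : Set G) ∧
      t ∉ centralizer ((P : Subgroup G) : Set G) := by
    obtain ⟨e, f, he1, he2, he3, he4, -⟩ := automizer_prime hG P hPcard hNP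
    have hf : f = 1 := by
      have h1 : e ∣ 2 := Dvd.intro_left f he3.symm
      rcases (Nat.dvd_prime Nat.prime_two).1 h1 with h | h
      · exact absurd h he2
      · rw [h] at he3; omega
    obtain ⟨x, hx⟩ : ∃ x : normalizer ((P : Subgroup G) : Set G), orderOf x = 2 :=
      exists_prime_orderOf_dvd_card' 2 (by rw [hNP]; norm_num)
    have hxo : orderOf (x : G) = 2 := by rw [Subgroup.orderOf_coe, hx]
    refine ⟨x, hxo, x.2, ?_⟩
    intro hxC
    have h1 := Subgroup.orderOf_dvd_natCard _ hxC
    rw [hxo, he4, hf] at h1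
    omega
  -- `|C(t)| ≤ 4`
  have hct : Nat.card (centralizer ({t} : Set G)) ≤ 4 := by
    have h1 := SmallSimple.SylowPrimeCount.mul_card_fixedBy_le P hPcard htP htC
    have h2 := card_fixedBy_sylow P t
    have h4 := le_card_conj hp17.out hPcard htP htC
    rw [h17] at h1
    rw [hNP] at h2
    nlinarith
  -- an involution commuting with an element of order 3
  obtain ⟨u, hu, hu3⟩ : ∃ u : G, orderOf u = 2 ∧ 3 ∣ Nat.card (centralizer ({u} : Set G)) := by
    obtain ⟨R, Q, D, k, hRQ, hD, hDcard, hRN, hQN, hne, hk, hkm, -⟩ :=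
      exists_normalizer_of_not_modEq (by norm_num) hn3 (by norm_num) (by rw [h3]; decide)
    have hcomm : ∀ S : Sylow 3 G, D ≤ S → (S : Subgroup G) ≤ centralizer (D : Set G) := by
      intro S hS x hx
      have h1 : Nat.card S = 3 ^ 2 := SmallSimple.SylowPrimeInvol.card_sylow_of_card_eq S hn3 (by norm_num)
      have h2 : IsMulCommutative S := IsPGroup.isMulCommutative_of_card_eq_prime_sq h1
      rw [mem_centralizer_iff]
      intro y hy
      exact congrArg Subtype.val (h2.is_comm.comm (⟨y, hS hy⟩ : S) ⟨x, hx⟩)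
    have hR := hcomm R (by rw [hD]; exact inf_le_left)
    have hQ := hcomm Q (by rw [hD]; exact inf_le_right)
    obtain ⟨d, hd1, hd2, hd3⟩ := exists_card_eq_mul R _ hR
    have hd : d ≠ 1 := by
      intro hd
      rw [hd] at hd2
      have hsub : Subsingleton (Sylow 3 ↥(centralizer (D : Set G))) :=
        (Nat.card_eq_one_iff_unique.1 hd2.symm).1
      have h1 : R.subtype hR = Q.subtype hQ := Subsingleton.elim _ _
      exact hRQ (Sylow.subtype_injective h1)
    have h9 : 9 ∣ Nat.card (centralizer (D : Set G) ⊓ normalizer ((R : Subgroup G) : Set G) :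
        Subgroup G) := by
      have h1 := Subgroup.card_dvd_of_le (le_inf hR (Subgroup.le_normalizer (H := (R : Subgroup G))))
      have h2 : Nat.card R = 3 ^ 2 := SmallSimple.SylowPrimeInvol.card_sylow_of_card_eq R hn3 (by norm_num)
      rwa [h2] at h1
    have hne' : centralizer (D : Set G) ≠ ⊤ := by
      intro h
      apply hne
      rw [eq_top_iff, ← h]
      exact Tools.centralizer_le_normalizer D
    have hidx := le_index hG (k := 17) hn (by decide) _ hne'
    have hmul := (centralizer (D : Set G)).card_mul_index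
    rw [hn] at hmul
    obtain ⟨c, hc⟩ := h9
    rw [hc] at hd3
    have hdc : d * (9 * c) ≤ 36 := by rw [← hd3]; nlinarith
    have hpos : 0 < Nat.card (centralizer (D : Set G) ⊓ normalizer ((R : Subgroup G) : Set G) :
        Subgroup G) := Nat.card_pos
    have hc0 : c ≠ 0 := by rintro rfl; omega
    have hd4 : 4 ≤ d := by omega
    have hc1 : c = 1 := by
      by_contra hc1
      have : 2 ≤ c := by omega
      have : 4 * (9 * 2) ≤ d * (9 * c) := Nat.mul_le_mul hd4 (by omega)
      omega
    have hd5 : d = 4 := by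
      rw [hc1, Nat.mul_one] at hdc
      omega
    rw [hd5, hc1] at hd3
    obtain ⟨x, hx⟩ : ∃ x : centralizer (D : Set G), orderOf x = 2 :=
      exists_prime_orderOf_dvd_card' 2 (by rw [hd3]; norm_num)
    refine ⟨x, by rw [Subgroup.orderOf_coe, hx], ?_⟩
    have h1 := Subgroup.card_dvd_of_le (zpowers_le_centralizer_iff.1 x.2)
    rw [hDcard] at h1
    exact (by norm_num : (3 : ℕ) ∣ 3 ^ (2 - 1)).trans h1
  have hconj : IsConj t u := isConj_of_not_dvd_eight (by rw [hn]; norm_num) (by rw [hn]; norm_num) ht hu
  rw [← card_centralizer_eq_of_isConj hconj] at hu3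
  obtain ⟨k, hk⟩ := card_eq_card_centralizer_add (by rw [hn]; norm_num) ht
  rw [hn] at hk
  omega

end Cfsg.Agent.Classification.SmallOrders.N612
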