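import Mathlib
import Cfsg.Agent.SmallSimple.Parity

/-!
Signs of permutations of 2-power order, through their numbers of fixed points.
-/

set_option autoImplicit false

namespace Cfsg.Agent.Classification.SmallOrders.PermSign

open Equiv Equiv.Perm MulAction

/-- A permutation preserving a predicate is the product of its two restrictions. -/
theorem sign_eq_mul {Ω : Type*} [Fintype Ω] [DecidableEq Ω] (σ : Perm Ω) (p : Ω → Prop)
    [DecidablePred p] (h : ∀ a, p (σ a) ↔ p a) :
    sign σ = sign (σ.subtypePerm h) *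
      sign (σ.subtypePerm (p := fun a => ¬ p a) (fun a => not_congr (h a))) := by
  rw [← sign_subtypeCongr]
  congr 1
  ext a
  by_cases ha : p a
  · rw [Perm.subtypeCongr.left_apply _ _ ha]; rfl
  · rw [Perm.subtypeCongr.right_apply _ _ ha]; rfl

/-- A permutation all of whose cycles have length `2 ^ (k + 1)` has sign `(-1) ^ b`, `b` the number of
cycles. -/
theorem exists_sign_eq {Ω : Type*} [Fintype Ω] [DecidableEq Ω] (σ : Perm Ω) (k : ℕ)
    (h1 : σ ^ (2 ^ (k + 1)) = 1) (h2 : ∀ a, (σ ^ (2 ^ k)) a ≠ a) :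
    ∃ b, Fintype.card Ω = 2 ^ (k + 1) * b ∧ sign σ = (-1) ^ b := by
  have hsupp : σ.support = Finset.univ := by
    ext a
    rw [Perm.mem_support]
    refine ⟨fun _ => Finset.mem_univ a, fun _ h => h2 a ?_⟩
    exact Perm.pow_apply_eq_self_of_apply_eq_self h _
  have hall : ∀ n ∈ σ.cycleType, n = 2 ^ (k + 1) := by
    intro n hn
    have hd : n ∣ 2 ^ (k + 1) :=
      (Perm.dvd_of_mem_cycleType hn).trans (orderOf_dvd_of_pow_eq_one h1)
    obtain ⟨j, hj, hj'⟩ := (Nat.dvd_prime_pow Nat.prime_two).1 hd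
    rcases Nat.lt_or_ge j (k + 1) with hlt | hge
    · exfalso
      rw [Perm.cycleType_def, Multiset.mem_map] at hn
      obtain ⟨c, hc, hc2⟩ := hn
      rw [← Finset.mem_def] at hc
      have hc' := hc
      rw [Perm.mem_cycleFactorsFinset_iff] at hc
      have hne : c.support.Nonempty := by
        rw [Finset.nonempty_iff_ne_empty]
        intro h
        rw [Perm.support_eq_empty_iff] at h
        exact hc.1.ne_one h
      obtain ⟨a, ha⟩ := hne
      apply h2 a
      have h3 : (σ ^ (2 ^ k)) a = (c ^ (2 ^ k)) a := by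
        have h4 := Perm.cycleOf_pow_apply_self σ a (2 ^ k)
        rw [← h4, Perm.cycle_is_cycleOf ha hc']
      rw [h3]
      have h5 : orderOf c = n := by
        rw [hc.1.orderOf]; exact hc2
      have h6 : orderOf c ∣ 2 ^ k := by
        rw [h5, hj']
        exact Nat.pow_dvd_pow 2 (by omega)
      rw [orderOf_dvd_iff_pow_eq_one.1 h6, Perm.one_apply]
    · rw [hj', show j = k + 1 by omega]
  have hrep : σ.cycleType = Multiset.replicate (Multiset.card σ.cycleType) (2 ^ (k + 1)) :=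
    Multiset.eq_replicate_card.2 hall
  have hc : Fintype.card Ω = 2 ^ (k + 1) * Multiset.card σ.cycleType := by
    have h3 := congrArg Multiset.sum hrep
    rw [Perm.sum_cycleType, hsupp, Finset.card_univ, Multiset.sum_replicate, smul_eq_mul] at h3
    rw [h3, mul_comm]
  refine ⟨Multiset.card σ.cycleType, hc, ?_⟩
  rw [Perm.sign_of_cycleType, Perm.sum_cycleType, hsupp, Finset.card_univ, hc, pow_add, pow_succ,
    mul_assoc, mul_comm, mul_comm (2 ^ k), mul_assoc, pow_mul, neg_one_sq, one_pow, mul_one]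

/-- The sign of a permutation with `σ ^ 4 = 1`. -/
theorem exists_sign_eq_of_pow_four {Ω : Type*} [Fintype Ω] [DecidableEq Ω] (σ : Perm Ω)
    (h : σ ^ 4 = 1) : ∃ a b, Nat.card {x : Ω // (σ ^ 2) x = x} = Nat.card {x : Ω // σ x = x} + 2 * a ∧
      Nat.card Ω = Nat.card {x : Ω // (σ ^ 2) x = x} + 4 * b ∧ sign σ = (-1) ^ (a + b) := by
  classical
  have hp : ∀ a, (σ ^ 2) (σ a) = σ a ↔ (σ ^ 2) a = a := by
    intro a
    rw [← Perm.mul_apply, ← pow_succ, pow_succ', Perm.mul_apply]
    exact ⟨fun h => σ.injective h, fun h => by rw [h]⟩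
  have hs := sign_eq_mul σ (fun a => (σ ^ 2) a = a) hp
  -- the restriction to the fixed points of the square
  set τ := σ.subtypePerm (p := fun a => (σ ^ 2) a = a) hp with hτ
  set ρ := σ.subtypePerm (p := fun a => ¬ (σ ^ 2) a = a) (fun a => not_congr (hp a)) with hρ
  have hτ2 : τ ^ 2 = 1 := by
    ext x
    have h2 : ((τ ^ 2) x : Ω) = (σ ^ 2) x.1 := by
      rw [hτ, Perm.subtypePerm_pow]; rfl
    rw [h2, x.2]; rfl
  have h1 := Perm.sign_of_pow_two_eq_one hτ2
  have hle : Fintype.card (Function.fixedPoints τ) ≤ Fintype.card {x : Ω // (σ ^ 2) x = x} :=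
    Fintype.card_subtype_le _
  have hpar : 2 ∣ Fintype.card {x : Ω // (σ ^ 2) x = x} - Fintype.card (Function.fixedPoints τ) := by
    have h3 := Equiv.Perm.card_fixedPoints τ
    have h4 := Equiv.Perm.two_dvd_card_support hτ2
    have h5 := Equiv.Perm.sum_cycleType_le τ
    rw [← Equiv.Perm.sum_cycleType] at h4
    rw [h3, Nat.sub_sub_self h5]
    exact h4
  have hfix : Nat.card {x : Ω // σ x = x} = Fintype.card (Function.fixedPoints τ) := by
    rw [← Nat.card_eq_fintype_card]
    refine Nat.card_congr ⟨fun x => ⟨⟨x.1, ?_⟩, ?_⟩, fun x => ⟨x.1.1, ?_⟩, ?_, ?_⟩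
    · rw [pow_two, Perm.mul_apply, x.2, x.2]
    · apply Subtype.ext
      exact x.2
    · exact congrArg Subtype.val x.2
    · intro x; rfl
    · intro x; rfl
  obtain ⟨a, ha⟩ := hpar
  obtain ⟨b, hb1, hb2⟩ := exists_sign_eq ρ 1 (by
    ext x
    have h4 : (σ ^ 4) x.1 = x.1 := by rw [h]; rfl
    rw [Perm.one_apply]
    have h5 : ((ρ ^ (2 ^ (1 + 1))) x : Ω) = (σ ^ (2 ^ (1 + 1))) x.1 := by
      rw [hρ, Perm.subtypePerm_pow]; rfl
    rw [h5]; exact h4) (by
    intro x hx
    apply x.2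
    have h5 : ((ρ ^ (2 ^ 1)) x : Ω) = (σ ^ (2 ^ 1)) x.1 := by
      rw [hρ, Perm.subtypePerm_pow]; rfl
    rw [hx] at h5
    exact h5.symm)
  refine ⟨a, b, ?_, ?_, ?_⟩
  · rw [hfix, Nat.card_eq_fintype_card]
    omega
  · have h6 := Fintype.card_subtype_compl (fun x : Ω => (σ ^ 2) x = x)
    have h7 : Fintype.card {x : Ω // (σ ^ 2) x = x} ≤ Fintype.card Ω := Fintype.card_subtype_le _
    rw [Nat.card_eq_fintype_card, Nat.card_eq_fintype_card]
    have h8 : Fintype.card {x : Ω // ¬ (σ ^ 2) x = x} = 2 ^ (1 + 1) * b := hb1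
    omega
  · rw [hs, hb2, h1, ha, Nat.mul_div_cancel_left _ (by norm_num), pow_add]

variable {G X : Type*} [Group G]

/-- Parity of elements of order dividing 4. -/
theorem exists_of_pow_four [IsSimpleGroup G] (h : 2 < Nat.card G) [MulAction G X] [Finite X] (x : G)
    (hx : x ^ 4 = 1) : ∃ a b, Nat.card (fixedBy X (x ^ 2)) = Nat.card (fixedBy X x) + 2 * a ∧
      Nat.card X = Nat.card (fixedBy X (x ^ 2)) + 4 * b ∧ Even (a + b) := by
  classical
  have := Fintype.ofFinite X
  have h1 := SmallSimple.Parity.unitsInt_hom_eq_one h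
    (Equiv.Perm.sign.comp (MulAction.toPermHom G X)) x
  have h2 : (MulAction.toPermHom G X x) ^ 4 = 1 := by rw [← map_pow, hx, map_one]
  obtain ⟨a, b, h3, h4, h5⟩ := exists_sign_eq_of_pow_four _ h2
  rw [← map_pow] at h3 h4
  refine ⟨a, b, h3, h4, ?_⟩
  have h6 : sign (MulAction.toPermHom G X x) = 1 := h1
  rw [h6] at h5
  by_contra hcon
  rw [Nat.not_even_iff_odd] at hcon
  rw [hcon.neg_one_pow] at h5
  exact absurd h5 (by decide)

/-- An element whose fixed points are those of its `2 ^ k`-th power, `x ^ (2 ^ (k + 1)) = 1`, moves a number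
of points divisible by `2 ^ (k + 2)`. -/
theorem exists_of_fixedBy_eq [IsSimpleGroup G] (h : 2 < Nat.card G) [MulAction G X] [Finite X]
    (x : G) (k : ℕ) (hx : x ^ (2 ^ (k + 1)) = 1) (hfix : ∀ a : X, (x ^ (2 ^ k)) • a = a → x • a = a) :
    ∃ b, Nat.card X = Nat.card (fixedBy X x) + 2 ^ (k + 2) * b := by
  classical
  have := Fintype.ofFinite X
  have h1 : sign (MulAction.toPermHom G X x) = 1 :=
    SmallSimple.Parity.unitsInt_hom_eq_one h (Equiv.Perm.sign.comp (MulAction.toPermHom G X)) x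
  have h2 : (MulAction.toPermHom G X x) ^ (2 ^ (k + 1)) = 1 := by rw [← map_pow, hx, map_one]
  set σ := MulAction.toPermHom G X x with hσ
  have hσa : ∀ a : X, σ a = x • a := fun a => rfl
  have hσpow : ∀ (n : ℕ) (a : X), (σ ^ n) a = (x ^ n) • a := by
    intro n a
    rw [hσ, ← map_pow]; rfl
  have hp : ∀ a, ¬ σ (σ a) = σ a ↔ ¬ σ a = a := fun a => not_congr σ.injective.eq_iff
  set ρ := σ.subtypePerm (p := fun a => ¬ σ a = a) hp with hρ
  have hρs : sign ρ = sign σ := by
    rw [hρ]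
    apply sign_subtypePerm
    intro a ha
    exact ha
  have hρpow : ∀ (n : ℕ) (a : {a : X // ¬ σ a = a}), ((ρ ^ n) a : X) = (σ ^ n) a.1 := by
    intro n a
    rw [hρ, Perm.subtypePerm_pow]; rfl
  obtain ⟨b, hb1, hb2⟩ := exists_sign_eq ρ k (by
    ext a
    rw [hρpow, h2]; rfl) (by
    intro a ha
    apply a.2
    have h5 := hρpow (2 ^ k) a
    rw [ha, hσpow] at h5
    exact hfix a.1 h5.symm)
  rw [hρs, h1] at hb2
  have heven : Even b := by
    by_contra hcon
    rw [Nat.not_even_iff_odd] at hcon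
    rw [hcon.neg_one_pow] at hb2
    exact absurd hb2 (by decide)
  obtain ⟨c, hc⟩ := heven
  refine ⟨c, ?_⟩
  have h6 := Fintype.card_subtype_compl (fun a : X => σ a = a)
  have h7 : Fintype.card {a : X // σ a = a} ≤ Fintype.card X := Fintype.card_subtype_le _
  have h8 : Nat.card (fixedBy X x) = Fintype.card {a : X // σ a = a} := by
    rw [← Nat.card_eq_fintype_card]
    rfl
  rw [h8, Nat.card_eq_fintype_card]
  have h9 : 2 ^ (k + 2) * c = 2 ^ (k + 1) * b := by rw [hc]; ring
  rw [h9]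
  omega

end Cfsg.Agent.Classification.SmallOrders.PermSign
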