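import Cfsg.Agent.Classification.SmallOrders.N720B
import Cfsg.Agent.Classification.SmallOrders.PermSign

/-!
No simple group of order 720.
-/

set_option autoImplicit false

namespace Cfsg.Agent.Classification.SmallOrders.N720

open Subgroup MulAction Cands Tools Invol Autom SylowFix AbelianSylow SmallOrders.Count FixTools

variable {G : Type*} [Group G] [Finite G]

omit [Finite G] in
theorem sq_eq_one {v : G} (hv : orderOf v = 2) : v ^ 2 = 1 := by
  rw [← hv]; exact pow_orderOf_eq_one v

/-- `≠ 1` elements of a Sylow 3-subgroup fix only this Sylow 3-subgroup. -/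
theorem eq_of_smul_eq [IsSimpleGroup G] (hG : ¬ IsMulCommutative G) (hn : Nat.card G = 720)
    {P R : Sylow 3 G} {y : G} (hy : y ∈ (P : Subgroup G)) (hy1 : y ≠ 1) (h : y • R = R) :
    R = P := by
  by_contra hne
  exact hy1 (ti hG hn hne ((smul_sylow_eq_iff (pow_nine hn hy)).1 h) hy)

/-- Involutions do not centralize elements `≠ 1` of Sylow 3-subgroups. -/
theorem not_comm [IsSimpleGroup G] (hG : ¬ IsMulCommutative G) (hn : Nat.card G = 720)
    {P : Sylow 3 G} {v y : G} (hv : orderOf v = 2) (hy : y ∈ (P : Subgroup G)) (hy1 : y ≠ 1) :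
    v * y ≠ y * v := by
  intro hc
  have hX := card_sylow_eq_ten hG hn
  have hv1 : v ≠ 1 := by rintro rfl; simp at hv
  have hvP : v • P = P := by
    by_contra hne
    have h1 : y ∈ ((v • P : Sylow 3 G) : Subgroup G) := by
      refine ⟨y, hy, ?_⟩
      show v * y * v⁻¹ = y
      rw [hc, mul_inv_cancel_right]
    exact hy1 (ti hG hn hne h1 hy)
  have h1 := card_fixedBy_modEq (X := Sylow 3 G) (p := 3) (pow_nine hn hy) hc
  have h2 : Nat.card {a : Sylow 3 G // v • a = a ∧ y • a = a} = 1 := by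
    rw [Nat.card_eq_one_iff_unique]
    refine ⟨⟨?_⟩, ⟨P, hvP, (smul_sylow_eq_iff (pow_nine hn hy)).2 hy⟩⟩
    rintro ⟨a, ha⟩ ⟨b, hb⟩
    apply Subtype.ext
    exact (eq_of_smul_eq hG hn hy hy1 ha.2).trans (eq_of_smul_eq hG hn hy hy1 hb.2).symm
  obtain ⟨k, hk⟩ := card_sylow_eq_add (by rw [hn]; norm_num) 3 hv
  have h3 := SmallSimple.SylowPrimeCount.card_fixedBy_lt (p := 3) (by rw [hX]; norm_num) hv1
  rw [h2] at h1
  unfold Nat.ModEq at h1
  omega

/-- Involutions of `N(P)` invert `P`. -/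
theorem conj_eq_inv [IsSimpleGroup G] (hG : ¬ IsMulCommutative G) (hn : Nat.card G = 720)
    {P : Sylow 3 G} {v y : G} (hv : orderOf v = 2) (hvP : v ∈ normalizer ((P : Subgroup G) : Set G))
    (hy : y ∈ (P : Subgroup G)) : v * y * v⁻¹ = y⁻¹ := by
  have hvy : v * y * v⁻¹ ∈ (P : Subgroup G) := (mem_normalizer_iff.1 hvP y).1 hy
  have hv2 : v * v = 1 := by rw [← pow_two]; exact sq_eq_one hv
  have hvi : v⁻¹ = v := by rw [inv_eq_iff_mul_eq_one]; exact hv2
  have h1 : v * (y * (v * y * v⁻¹)) = y * (v * y * v⁻¹) * v := by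
    have h2 : (v * y * v⁻¹) * y = y * (v * y * v⁻¹) := comm_of_mem (card_sylow_three hn P) hvy hy
    calc v * (y * (v * y * v⁻¹)) = v * y * v * y * v⁻¹ := by group
      _ = (v * y * v⁻¹) * y * v := by rw [hvi]
      _ = y * (v * y * v⁻¹) * v := by rw [h2]
  have h3 : y * (v * y * v⁻¹) = 1 := by
    by_contra hne
    exact not_comm hG hn hv (mul_mem hy hvy) hne h1
  exact eq_inv_of_mul_eq_one_right h3

theorem mem_of_mem_centralizer [IsSimpleGroup G] (hG : ¬ IsMulCommutative G)
    (hn : Nat.card G = 720) {P : Sylow 3 G} {c : G}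
    (hc : c ∈ centralizer ((P : Subgroup G) : Set G)) : c ∈ (P : Subgroup G) := by
  have hPC : (P : Subgroup G) ≤ centralizer ((P : Subgroup G) : Set G) :=
    le_centralizer_of_le (card_sylow_three hn P) le_rfl
  have hP9 : Nat.card (P : Subgroup G) = 9 := card_sylow_three hn P
  have h1 := Subgroup.card_dvd_of_le hPC
  rw [hP9] at h1
  have h2 := Subgroup.card_dvd_of_le (centralizer_le_normalizer (P : Subgroup G))
  rw [card_normalizer_three hG hn P] at h2
  have h3 : ¬ 2 ∣ Nat.card (centralizer ((P : Subgroup G) : Set G)) := by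
    intro h
    obtain ⟨v, hv⟩ := exists_prime_orderOf_dvd_card' (G := centralizer ((P : Subgroup G) : Set G)) 2 h
    have hP1 : (P : Subgroup G) ≠ ⊥ := by
      intro h; rw [h, Subgroup.card_bot] at hP9; omega
    obtain ⟨y, hy⟩ := Subgroup.ne_bot_iff_exists_ne_one.1 hP1
    exact not_comm hG hn (v := v) (by rw [Subgroup.orderOf_coe, hv]) y.2
      (fun h => hy (Subtype.ext h)) (mem_centralizer_iff.1 v.2 y y.2).symm
  have h4 : Nat.card (centralizer ((P : Subgroup G) : Set G)) = 9 := by
    obtain ⟨k, hk⟩ := h1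
    rw [hk] at h2 h3
    have h5 : k ∣ 8 := Nat.dvd_of_mul_dvd_mul_left (k := 9) (by norm_num) (by simpa using h2)
    have h6 : k ≤ 8 := Nat.le_of_dvd (by norm_num) h5
    interval_cases k <;> omega
  have h5 : (P : Subgroup G) = centralizer ((P : Subgroup G) : Set G) :=
    Subgroup.eq_of_le_of_card_ge hPC (by rw [h4, hP9])
  rw [h5]
  exact hc

theorem mul_mem_of_orderOf_two [IsSimpleGroup G] (hG : ¬ IsMulCommutative G)
    (hn : Nat.card G = 720) {P : Sylow 3 G} {v w : G} (hv : orderOf v = 2) (hw : orderOf w = 2)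
    (hvP : v ∈ normalizer ((P : Subgroup G) : Set G))
    (hwP : w ∈ normalizer ((P : Subgroup G) : Set G)) : v * w ∈ (P : Subgroup G) := by
  apply mem_of_mem_centralizer hG hn
  rw [mem_centralizer_iff]
  intro y hy
  have h1 := conj_eq_inv hG hn hw hwP hy
  have h2 := conj_eq_inv hG hn hv hvP (inv_mem hy)
  have h3 : v * w * y * (v * w)⁻¹ = y := by
    calc v * w * y * (v * w)⁻¹ = v * (w * y * w⁻¹) * v⁻¹ := by group
      _ = y := by rw [h1, h2, inv_inv]
  exact (mul_inv_eq_iff_eq_mul.1 h3).symm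

/-- Involutions fix two Sylow 3-subgroups. -/
theorem card_fixedBy_eq_two [IsSimpleGroup G] (hG : ¬ IsMulCommutative G) (hn : Nat.card G = 720)
    {v : G} (hv : orderOf v = 2) : Nat.card (fixedBy (Sylow 3 G) v) = 2 := by
  classical
  have hX := card_sylow_eq_ten hG hn
  obtain ⟨k, hk⟩ := card_sylow_eq_add (by rw [hn]; norm_num) 3 hv
  have hne : Nonempty (fixedBy (Sylow 3 G) v) := by
    have : 0 < Nat.card (fixedBy (Sylow 3 G) v) := by omega
    exact (Nat.card_pos_iff.1 this).1
  obtain ⟨P, hP⟩ := hne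
  have hvP : v ∈ normalizer ((P : Subgroup G) : Set G) := Sylow.smul_eq_iff_mem_normalizer.1 hP
  have hP9 : Nat.card (P : Subgroup G) = 9 := card_sylow_three hn P
  have h1 := SmallSimple.Parity.card_mul_card_fixed_le (X := Sylow 3 G) (P : Subgroup G) v
    (fun p hp => (mem_normalizer_iff.1 hvP p).1 hp)
    (fun p hp hc => by
      by_contra hp1
      exact not_comm hG hn hv hp hp1 hc)
  have h2 : Nat.card {x : Sylow 3 G // ∀ p ∈ (P : Subgroup G), p • x = x → p = 1} ≤ 9 := by
    have h3 : {x : Sylow 3 G | ∀ p ∈ (P : Subgroup G), p • x = x → p = 1} ⊆ {P}ᶜ := by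
      intro x hx hxP
      simp only [Set.mem_singleton_iff] at hxP
      have hP1 : (P : Subgroup G) ≠ ⊥ := by
        intro h; rw [h, Subgroup.card_bot] at hP9; omega
      obtain ⟨y, hy⟩ := Subgroup.ne_bot_iff_exists_ne_one.1 hP1
      apply hy
      apply Subtype.ext
      apply hx y y.2
      rw [hxP]
      exact (smul_sylow_eq_iff (pow_nine hn y.2)).2 y.2
    have h4 := Set.ncard_le_ncard h3 (Set.toFinite _)
    rw [Set.ncard_compl, Set.ncard_singleton, hX] at h4
    exact h4
  rw [hP9] at h1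
  have h3 : Nat.card {x : Sylow 3 G // v • x = x ∧ ∀ p ∈ (P : Subgroup G), p • x = x → p = 1} ≤ 1 := by
    omega
  have h4 : fixedBy (Sylow 3 G) v ⊆
      {P} ∪ {x : Sylow 3 G | v • x = x ∧ ∀ p ∈ (P : Subgroup G), p • x = x → p = 1} := by
    intro x hx
    by_cases hxP : x = P
    · left; exact hxP
    · right
      refine ⟨hx, fun p hp hpx => ?_⟩
      by_contra hp1
      exact hxP (eq_of_smul_eq hG hn hp hp1 hpx)
  have h5 := (Set.ncard_le_ncard h4 (Set.toFinite _)).trans (Set.ncard_union_le _ _)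
  rw [Set.ncard_singleton] at h5
  have h6 : (fixedBy (Sylow 3 G) v).ncard = Nat.card (fixedBy (Sylow 3 G) v) := rfl
  have h7 : {x : Sylow 3 G | v • x = x ∧ ∀ p ∈ (P : Subgroup G), p • x = x → p = 1}.ncard =
    Nat.card {x : Sylow 3 G // v • x = x ∧ ∀ p ∈ (P : Subgroup G), p • x = x → p = 1} := rfl
  omega

/-- The centralizer of an involution has order 16. -/
theorem card_centralizer_eq [IsSimpleGroup G] (hG : ¬ IsMulCommutative G) (hn : Nat.card G = 720)
    {v : G} (hv : orderOf v = 2) : Nat.card (centralizer ({v} : Set G)) = 16 := by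
  have hfix := card_fixedBy_eq_two hG hn hv
  have hne : Nonempty (fixedBy (Sylow 3 G) v) := by
    have : 0 < Nat.card (fixedBy (Sylow 3 G) v) := by omega
    exact (Nat.card_pos_iff.1 this).1
  obtain ⟨P, hP⟩ := hne
  have hvP : v ∈ normalizer ((P : Subgroup G) : Set G) := Sylow.smul_eq_iff_mem_normalizer.1 hP
  have hP9 : Nat.card (P : Subgroup G) = 9 := card_sylow_three hn P
  have h1 := card_fixedBy_sylow P v
  rw [hfix, card_normalizer_three hG hn P] at h1
  have h2 : Nat.card {y : G // IsConj v y ∧ y ∈ normalizer ((P : Subgroup G) : Set G)} ≤ 9 := by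
    rw [← hP9]
    refine Nat.card_le_card_of_injective (fun y => (⟨v * y.1, ?_⟩ : (P : Subgroup G))) ?_
    · apply mul_mem_of_orderOf_two hG hn hv ?_ hvP y.2.2
      obtain ⟨c, hc⟩ := isConj_iff.1 y.2.1
      rw [← hc, orderOf_conj, hv]
    · intro a b hab
      exact Subtype.ext (mul_left_cancel (congrArg Subtype.val hab))
  have h3 : 9 ≤ Nat.card {y : G // IsConj v y ∧ y ∈ normalizer ((P : Subgroup G) : Set G)} := by
    rw [← hP9]
    refine Nat.card_le_card_of_injective (fun y : (P : Subgroup G) =>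
      (⟨(y : G) * v * (y : G)⁻¹, ?_, ?_⟩ :
        {y : G // IsConj v y ∧ y ∈ normalizer ((P : Subgroup G) : Set G)})) ?_
    · exact isConj_iff.2 ⟨y, rfl⟩
    · have hy : (y : G) ∈ normalizer ((P : Subgroup G) : Set G) := Subgroup.le_normalizer y.2
      exact mul_mem (mul_mem hy hvP) (inv_mem hy)
    · intro a b hab
      have h4 : (a : G) * v * (a : G)⁻¹ = (b : G) * v * (b : G)⁻¹ := congrArg Subtype.val hab
      by_contra hne
      have h5 : (b : G)⁻¹ * a ≠ 1 := by
        intro h
        rw [inv_mul_eq_one] at h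
        exact hne (Subtype.ext h.symm)
      refine not_comm hG hn hv (mul_mem (inv_mem b.2) a.2) h5 ?_
      calc v * ((b : G)⁻¹ * a) = (b : G)⁻¹ * ((b : G) * v * (b : G)⁻¹) * a := by group
        _ = (b : G)⁻¹ * ((a : G) * v * (a : G)⁻¹) * a := by rw [h4]
        _ = (b : G)⁻¹ * a * v := by group
  have h4 : Nat.card {y : G // IsConj v y ∧ y ∈ normalizer ((P : Subgroup G) : Set G)} = 9 :=
    le_antisymm h2 h3
  rw [h4] at h1
  omega

/-- The stabilizer of two Sylow 3-subgroups has order 8. -/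
theorem card_inf_normalizer [IsSimpleGroup G] (hG : ¬ IsMulCommutative G) (hn : Nat.card G = 720)
    {P Q : Sylow 3 G} (hPQ : P ≠ Q) :
    Nat.card (normalizer ((P : Subgroup G) : Set G) ⊓ normalizer ((Q : Subgroup G) : Set G) :
      Subgroup G) = 8 := by
  have hX := card_sylow_eq_ten hG hn
  set N := normalizer ((P : Subgroup G) : Set G) with hN
  set M := normalizer ((Q : Subgroup G) : Set G) with hM
  have hN72 : Nat.card N = 72 := card_normalizer_three hG hn P
  have h1 : (orbit N Q).ncard ≤ 9 := by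
    have h2 : orbit N Q ⊆ {P}ᶜ := by
      rintro R ⟨g, rfl⟩ h3
      simp only [Set.mem_singleton_iff] at h3
      have h4 : (g : G) • P = P := Sylow.smul_eq_iff_mem_normalizer.2 g.2
      have h5 : (g : G) • Q = P := h3
      exact hPQ (MulAction.injective (g : G) (h4.trans h5.symm))
    have h3 := Set.ncard_le_ncard h2 (Set.toFinite _)
    rw [Set.ncard_compl, Set.ncard_singleton, hX] at h3
    exact h3
  have h2 := index_stabilizer N Q
  have h3 := (stabilizer N Q).card_mul_index
  rw [h2, hN72] at h3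
  have h4 : M.subgroupOf N = stabilizer N Q := by
    ext g
    rw [mem_subgroupOf, mem_stabilizer_iff]
    exact (Sylow.smul_eq_iff_mem_normalizer (g := (g : G)) (P := Q)).symm
  have h5 : Nat.card (N ⊓ M : Subgroup G) = Nat.card (stabilizer N Q) := by
    rw [card_inf_eq, h4]
  have h6 : ¬ 3 ∣ Nat.card (N ⊓ M : Subgroup G) := by
    intro h
    obtain ⟨x, hx⟩ := exists_prime_orderOf_dvd_card' (G := (N ⊓ M : Subgroup G)) 3 h
    have hxo : orderOf (x : G) = 3 := by rw [Subgroup.orderOf_coe, hx]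
    have hx3 : (x : G) ^ (3 ^ 1) = 1 := orderOf_dvd_iff_pow_eq_one.1 (by rw [hxo, pow_one])
    have hxP : (x : G) ∈ (P : Subgroup G) :=
      (smul_sylow_eq_iff hx3).1 (Sylow.smul_eq_iff_mem_normalizer.2 x.2.1)
    have hxQ : (x : G) ∈ (Q : Subgroup G) :=
      (smul_sylow_eq_iff hx3).1 (Sylow.smul_eq_iff_mem_normalizer.2 x.2.2)
    rw [ti hG hn hPQ hxP hxQ, orderOf_one] at hxo
    omega
  rw [← h5] at h3
  set m := Nat.card (N ⊓ M : Subgroup G) with hm
  have h7 : m ∣ 72 := by rw [← h3]; exact dvd_mul_right _ _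
  have h8 : m.Coprime (3 ^ 2) := by
    apply Nat.Coprime.pow_right
    exact ((Nat.Prime.coprime_iff_not_dvd Nat.prime_three).2 h6).symm
  have h9 : m ∣ 8 := by
    apply h8.dvd_of_dvd_mul_left
    simpa using h7
  have h10 : m ≤ 8 := Nat.le_of_dvd (by norm_num) h9
  have h11 : 8 ≤ m := by
    by_contra hcon
    push Not at hcon
    have : m * (orbit N Q).ncard ≤ 7 * 9 := Nat.mul_le_mul (by omega) h1
    omega
  omega

/-- Elements of order 4 fix the Sylow 3-subgroups fixed by their squares. -/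
theorem smul_eq_of_sq [IsSimpleGroup G] (hG : ¬ IsMulCommutative G) (hn : Nat.card G = 720)
    {x : G} (hx : orderOf x = 4) {R : Sylow 3 G} (h : x ^ 2 • R = R) : x • R = R := by
  have hx2 : orderOf (x ^ 2) = 2 := by
    rw [orderOf_pow_of_dvd (by norm_num) (by rw [hx]; norm_num), hx]
  have hX := card_sylow_eq_ten hG hn
  obtain ⟨a, b, h1, h2, h3⟩ := PermSign.exists_of_pow_four (X := Sylow 3 G) (by rw [hn]; norm_num) x
    (by rw [← hx]; exact pow_orderOf_eq_one x)
  rw [card_fixedBy_eq_two hG hn hx2] at h1 h2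
  have h4 : a = 0 := by
    rw [hX] at h2
    have hb : b = 2 := by omega
    rw [hb] at h3
    obtain ⟨c, hc⟩ := h3
    omega
  have h5 : fixedBy (Sylow 3 G) x = fixedBy (Sylow 3 G) (x ^ 2) := by
    apply Set.eq_of_subset_of_ncard_le _ _ (Set.toFinite _)
    · intro R hR
      show x ^ 2 • R = R
      have hR' : x • R = R := hR
      rw [pow_two, mul_smul, hR', hR']
    · show Nat.card (fixedBy (Sylow 3 G) (x ^ 2)) ≤ Nat.card (fixedBy (Sylow 3 G) x)
      rw [card_fixedBy_eq_two hG hn hx2]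
      omega
  have h6 : R ∈ fixedBy (Sylow 3 G) x := by rw [h5]; exact h
  exact h6

/-- Elements of order 8 fix no Sylow 3-subgroup. -/
theorem smul_ne_of_orderOf_eight [IsSimpleGroup G] (hG : ¬ IsMulCommutative G)
    (hn : Nat.card G = 720) {x : G} (hx : orderOf x = 8) (R : Sylow 3 G) : x • R ≠ R := by
  intro h
  have hx4 : orderOf (x ^ 4) = 2 := by
    rw [orderOf_pow_of_dvd (by norm_num) (by rw [hx]; norm_num), hx]
  have hX := card_sylow_eq_ten hG hn
  have hfix := card_fixedBy_eq_two hG hn hx4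
  have hpow : ∀ m : ℕ, x ^ m • R = R := by
    intro m
    induction m with
    | zero => rw [pow_zero, one_smul]
    | succ m ih => rw [pow_succ, mul_smul, h, ih]
  have hall : ∀ a : Sylow 3 G, (x ^ (2 ^ 2)) • a = a → x • a = a := by
    intro a ha
    by_contra hne
    have hRa : R ≠ a := by rintro rfl; exact hne h
    have h1 : x ^ 4 • (x • a) = x • a := by
      rw [← mul_smul, ← pow_succ, pow_succ', mul_smul]
      congr 1
    have h2 : ({R, a, x • a} : Set (Sylow 3 G)) ⊆ fixedBy (Sylow 3 G) (x ^ 4) := by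
      rintro z (rfl | rfl | rfl)
      · exact hpow 4
      · exact ha
      · exact h1
    have h3 := Set.ncard_le_ncard h2 (Set.toFinite _)
    have h4 : ({R, a, x • a} : Set (Sylow 3 G)).ncard = 3 := by
      rw [Set.ncard_eq_three]
      refine ⟨_, _, _, hRa, ?_, fun h => hne h.symm, rfl⟩
      intro h5
      rw [← h] at h5
      exact hRa (MulAction.injective x h5)
    have h5 : (fixedBy (Sylow 3 G) (x ^ 4)).ncard = 2 := hfix
    omega
  obtain ⟨b, hb⟩ := PermSign.exists_of_fixedBy_eq (X := Sylow 3 G) (by rw [hn]; norm_num) x 2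
    (by show x ^ 8 = 1; rw [← hx]; exact pow_orderOf_eq_one x) hall
  have h5 : fixedBy (Sylow 3 G) x = fixedBy (Sylow 3 G) (x ^ 4) := by
    ext a
    constructor
    · intro ha
      have ha' : x • a = a := ha
      show x ^ 4 • a = a
      rw [pow_succ, pow_succ, pow_succ, pow_one, mul_smul, mul_smul, mul_smul, ha', ha', ha', ha']
    · intro ha
      exact hall a ha
  rw [h5, hfix, hX] at hb
  omega

/-- The centralizer of the square of an element `x` of order 4 normalizes `⟨x⟩`. -/
theorem conj_mem_zpowers [IsSimpleGroup G] (hG : ¬ IsMulCommutative G) (hn : Nat.card G = 720)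
    {x s : G} (hx : orderOf x = 4) (hs : s * x ^ 2 = x ^ 2 * s) : s⁻¹ * x * s ∈ zpowers x := by
  classical
  have hx2 : orderOf (x ^ 2) = 2 := by
    rw [orderOf_pow_of_dvd (by norm_num) (by rw [hx]; norm_num), hx]
  have hx4 : x ^ 4 = 1 := by rw [← hx]; exact pow_orderOf_eq_one x
  set H := zpowers x with hH
  have hHc : Nat.card H = 4 := by rw [hH, Nat.card_zpowers, hx]
  have hidx : Nat.card (G ⧸ H) = 180 := by
    have h1 := H.card_mul_index
    rw [hn, hHc] at h1
    have h2 : H.index = Nat.card (G ⧸ H) := rfl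
    omega
  -- fixed points of `x ^ 2`
  have hfix2 : Nat.card (fixedBy (G ⧸ H) (x ^ 2)) = 4 := by
    have h1 := card_fixedBy H (x ^ 2)
    rw [hHc, card_centralizer_eq hG hn hx2] at h1
    have h2 : Nat.card {y : G // IsConj (x ^ 2) y ∧ y ∈ H} = 1 := by
      rw [Nat.card_eq_one_iff_unique]
      refine ⟨⟨?_⟩, ⟨x ^ 2, IsConj.refl _, pow_mem (mem_zpowers x) 2⟩⟩
      have key : ∀ y : {y : G // IsConj (x ^ 2) y ∧ y ∈ H}, (y : G) = x ^ 2 := by
        rintro ⟨y, hy1, hy2⟩
        have hyo : orderOf y = 2 := by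
          obtain ⟨c, hc⟩ := isConj_iff.1 hy1
          rw [← hc, orderOf_conj, hx2]
        rw [hH, mem_zpowers_iff_mem_range_orderOf, hx] at hy2
        simp only [Finset.mem_image, Finset.mem_range] at hy2
        obtain ⟨k, hk, rfl⟩ := hy2
        interval_cases k
        · simp at hyo
        · rw [pow_one, hx] at hyo; omega
        · rfl
        · exfalso
          rw [Nat.Coprime.orderOf_pow (by rw [hx]; norm_num), hx] at hyo
          omega
      intro a b
      exact Subtype.ext ((key a).trans (key b).symm)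
    rw [h2] at h1
    omega
  obtain ⟨a, b, h1, h2, h3⟩ := PermSign.exists_of_pow_four (X := G ⧸ H) (by rw [hn]; norm_num) x hx4
  rw [hfix2] at h1 h2
  have hpos : 0 < Nat.card (fixedBy (G ⧸ H) x) := by
    have : Nonempty (fixedBy (G ⧸ H) x) := by
      refine ⟨((1 : G) : G ⧸ H), ?_⟩
      show x • ((1 : G) : G ⧸ H) = _
      rw [smul_mk_eq_iff, inv_one, one_mul, mul_one]
      exact mem_zpowers x
    exact Nat.card_pos
  have h4 : Nat.card (fixedBy (G ⧸ H) x) = 4 := by
    rw [hidx] at h2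
    have hb : b = 44 := by omega
    rw [hb] at h3
    obtain ⟨c, hc⟩ := h3
    omega
  have h5 : fixedBy (G ⧸ H) x = fixedBy (G ⧸ H) (x ^ 2) := by
    apply Set.eq_of_subset_of_ncard_le _ _ (Set.toFinite _)
    · intro R hR
      show x ^ 2 • R = R
      have hR' : x • R = R := hR
      rw [pow_two, mul_smul, hR', hR']
    · show Nat.card (fixedBy (G ⧸ H) (x ^ 2)) ≤ Nat.card (fixedBy (G ⧸ H) x)
      rw [hfix2, h4]
  have h6 : ((s : G) : G ⧸ H) ∈ fixedBy (G ⧸ H) (x ^ 2) := by
    show x ^ 2 • ((s : G) : G ⧸ H) = _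
    rw [smul_mk_eq_iff]
    have h7 : s⁻¹ * x ^ 2 * s = x ^ 2 := by rw [mul_assoc, ← hs, inv_mul_cancel_left]
    rw [h7]
    exact pow_mem (mem_zpowers x) 2
  rw [← h5] at h6
  exact (smul_mk_eq_iff H x s).1 h6

/-- There is no simple group of order 720. -/
theorem card_ne_720 [IsSimpleGroup G] (hG : ¬ IsMulCommutative G) : Nat.card G ≠ 720 := by
  classical
  intro hn
  have hX := card_sylow_eq_ten hG hn
  obtain ⟨v₀, hv₀⟩ := exists_prime_orderOf_dvd_card' (G := G) 2 (by rw [hn]; norm_num)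
  have h0 := card_fixedBy_eq_two hG hn hv₀
  have h0' : 1 < Nat.card (Sylow 3 G) := by omega
  have := Finite.one_lt_card_iff_nontrivial.1 h0'
  obtain ⟨P, Q, hPQ⟩ := exists_pair_ne (Sylow 3 G)
  set A : Subgroup G := normalizer ((P : Subgroup G) : Set G) ⊓ normalizer ((Q : Subgroup G) : Set G)
    with hA
  have hA8 : Nat.card A = 8 := card_inf_normalizer hG hn hPQ
  -- the involution of `A`
  obtain ⟨v, hv, hvA⟩ : ∃ v : G, orderOf v = 2 ∧ v ∈ A := by
    obtain ⟨v, hv⟩ := exists_prime_orderOf_dvd_card' (G := A) 2 (by rw [hA8]; norm_num)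
    exact ⟨v, by rw [Subgroup.orderOf_coe, hv], v.2⟩
  have hv1 : v ≠ 1 := by rintro rfl; simp at hv
  have hvv : v * v = 1 := by rw [← pow_two]; exact sq_eq_one hv
  have huniq : ∀ w ∈ A, orderOf w = 2 → w = v := by
    intro w hwA hw
    have h1 : v * w ∈ (P : Subgroup G) := mul_mem_of_orderOf_two hG hn hv hw hvA.1 hwA.1
    have h2 : v * w ∈ (Q : Subgroup G) := mul_mem_of_orderOf_two hG hn hv hw hvA.2 hwA.2
    have h3 := ti hG hn hPQ h1 h2
    exact mul_left_cancel (h3.trans hvv.symm)
  -- elements of `A` other than `1` and `v` have order 4 and square `v`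
  have hord : ∀ x ∈ A, x ≠ 1 → x ≠ v → orderOf x = 4 ∧ x ^ 2 = v := by
    intro x hxA hx1 hxv
    have h1 : orderOf x ∣ 2 ^ 3 := by
      have := Subgroup.orderOf_dvd_natCard _ hxA
      rwa [hA8] at this
    have h4 : orderOf x = 4 := by
      obtain ⟨j, hj, hj'⟩ := (Nat.dvd_prime_pow Nat.prime_two).1 h1
      interval_cases j
      · exact absurd (orderOf_eq_one_iff.1 hj') hx1
      · exact absurd (huniq x hxA (by simpa using hj')) hxv
      · simpa using hj'
      · exfalso
        exact smul_ne_of_orderOf_eight hG hn (by simpa using hj') P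
          (Sylow.smul_eq_iff_mem_normalizer.2 hxA.1)
    refine ⟨h4, ?_⟩
    apply huniq _ (pow_mem hxA 2)
    rw [orderOf_pow_of_dvd (by norm_num) (by rw [h4]; norm_num), h4]
  -- non-commutativity
  have hex : ∀ x ∈ A, ∃ y ∈ A, y ∉ zpowers x := by
    intro x hxA
    by_contra hcon
    push Not at hcon
    by_cases hx : x = 1 ∨ x = v
    · have h1 : Nat.card A ≤ Nat.card (zpowers x) := Subgroup.card_le_of_le (fun y hy => hcon y hy)
      rw [hA8, Nat.card_zpowers] at h1
      rcases hx with rfl | rfl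
      · rw [orderOf_one] at h1; omega
      · rw [hv] at h1; omega
    · push Not at hx
      have h1 : Nat.card A ≤ Nat.card (zpowers x) := Subgroup.card_le_of_le (fun y hy => hcon y hy)
      rw [hA8, Nat.card_zpowers, (hord x hxA hx.1 hx.2).1] at h1
      omega
  have hnc : ∀ x ∈ A, ∀ y ∈ A, orderOf x = 4 → y ∉ zpowers x → x * y ≠ y * x := by
    intro x hxA y hyA hx hyx hc
    have hx1 : x ≠ 1 := by rintro rfl; simp at hx
    have hxv : x ≠ v := by rintro rfl; omega
    have hx2 := (hord x hxA hx1 hxv).2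
    have hvx : v ∈ zpowers x := by rw [← hx2]; exact pow_mem (mem_zpowers x) 2
    have hy1 : y ≠ 1 := by rintro rfl; exact hyx (one_mem _)
    have hyv : y ≠ v := by rintro rfl; exact hyx hvx
    have hy2 := (hord y hyA hy1 hyv).2
    have h1 : (x * y) ^ 2 = 1 := by
      rw [(show Commute x y from hc).mul_pow, hx2, hy2, hvv]
    by_cases h2 : x * y = 1
    · apply hyx
      rw [← inv_eq_of_mul_eq_one_right h2]
      exact inv_mem (mem_zpowers x)
    · have h3 : x * y = v := huniq _ (mul_mem hxA hyA) (orderOf_eq_prime h1 h2)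
      apply hyx
      rw [eq_inv_mul_of_mul_eq h3]
      exact mul_mem (inv_mem (mem_zpowers x)) hvx
  -- the centralizer of `v`
  set S := centralizer ({v} : Set G) with hS
  have hS16 : Nat.card S = 16 := card_centralizer_eq hG hn hv
  have hAS : A ≤ S := by
    intro a ha
    rw [hS, mem_centralizer_singleton_iff]
    have h1 : a * v * a⁻¹ = v :=
      huniq _ (mul_mem (mul_mem ha hvA) (inv_mem ha)) (by rw [orderOf_conj, hv])
    exact mul_inv_eq_iff_eq_mul.1 h1
  have hidx2 : (A.subgroupOf S).index = 2 := by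
    have h1 := Subgroup.card_mul_index (A.subgroupOf S)
    rw [← card_inf_eq, inf_eq_right.2 hAS, hA8, hS16] at h1
    omega
  -- elements of `S` outside `A` are involutions
  have hout : ∀ g ∈ S, g ∉ A → g ^ 2 = 1 := by
    intro g hgS hgA
    by_contra hg2
    have hg2A : g ^ 2 ∈ A := by
      have h1 := Subgroup.mul_self_mem_of_index_two hidx2 ⟨g, hgS⟩
      rw [pow_two]
      exact h1
    have hgv : g * v = v * g := mem_centralizer_singleton_iff.1 hgS
    by_cases hgv2 : g ^ 2 = v
    · -- then `g` has order 4 and lies in `A`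
      have hgo : orderOf g = 4 := by
        have h1 : g ^ (2 ^ 2) = 1 := by
          rw [show (2 : ℕ) ^ 2 = 2 * 2 by norm_num, pow_mul, hgv2, pow_two, hvv]
        have h2 := orderOf_eq_prime_pow (p := 2) (n := 1) (x := g) (by simpa using hg2) h1
        simpa using h2
      apply hgA
      refine ⟨?_, ?_⟩
      · apply Sylow.smul_eq_iff_mem_normalizer.1
        apply smul_eq_of_sq hG hn hgo
        rw [hgv2]
        exact Sylow.smul_eq_iff_mem_normalizer.2 hvA.1
      · apply Sylow.smul_eq_iff_mem_normalizer.1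
        apply smul_eq_of_sq hG hn hgo
        rw [hgv2]
        exact Sylow.smul_eq_iff_mem_normalizer.2 hvA.2
    · obtain ⟨ho, hsq⟩ := hord _ hg2A hg2 hgv2
      obtain ⟨y, hyA, hy⟩ := hex _ hg2A
      apply hnc _ hg2A y hyA ho hy
      have hvg : v ∈ zpowers (g ^ 2) := by rw [← hsq]; exact pow_mem (mem_zpowers _) 2
      have hy1 : y ≠ 1 := by rintro rfl; exact hy (one_mem _)
      have hyv : y ≠ v := by rintro rfl; exact hy hvg
      obtain ⟨hyo, hy2⟩ := hord y hyA hy1 hyv
      -- `g⁻¹ y g ∈ ⟨y⟩`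
      have h1 : g⁻¹ * y * g ∈ zpowers y := conj_mem_zpowers hG hn hyo (by rw [hy2, hgv])
      have h2 : orderOf (g⁻¹ * y * g) = 4 := by
        have := orderOf_conj g⁻¹ y
        rw [inv_inv] at this
        rw [this, hyo]
      have hy4 : y ^ 4 = 1 := by rw [← hyo]; exact pow_orderOf_eq_one y
      have h3 : g⁻¹ * y * g = y ∨ g⁻¹ * y * g = y⁻¹ := by
        rw [mem_zpowers_iff_mem_range_orderOf, hyo] at h1
        simp only [Finset.mem_image, Finset.mem_range] at h1
        obtain ⟨k, hk, hk'⟩ := h1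
        rw [← hk'] at h2 ⊢
        interval_cases k
        · simp at h2
        · left; rw [pow_one]
        · exfalso
          rw [orderOf_pow_of_dvd (by norm_num) (by rw [hyo]; norm_num), hyo] at h2
          omega
        · right
          rw [eq_inv_iff_mul_eq_one, ← pow_succ]
          exact hy4
      have h4 : g⁻¹ * (g⁻¹ * y * g) * g = y := by
        rcases h3 with h3 | h3
        · rw [h3, h3]
        · rw [h3]
          calc g⁻¹ * y⁻¹ * g = (g⁻¹ * y * g)⁻¹ := by group
            _ = y := by rw [h3, inv_inv]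
      calc g ^ 2 * y = g ^ 2 * (g⁻¹ * (g⁻¹ * y * g) * g) := by rw [h4]
        _ = y * g ^ 2 := by rw [pow_two]; group
  obtain ⟨g, hgS, hgA⟩ : ∃ g ∈ S, g ∉ A := by
    by_contra hcon
    push Not at hcon
    have h1 : Nat.card S ≤ Nat.card A := Subgroup.card_le_of_le hcon
    omega
  have hg2 := hout g hgS hgA
  have hinv : ∀ a ∈ A, g * a * g = a⁻¹ := by
    intro a ha
    have h1 : g * a ∉ A := by
      intro h
      apply hgA
      have := mul_mem h (inv_mem ha)
      rwa [mul_inv_cancel_right] at this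
    have h2 := hout (g * a) (mul_mem hgS (hAS ha)) h1
    rw [pow_two] at h2
    apply eq_inv_of_mul_eq_one_left
    rw [← mul_assoc] at h2
    exact h2
  obtain ⟨x, hxA, hx⟩ := hex 1 (one_mem A)
  have hx1 : x ≠ 1 := by rintro rfl; exact hx (one_mem _)
  obtain ⟨x, hxA, hxo⟩ : ∃ x ∈ A, orderOf x = 4 := by
    obtain ⟨y, hyA, hy⟩ := hex v hvA
    have hy1 : y ≠ 1 := by rintro rfl; exact hy (one_mem _)
    have hyv : y ≠ v := by rintro rfl; exact hy (mem_zpowers _)
    exact ⟨y, hyA, (hord y hyA hy1 hyv).1⟩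
  obtain ⟨y, hyA, hy⟩ := hex x hxA
  apply hnc x hxA y hyA hxo hy
  have h1 := hinv x hxA
  have h2 := hinv y hyA
  have h3 := hinv (x * y) (mul_mem hxA hyA)
  have hgg : g * g = 1 := by rw [← pow_two]; exact hg2
  have h4 : x⁻¹ * y⁻¹ = y⁻¹ * x⁻¹ := by
    calc x⁻¹ * y⁻¹ = g * x * (g * g) * y * g := by rw [← h1, ← h2]; group
      _ = g * (x * y) * g := by rw [hgg]; group
      _ = (x * y)⁻¹ := h3
      _ = y⁻¹ * x⁻¹ := mul_inv_rev x y
  have h5 := congrArg (fun z => z⁻¹) h4
  simp only [mul_inv_rev, inv_inv] at h5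
  exact h5.symm

end Cfsg.Agent.Classification.SmallOrders.N720
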