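import Cfsg.Agent.Classification.SmallOrders.Cands
import Cfsg.Agent.Classification.SmallOrders.FixTools
import Cfsg.Agent.Classification.SmallOrders.AbelianSylow
import Cfsg.Agent.Classification.SmallOrders.Count

/-!
Simple groups of order 720: the number of Sylow 3-subgroups is 10.
-/

set_option autoImplicit false

namespace Cfsg.Agent.Classification.SmallOrders.N720

open Subgroup MulAction Cands Tools Invol Autom SylowFix AbelianSylow SmallOrders.Count FixTools

variable {G : Type*} [Group G] [Finite G]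

omit [Finite G] in
theorem comm_of_mem {P : Sylow 3 G} (hP : Nat.card P = 3 ^ 2) {x y : G}
    (hx : x ∈ (P : Subgroup G)) (hy : y ∈ (P : Subgroup G)) : x * y = y * x := by
  have hcomm : IsMulCommutative P := IsPGroup.isMulCommutative_of_card_eq_prime_sq hP
  exact congrArg Subtype.val (hcomm.is_comm.comm (⟨x, hx⟩ : (P : Subgroup G)) ⟨y, hy⟩)

theorem card_sylow_three (hn : Nat.card G = 720) (P : Sylow 3 G) : Nat.card P = 3 ^ 2 :=
  SmallSimple.SylowPrimeInvol.card_sylow_of_card_eq (m := 80) P (by rw [hn]; norm_num) (by norm_num)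

omit [Finite G] in
theorem le_centralizer_of_le {P : Sylow 3 G} (hP : Nat.card P = 3 ^ 2) {D : Subgroup G}
    (hD : D ≤ P) : (P : Subgroup G) ≤ centralizer (D : Set G) := by
  intro x hx
  rw [mem_centralizer_iff]
  intro y hy
  exact comm_of_mem hP (hD hy) hx

theorem five_not_dvd [IsSimpleGroup G] (hG : ¬ IsMulCommutative G) (hn : Nat.card G = 720)
    {D : Subgroup G} (hD : Nat.card D = 3) : ¬ 5 ∣ Nat.card (centralizer (D : Set G)) := by
  intro h
  have hp5 : Fact (Nat.Prime 5) := ⟨by norm_num⟩
  have hn5 : Nat.card G = 5 ^ 1 * 144 := by rw [hn]; norm_num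
  have h5 := card_sylow_mem_cands (p := 5) hG (by norm_num) hn5 (by norm_num)
  rw [show cands 5 1 144 = [36] by decide +kernel, List.mem_singleton] at h5
  obtain ⟨Q, hQ⟩ := exists_dvd_card_centralizer (p := 3) (q := 5)
    (fun Q => by
      have := SmallSimple.SylowPrimeInvol.card_sylow_of_card_eq Q hn5 (by norm_num)
      simpa using this) hD h
  have h20 := card_sylow_mul_card_normalizer Q hn h5
  have h3 := Subgroup.card_dvd_of_le (centralizer_le_normalizer (Q : Subgroup G))
  have h4 := hQ.trans h3
  have h6 : Nat.card (normalizer ((Q : Subgroup G) : Set G)) = 20 := by omega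
  rw [h6] at h4
  norm_num at h4

/-- The centralizer of a subgroup of order 3 lying in two Sylow 3-subgroups. -/
theorem card_centralizer_aux [IsSimpleGroup G] (hG : ¬ IsMulCommutative G) (hn : Nat.card G = 720)
    {D : Subgroup G} (hD : Nat.card D = 3) {P Q : Sylow 3 G} (hPQ : P ≠ Q)
    (hDP : D ≤ (P : Subgroup G)) (hDQ : D ≤ (Q : Subgroup G)) :
    (Nat.card (centralizer (D : Set G)) = 36 ∨ Nat.card (centralizer (D : Set G)) = 72) ∧
      Nat.card (Sylow 3 (centralizer (D : Set G))) = 4 := by
  have hP := card_sylow_three hn P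
  have hQ := card_sylow_three hn Q
  have hPC := le_centralizer_of_le hP hDP
  have hQC := le_centralizer_of_le hQ hDQ
  have h5 := five_not_dvd hG hn hD
  have hD1 : D ≠ ⊥ := by intro h; rw [h, Subgroup.card_bot] at hD; omega
  have hne : centralizer (D : Set G) ≠ ⊤ := by
    intro h
    obtain ⟨z, hz⟩ := Subgroup.ne_bot_iff_exists_ne_one.1 hD1
    have hz1 : (z : G) ≠ 1 := fun h => hz (Subtype.ext h)
    apply centralizer_ne_top hG hz1
    rw [eq_top_iff, ← h]
    intro g hg
    rw [mem_centralizer_singleton_iff]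
    exact (mem_centralizer_iff.1 hg z z.2).symm
  have hidx := le_index hG (k := 8) hn (by decide) _ hne
  have hmul := (centralizer (D : Set G)).card_mul_index
  rw [hn] at hmul
  obtain ⟨d, hd1, hd2, hd3⟩ := exists_card_eq_mul P _ hPC
  have h9 : 9 ∣ Nat.card (centralizer (D : Set G) ⊓ normalizer ((P : Subgroup G) : Set G) : Subgroup G) := by
    have := Subgroup.card_dvd_of_le (le_inf hPC (Subgroup.le_normalizer (H := (P : Subgroup G))))
    rw [show Nat.card (P : Subgroup G) = 3 ^ 2 from hP] at this
    simpa using this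
  obtain ⟨c, hc⟩ := h9
  rw [hc] at hd3
  have hle : Nat.card (centralizer (D : Set G)) ≤ 90 := by
    by_contra hcon
    push Not at hcon
    have : 91 * 8 ≤ Nat.card (centralizer (D : Set G)) * (centralizer (D : Set G)).index :=
      Nat.mul_le_mul (by omega) hidx
    omega
  have hd1' : d ≠ 1 := by
    intro hd
    rw [hd] at hd2
    have hsub : Subsingleton (Sylow 3 ↥(centralizer (D : Set G))) :=
      (Nat.card_eq_one_iff_unique.1 hd2.symm).1
    have h1 : P.subtype hPC = Q.subtype hQC := Subsingleton.elim _ _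
    exact hPQ (Sylow.subtype_injective h1)
  have hdvd : Nat.card (centralizer (D : Set G)) ∣ 720 := by rw [← hmul]; exact dvd_mul_right _ _
  set N := Nat.card (centralizer (D : Set G)) with hNdef
  have hdc : 9 * (d * c) = N := by rw [hd3]; ring
  have hpos : 0 < N := Nat.card_pos
  have hdc10 : d * c ≤ 10 := by omega
  have hc0 : 0 < c := by
    rcases Nat.eq_zero_or_pos c with h | h
    · rw [h] at hdc; omega
    · exact h
  have hd10 : d ≤ 10 := by
    calc d = d * 1 := (mul_one d).symm
      _ ≤ d * c := Nat.mul_le_mul_left d hc0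
      _ ≤ 10 := hdc10
  have hd80 : d ∣ 80 := by
    have h1 : d * c ∣ 80 := by
      have h2 : 9 * (d * c) ∣ 9 * 80 := by rw [hdc]; exact hdvd
      exact Nat.dvd_of_mul_dvd_mul_left (by norm_num) h2
    exact (dvd_mul_right d c).trans h1
  have hd5 : ¬ 5 ∣ d := fun h => h5 (by rw [← hdc]; exact (h.mul_right c).mul_left 9)
  have hd4 : d = 4 := by
    interval_cases d <;> omega
  subst hd4
  have hc2 : c = 1 ∨ c = 2 := by omega
  refine ⟨?_, hd2.symm⟩
  rcases hc2 with h | h
  · left; omega
  · right; omega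

/-- An element of order 3 lying in two Sylow 3-subgroups fixes 4 Sylow 3-subgroups. -/
theorem card_fixedBy_eq_four [IsSimpleGroup G] (hG : ¬ IsMulCommutative G) (hn : Nat.card G = 720)
    {x : G} (hx : orderOf x = 3) {P Q : Sylow 3 G} (hPQ : P ≠ Q)
    (hxP : x ∈ (P : Subgroup G)) (hxQ : x ∈ (Q : Subgroup G)) :
    (Nat.card (centralizer ({x} : Set G)) = 36 ∨ Nat.card (centralizer ({x} : Set G)) = 72) ∧
    Nat.card (fixedBy (Sylow 3 G) x) = 4 := by
  have hD : Nat.card (zpowers x) = 3 := by rw [Nat.card_zpowers, hx]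
  have hCeq : centralizer ((zpowers x : Subgroup G) : Set G) = centralizer ({x} : Set G) := by
    ext g
    rw [mem_centralizer_iff, mem_centralizer_singleton_iff]
    constructor
    · intro h
      exact (h x (mem_zpowers x)).symm
    · intro h y hy
      obtain ⟨k, rfl⟩ := mem_zpowers_iff.1 hy
      exact ((show Commute g x from h).zpow_right k).symm.eq
  obtain ⟨h1, h2⟩ := card_centralizer_aux hG hn hD hPQ (zpowers_le.2 hxP) (zpowers_le.2 hxQ)
  rw [hCeq] at h1
  refine ⟨h1, ?_⟩
  have hx3 : x ^ (3 ^ 1) = 1 := by rw [pow_one, ← hx]; exact pow_orderOf_eq_one x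
  -- at most four
  have hle : Nat.card (fixedBy (Sylow 3 G) x) ≤ 4 := by
    rw [← h2]
    have hsub : ∀ R : fixedBy (Sylow 3 G) x,
        (R.1 : Subgroup G) ≤ centralizer ((zpowers x : Subgroup G) : Set G) := by
      intro R
      apply le_centralizer_of_le (card_sylow_three hn R.1)
      exact zpowers_le.2 ((smul_sylow_eq_iff hx3).1 R.2)
    refine Nat.card_le_card_of_injective (fun R : fixedBy (Sylow 3 G) x => R.1.subtype (hsub R)) ?_
    intro R R' h
    exact Subtype.ext (Sylow.subtype_injective h)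
  -- at least two
  have hge : 1 < Nat.card (fixedBy (Sylow 3 G) x) := by
    rw [Finite.one_lt_card_iff_nontrivial]
    exact ⟨⟨P, (smul_sylow_eq_iff hx3).2 hxP⟩, ⟨Q, (smul_sylow_eq_iff hx3).2 hxQ⟩,
      fun h => hPQ (congrArg Subtype.val h)⟩
  -- modulo 3
  have hmod : Nat.card (Sylow 3 G) ≡ Nat.card (fixedBy (Sylow 3 G) x) [MOD 3] := by
    have h3 := card_fixedBy_modEq (X := Sylow 3 G) (p := 3) (v := 1) hx3 (by simp)
    have h4 : Nat.card (fixedBy (Sylow 3 G) (1 : G)) = Nat.card (Sylow 3 G) := by
      apply Nat.card_congr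
      exact Equiv.subtypeUnivEquiv (fun R => by simp)
    have h5 : Nat.card {a : Sylow 3 G // (1 : G) • a = a ∧ x • a = a} =
        Nat.card (fixedBy (Sylow 3 G) x) := by
      apply Nat.card_congr
      exact Equiv.subtypeEquivRight (fun R => by simp)
    rwa [h4, h5] at h3
  have hmod1 := card_sylow_modEq_one 3 G
  unfold Nat.ModEq at hmod hmod1
  omega

/-- The number of Sylow 3-subgroups is 10. -/
theorem card_sylow_eq_ten [IsSimpleGroup G] (hG : ¬ IsMulCommutative G) (hn : Nat.card G = 720) :
    Nat.card (Sylow 3 G) = 10 := by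
  have hn3 : Nat.card G = 3 ^ 2 * 80 := by rw [hn]; norm_num
  have h3 := card_sylow_mem_cands (p := 3) hG (by norm_num) hn3 (by norm_num)
  rw [show cands 3 2 80 = [10, 40] by decide +kernel] at h3
  simp only [List.mem_cons, List.not_mem_nil, or_false] at h3
  rcases h3 with h3 | h3
  · exact h3
  exfalso
  obtain ⟨P, Q, D, k, hPQ, hD, hDcard, hPN, hQN, hNne, hNcard, hk, -⟩ :=
    exists_normalizer_of_not_modEq (p := 3) (by norm_num) hn3 (by norm_num)
      (by rw [h3]; decide)
  have hDcard : Nat.card D = 3 := by simpa using hDcard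
  have h2 : 2 < Nat.card G := by rw [hn]; norm_num
  obtain ⟨x, hx, hxD⟩ : ∃ x : G, orderOf x = 3 ∧ zpowers x = D := by
    have hc : IsCyclic D := isCyclic_of_prime_card hDcard
    obtain ⟨x, hx⟩ := exists_prime_orderOf_dvd_card' (G := D) 3 (by rw [hDcard])
    refine ⟨x, by rw [Subgroup.orderOf_coe, hx], ?_⟩
    apply Subgroup.eq_of_le_of_card_ge (zpowers_le.2 x.2)
    rw [hDcard, Nat.card_zpowers, Subgroup.orderOf_coe, hx]
  have hx3 : x ^ (3 ^ 1) = 1 := by rw [pow_one, ← hx]; exact pow_orderOf_eq_one x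
  have hxDm : x ∈ D := hxD ▸ mem_zpowers x
  have hxP : x ∈ (P : Subgroup G) := by rw [hD] at hxDm; exact hxDm.1
  have hxQ : x ∈ (Q : Subgroup G) := by rw [hD] at hxDm; exact hxDm.2
  have hx1 : x ≠ 1 := by rintro rfl; simp at hx
  obtain ⟨hC, hfix⟩ := card_fixedBy_eq_four hG hn hx hPQ hxP hxQ
  -- the normalizer of a Sylow subgroup
  have hNR : ∀ R : Sylow 3 G, Nat.card (normalizer ((R : Subgroup G) : Set G)) = 18 := by
    intro R
    have := card_sylow_mul_card_normalizer R hn h3
    omega
  have hm := card_fixedBy_sylow P x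
  rw [hfix, hNR P] at hm
  -- an element `t` of `N(P)` inverting `P`
  have hPcomm : IsMulCommutative P := IsPGroup.isMulCommutative_of_card_eq_prime_sq (card_sylow_three hn P)
  have hPC : (P : Subgroup G) ≤ centralizer ((P : Subgroup G) : Set G) :=
    le_centralizer_of_le (card_sylow_three hn P) le_rfl
  obtain ⟨t, htN, htC⟩ : ∃ t, t ∈ normalizer ((P : Subgroup G) : Set G) ∧
      t ∉ centralizer ((P : Subgroup G) : Set G) := by
    by_contra hcon
    push Not at hcon
    have h4 := eq_one_of_forall_normalizer_comm hG P hPcomm hxP (fun n hn => by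
      exact (mem_centralizer_iff.1 (hcon n hn) x hxP).symm)
    exact hx1 h4
  have hcardC : Nat.card (centralizer ((P : Subgroup G) : Set G)) = 9 := by
    have h4 : 9 ∣ Nat.card (centralizer ((P : Subgroup G) : Set G)) := by
      have := Subgroup.card_dvd_of_le hPC
      rw [show Nat.card (P : Subgroup G) = 3 ^ 2 from card_sylow_three hn P] at this
      simpa using this
    have h5 := Subgroup.card_dvd_of_le (centralizer_le_normalizer (P : Subgroup G))
    rw [hNR P] at h5
    have h6 : Nat.card (centralizer ((P : Subgroup G) : Set G)) ≠ 18 := by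
      intro h6
      have h7 : centralizer ((P : Subgroup G) : Set G) = normalizer ((P : Subgroup G) : Set G) :=
        Subgroup.eq_of_le_of_card_ge (centralizer_le_normalizer (P : Subgroup G)) (by rw [hNR P, h6])
      rw [h7] at htC
      exact htC htN
    have h7 : Nat.card (centralizer ((P : Subgroup G) : Set G)) ≤ 18 := Nat.le_of_dvd (by norm_num) h5
    have h8 : 0 < Nat.card (centralizer ((P : Subgroup G) : Set G)) := Nat.card_pos
    omega
  have hPeq : (P : Subgroup G) = centralizer ((P : Subgroup G) : Set G) :=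
    Subgroup.eq_of_le_of_card_ge hPC (by
      rw [hcardC, show Nat.card (P : Subgroup G) = 3 ^ 2 from card_sylow_three hn P]; norm_num)
  have hidx2 : ((P : Subgroup G).subgroupOf (normalizer ((P : Subgroup G) : Set G))).index = 2 := by
    have h4 := Subgroup.card_mul_index ((P : Subgroup G).subgroupOf (normalizer ((P : Subgroup G) : Set G)))
    rw [← card_inf_eq, inf_eq_right.2 (Subgroup.le_normalizer (H := (P : Subgroup G))), hNR P,
      show Nat.card (P : Subgroup G) = 3 ^ 2 from card_sylow_three hn P] at h4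
    omega
  have htP : t ∉ (P : Subgroup G) := fun h => htC (hPC h)
  have hinv : ∀ y ∈ (P : Subgroup G), t * y * t⁻¹ = y⁻¹ := by
    intro y hy
    have hty : t * y * t⁻¹ ∈ (P : Subgroup G) := (mem_normalizer_iff.1 htN y).1 hy
    -- `t ^ 2 ∈ P`
    have ht2 : t * t ∈ (P : Subgroup G) := by
      have h5 := Subgroup.mul_self_mem_of_index_two hidx2 ⟨t, htN⟩
      exact h5
    have h5 := eq_one_of_forall_normalizer_comm hG P hPcomm (z := y * (t * y * t⁻¹)) (mul_mem hy hty)
      (by
        intro n hnN
        have hzP : y * (t * y * t⁻¹) ∈ (P : Subgroup G) := mul_mem hy hty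
        by_cases hnP : n ∈ (P : Subgroup G)
        · exact comm_of_mem (card_sylow_three hn P) hnP hzP
        · -- `n = t p`
          have h6 := Subgroup.mul_mem_iff_of_index_two hidx2 (a := (⟨t⁻¹, inv_mem htN⟩ :
            normalizer ((P : Subgroup G) : Set G))) (b := ⟨n, hnN⟩)
          rw [mem_subgroupOf, mem_subgroupOf, mem_subgroupOf] at h6
          have h7 : t⁻¹ * n ∈ (P : Subgroup G) :=
            h6.2 ⟨fun h => absurd (by simpa using inv_mem h) htP, fun h => absurd h hnP⟩
          have h8 : t⁻¹ * n * (y * (t * y * t⁻¹)) = y * (t * y * t⁻¹) * (t⁻¹ * n) :=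
            comm_of_mem (card_sylow_three hn P) h7 hzP
          have h9 : t * (y * (t * y * t⁻¹)) = y * (t * y * t⁻¹) * t := by
            have h10 : t * t * y = y * (t * t) := comm_of_mem (card_sylow_three hn P) ht2 hy
            have h11 : (t * y * t⁻¹) * (t * (t * y * t⁻¹) * t⁻¹) =
                (t * (t * y * t⁻¹) * t⁻¹) * (t * y * t⁻¹) := by
              have h12 : t * (t * y * t⁻¹) * t⁻¹ = y := by
                calc t * (t * y * t⁻¹) * t⁻¹ = (t * t * y) * t⁻¹ * t⁻¹ := by group
                  _ = y * (t * t) * t⁻¹ * t⁻¹ := by rw [h10]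
                  _ = y := by group
              rw [h12]
              exact comm_of_mem (card_sylow_three hn P) hty hy
            have h12 : t * (t * y * t⁻¹) * t⁻¹ = y := by
              calc t * (t * y * t⁻¹) * t⁻¹ = (t * t * y) * t⁻¹ * t⁻¹ := by group
                _ = y * (t * t) * t⁻¹ * t⁻¹ := by rw [h10]
                _ = y := by group
            calc t * (y * (t * y * t⁻¹)) = (t * y * t⁻¹) * (t * (t * y * t⁻¹) * t⁻¹) * t := by group
              _ = (t * y * t⁻¹) * y * t := by rw [h12]
              _ = y * (t * y * t⁻¹) * t := by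
                rw [comm_of_mem (card_sylow_three hn P) hty hy]
          calc n * (y * (t * y * t⁻¹)) = t * (t⁻¹ * n * (y * (t * y * t⁻¹))) := by group
            _ = t * (y * (t * y * t⁻¹) * (t⁻¹ * n)) := by rw [h8]
            _ = (t * (y * (t * y * t⁻¹))) * (t⁻¹ * n) := by group
            _ = y * (t * y * t⁻¹) * t * (t⁻¹ * n) := by rw [h9]
            _ = y * (t * y * t⁻¹) * n := by group)
    exact (eq_inv_of_mul_eq_one_right h5)
  -- the class of `x` meets `N(P)` in exactly two elements
  have hxinv : t * x * t⁻¹ = x⁻¹ := hinv x hxP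
  have hxne : x⁻¹ ≠ x := by
    intro h
    have h4 : x * x = 1 := by
      nth_rewrite 1 [← h]
      exact inv_mul_cancel x
    rw [← pow_two] at h4
    have := orderOf_dvd_of_pow_eq_one h4
    rw [hx] at this
    omega
  have hge2 : ∀ H : Subgroup G, x ∈ H → 2 ≤ Nat.card {y : G // IsConj x y ∧ y ∈ H} := by
    intro H hxH
    have : Nontrivial {y : G // IsConj x y ∧ y ∈ H} :=
      ⟨⟨x, IsConj.refl x, hxH⟩, ⟨x⁻¹, isConj_iff.2 ⟨t, hxinv⟩, inv_mem hxH⟩,
        fun h => hxne (congrArg Subtype.val h).symm⟩
    exact Finite.one_lt_card_iff_nontrivial.2 this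
  have hm2 := hge2 (normalizer ((P : Subgroup G) : Set G)) (Subgroup.le_normalizer hxP)
  have hC36 : Nat.card (centralizer ({x} : Set G)) = 36 := by
    rcases hC with h | h
    · exact h
    · exfalso
      rw [h] at hm
      have : 72 * 2 ≤ 72 * Nat.card {y : G // IsConj x y ∧ y ∈ normalizer ((P : Subgroup G) : Set G)} :=
        Nat.mul_le_mul_left 72 hm2
      omega
  -- elements of the class of `x` in a common Sylow 3-subgroup
  have hclass : ∀ R : Sylow 3 G, x ∈ (R : Subgroup G) → ∀ y ∈ (R : Subgroup G), IsConj x y →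
      y = x ∨ y = x⁻¹ := by
    intro R hxR y hyR hxy
    have h4 := card_fixedBy_sylow R x
    rw [hfix, hNR R, hC36] at h4
    have h5 : Nat.card {y : G // IsConj x y ∧ y ∈ normalizer ((R : Subgroup G) : Set G)} = 2 := by omega
    by_contra hcon
    push Not at hcon
    have h6 : ({x, x⁻¹, y} : Set G) ⊆ {y : G | IsConj x y ∧ y ∈ normalizer ((R : Subgroup G) : Set G)} := by
      rintro z (rfl | rfl | rfl)
      · exact ⟨IsConj.refl _, Subgroup.le_normalizer hxR⟩
      · exact ⟨isConj_iff.2 ⟨t, hxinv⟩, inv_mem (Subgroup.le_normalizer hxR)⟩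
      · exact ⟨hxy, Subgroup.le_normalizer hyR⟩
    have h7 := Set.ncard_le_ncard h6 (Set.toFinite _)
    have h8 : ({x, x⁻¹, y} : Set G).ncard = 3 := by
      rw [Set.ncard_eq_three]
      exact ⟨_, _, _, hxne.symm, hcon.1.symm, hcon.2.symm, rfl⟩
    rw [h8] at h7
    have h9 : {y : G | IsConj x y ∧ y ∈ normalizer ((R : Subgroup G) : Set G)}.ncard =
        Nat.card {y : G // IsConj x y ∧ y ∈ normalizer ((R : Subgroup G) : Set G)} := rfl
    omega
  -- `|N(D)| = 72`
  set N := normalizer (D : Set G) with hN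
  have hCN : centralizer ({x} : Set G) ≤ N := by
    intro g hg
    rw [hN, ← hxD]
    apply mem_normalizer_zpowers
    have := mem_centralizer_singleton_iff.1 hg
    rw [this, mul_inv_cancel_right]
    exact mem_zpowers x
  have htN' : t ∈ N := by
    rw [hN, ← hxD]
    apply mem_normalizer_zpowers
    rw [hxinv]
    exact inv_mem (mem_zpowers x)
  have hN72 : Nat.card N = 72 := by
    have h4 := Subgroup.card_dvd_of_le hCN
    rw [hC36] at h4
    have h5 : Nat.card N ≠ 36 := by
      intro h5
      have h6 : centralizer ({x} : Set G) = N := Subgroup.eq_of_le_of_card_ge hCN (by rw [h5, hC36])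
      rw [← h6] at htN'
      have h7 := mem_centralizer_singleton_iff.1 htN'
      rw [h7, mul_inv_cancel_right] at hxinv
      exact hxne hxinv.symm
    have hidx := le_index hG (k := 8) hn (by decide) _ hNne
    have hmul := N.card_mul_index
    rw [hn] at hmul
    have hpos : 0 < Nat.card N := Nat.card_pos
    have : Nat.card N ≤ 90 := by
      by_contra hcon
      push Not at hcon
      have : 91 * 8 ≤ Nat.card N * N.index := Nat.mul_le_mul (by omega) hidx
      omega
    omega
  have hNidx : N.index = 10 := by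
    have hmul := N.card_mul_index
    rw [hn, hN72] at hmul
    omega
  -- fixed points of `x` on the cosets of `N`
  have hNclass : Nat.card {y : G // IsConj x y ∧ y ∈ N} ≤ 2 := by
    have h4 : {y : G | IsConj x y ∧ y ∈ N} ⊆ {x, x⁻¹} := by
      rintro y ⟨hxy, hyN⟩
      have hyo : orderOf y = 3 := by
        obtain ⟨c, hc⟩ := isConj_iff.1 hxy
        rw [← hc, orderOf_conj, hx]
      have h5 : IsPGroup 3 (zpowers y ⊔ D : Subgroup G) := by
        apply IsPGroup.to_sup_of_normal_right'
        · exact IsPGroup.of_card (n := 1) (by rw [Nat.card_zpowers, hyo, pow_one])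
        · exact IsPGroup.of_card (n := 1) (by rw [hDcard, pow_one])
        · exact zpowers_le.2 hyN
      obtain ⟨R, hR⟩ := h5.exists_le_sylow
      have h6 : x ∈ (R : Subgroup G) := hR ((le_sup_right : D ≤ _) hxDm)
      have h7 : y ∈ (R : Subgroup G) := hR ((le_sup_left : zpowers y ≤ _) (mem_zpowers y))
      exact hclass R h6 y h7 hxy
    have h5 := Set.ncard_le_ncard h4 (Set.toFinite _)
    have h6 : ({x, x⁻¹} : Set G).ncard = 2 := Set.ncard_pair hxne.symm
    rw [h6] at h5
    exact h5
  have hfixx : Nat.card (fixedBy (G ⧸ N) x) ≤ 1 := by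
    have h4 := card_fixedBy N x
    rw [hN72, hC36] at h4
    omega
  -- an involution in the centralizer of `x`
  obtain ⟨v, hv, hvx⟩ : ∃ v : G, orderOf v = 2 ∧ v ∈ centralizer ({x} : Set G) := by
    obtain ⟨v, hv⟩ := exists_prime_orderOf_dvd_card' (G := centralizer ({x} : Set G)) 2
      (by rw [hC36]; norm_num)
    exact ⟨v, by rw [Subgroup.orderOf_coe, hv], v.2⟩
  have hv1 : v ≠ 1 := by rintro rfl; simp at hv
  have h4 := card_fixedBy_lt N hNne hv1
  obtain ⟨k', hk'⟩ := index_eq_add h2 N (t := v) (by rw [← hv]; exact pow_orderOf_eq_one v)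
  have h5 := card_fixedBy_modEq (X := G ⧸ N) (p := 3) (v := v) hx3 (mem_centralizer_singleton_iff.1 hvx)
  have h6 : Nat.card {a : G ⧸ N // v • a = a ∧ x • a = a} = 1 := by
    apply le_antisymm
    · refine le_trans ?_ hfixx
      exact Nat.card_le_card_of_injective
        (fun a : {a : G ⧸ N // v • a = a ∧ x • a = a} => (⟨a.1, a.2.2⟩ : fixedBy (G ⧸ N) x))
        (fun a b h => Subtype.ext (congrArg (fun z : fixedBy (G ⧸ N) x => z.1) h))
    · have : Nonempty {a : G ⧸ N // v • a = a ∧ x • a = a} := by
        refine ⟨⟨((1 : G) : G ⧸ N), ?_, ?_⟩⟩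
        · rw [smul_mk_eq_iff]
          simpa using hCN hvx
        · rw [smul_mk_eq_iff]
          simpa using Subgroup.le_normalizer hxDm
      exact Nat.card_pos
  rw [h6] at h5
  unfold Nat.ModEq at h5
  omega

end Cfsg.Agent.Classification.SmallOrders.N720
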