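import Cfsg.Agent.Classification.SmallOrders.N720A

/-!
Simple groups of order 720: the Sylow 3-subgroups are TI.
-/

set_option autoImplicit false

namespace Cfsg.Agent.Classification.SmallOrders.N720

open Subgroup MulAction Cands Tools Invol Autom SylowFix AbelianSylow SmallOrders.Count FixTools

variable {G : Type*} [Group G] [Finite G]

theorem card_normalizer_three [IsSimpleGroup G] (hG : ¬ IsMulCommutative G) (hn : Nat.card G = 720)
    (P : Sylow 3 G) : Nat.card (normalizer ((P : Subgroup G) : Set G)) = 72 := by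
  have := card_sylow_mul_card_normalizer P hn (card_sylow_eq_ten hG hn)
  omega

theorem card_fixedBy_eq_of_isConj {p : ℕ} [Fact p.Prime] {x y : G} (h : IsConj x y) :
    Nat.card (fixedBy (Sylow p G) x) = Nat.card (fixedBy (Sylow p G) y) := by
  obtain ⟨P⟩ : Nonempty (Sylow p G) := inferInstance
  have h1 := card_fixedBy_sylow P x
  have h2 := card_fixedBy_sylow P y
  have h3 : Nat.card {z : G // IsConj x z ∧ z ∈ normalizer ((P : Subgroup G) : Set G)} =
      Nat.card {z : G // IsConj y z ∧ z ∈ normalizer ((P : Subgroup G) : Set G)} :=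
    Nat.card_congr (Equiv.subtypeEquivRight fun z =>
      ⟨fun hz => ⟨h.symm.trans hz.1, hz.2⟩, fun hz => ⟨h.trans hz.1, hz.2⟩⟩)
  rw [card_centralizer_eq_of_isConj h, h3, ← h2] at h1
  exact Nat.eq_of_mul_eq_mul_right Nat.card_pos h1

/-- An element `≠ 1` of a Sylow 3-subgroup `P` fixing another Sylow 3-subgroup has order 3. -/
theorem orderOf_eq_three (hn : Nat.card G = 720) {P Q : Sylow 3 G} (hPQ : P ≠ Q) {x : G}
    (hxP : x ∈ (P : Subgroup G)) (hxQ : x ∈ (Q : Subgroup G)) (hx1 : x ≠ 1) : orderOf x = 3 := by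
  have h1 : orderOf x ∣ 3 ^ 2 := by
    have := Subgroup.orderOf_dvd_natCard _ hxP
    rwa [show Nat.card (P : Subgroup G) = 3 ^ 2 from card_sylow_three hn P] at this
  obtain ⟨j, hj, hj'⟩ := (Nat.dvd_prime_pow Nat.prime_three).1 h1
  interval_cases j
  · exact absurd (orderOf_eq_one_iff.1 hj') hx1
  · simpa using hj'
  · exfalso
    have h2 : zpowers x = (P : Subgroup G) := Subgroup.eq_of_le_of_card_ge (zpowers_le.2 hxP) (by
      rw [Nat.card_zpowers, hj', show Nat.card (P : Subgroup G) = 3 ^ 2 from card_sylow_three hn P])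
    have h3 : zpowers x = (Q : Subgroup G) := Subgroup.eq_of_le_of_card_ge (zpowers_le.2 hxQ) (by
      rw [Nat.card_zpowers, hj', show Nat.card (Q : Subgroup G) = 3 ^ 2 from card_sylow_three hn Q])
    exact hPQ (Sylow.ext (h2.symm.trans h3))

theorem pow_nine (hn : Nat.card G = 720) {P : Sylow 3 G} {x : G} (hxP : x ∈ (P : Subgroup G)) :
    x ^ (3 ^ 2) = 1 := by
  have := Subgroup.orderOf_dvd_natCard _ hxP
  rw [show Nat.card (P : Subgroup G) = 3 ^ 2 from card_sylow_three hn P] at this
  exact orderOf_dvd_iff_pow_eq_one.1 this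

/-- The Sylow 3-subgroups are TI. -/
theorem ti [IsSimpleGroup G] (hG : ¬ IsMulCommutative G) (hn : Nat.card G = 720)
    {P Q : Sylow 3 G} (hPQ : P ≠ Q) {x : G} (hxP : x ∈ (P : Subgroup G))
    (hxQ : x ∈ (Q : Subgroup G)) : x = 1 := by
  classical
  by_contra hx1
  have hP9 : Nat.card (P : Subgroup G) = 9 := card_sylow_three hn P
  have hX := card_sylow_eq_ten hG hn
  set f : G → ℕ := fun y => Nat.card (fixedBy (Sylow 3 G) y) with hf
  have hf1 : f 1 = 10 := by
    rw [← hX]
    apply Nat.card_congr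
    exact Equiv.subtypeUnivEquiv (fun R => by simp)
  have hf4 : ∀ y ∈ (P : Subgroup G), y ≠ 1 → f y ≠ 1 → orderOf y = 3 ∧
      (Nat.card (centralizer ({y} : Set G)) = 36 ∨ Nat.card (centralizer ({y} : Set G)) = 72) ∧
      f y = 4 := by
    intro y hyP hy1 hfy
    have hPf : y • P = P := (smul_sylow_eq_iff (pow_nine hn hyP)).2 hyP
    have h1 : 1 < Nat.card (fixedBy (Sylow 3 G) y) := by
      have : Nonempty (fixedBy (Sylow 3 G) y) := ⟨⟨P, hPf⟩⟩
      have : 0 < Nat.card (fixedBy (Sylow 3 G) y) := Nat.card_pos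
      have : Nat.card (fixedBy (Sylow 3 G) y) ≠ 1 := hfy
      omega
    have := Finite.one_lt_card_iff_nontrivial.1 h1
    obtain ⟨⟨R, hR⟩, hRP⟩ := exists_ne (⟨P, hPf⟩ : fixedBy (Sylow 3 G) y)
    have hRP' : P ≠ R := fun h => hRP (Subtype.ext h.symm)
    have hyR : y ∈ (R : Subgroup G) := (smul_sylow_eq_iff (pow_nine hn hyP)).1 hR
    have hy3 := orderOf_eq_three hn hRP' hyP hyR hy1
    exact ⟨hy3, card_fixedBy_eq_four hG hn hy3 hRP' hyP hyR⟩
  have : Fintype (P : Subgroup G) := Fintype.ofFinite _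
  have : Fintype (Sylow 3 G) := Fintype.ofFinite _
  set B : Finset (P : Subgroup G) := Finset.univ.filter (fun y => y ≠ 1 ∧ f (y : G) ≠ 1) with hB
  -- orbit counting
  have hburn := sum_card_fixedBy_eq_card_orbits_mul_card_group (P : Subgroup G) (Sylow 3 G)
  rw [← Nat.card_eq_fintype_card (α := (P : Subgroup G)), hP9] at hburn
  have hpt : ∀ y : (P : Subgroup G), Fintype.card (fixedBy (Sylow 3 G) y) =
      1 + (if y = 1 then 9 else 0) + (if y ∈ B then 3 else 0) := by
    intro y
    have h1 : Fintype.card (fixedBy (Sylow 3 G) y) = f (y : G) := by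
      rw [← Nat.card_eq_fintype_card]; rfl
    rw [h1]
    by_cases hy1 : y = 1
    · have hyB : y ∉ B := by rw [hB, Finset.mem_filter]; tauto
      rw [if_pos hy1, if_neg hyB, hy1]
      exact hf1
    · rw [if_neg hy1]
      by_cases hyf : f (y : G) = 1
      · have hyB : y ∉ B := by rw [hB, Finset.mem_filter]; tauto
        rw [if_neg hyB, hyf]
      · have hyB : y ∈ B := by rw [hB, Finset.mem_filter]; exact ⟨Finset.mem_univ _, hy1, hyf⟩
        rw [if_pos hyB]
        exact (hf4 y y.2 (fun h => hy1 (Subtype.ext h)) hyf).2.2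
  rw [Finset.sum_congr rfl (fun y _ => hpt y), Finset.sum_add_distrib, Finset.sum_add_distrib,
    Finset.sum_const, Finset.card_univ, ← Nat.card_eq_fintype_card, hP9, Finset.sum_ite_eq' ,
    if_pos (Finset.mem_univ _), Finset.sum_ite_mem, Finset.univ_inter, Finset.sum_const, smul_eq_mul,
    smul_eq_mul] at hburn
  have hB3 : 3 ∣ B.card := by omega
  have hB8 : B.card ≤ 8 := by
    have h1 : B ⊆ Finset.univ.erase 1 := by
      intro y hy
      rw [hB, Finset.mem_filter] at hy
      exact Finset.mem_erase.2 ⟨hy.2.1, Finset.mem_univ _⟩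
    have h2 := Finset.card_le_card h1
    rw [Finset.card_erase_of_mem (Finset.mem_univ _), Finset.card_univ, ← Nat.card_eq_fintype_card,
      hP9] at h2
    exact h2
  -- classes
  have hK : ∀ y ∈ B, (B.filter (fun z : (P : Subgroup G) => IsConj (y : G) (z : G))).card = 4 ∨
      (B.filter (fun z : (P : Subgroup G) => IsConj (y : G) (z : G))).card = 8 := by
    intro y hy
    rw [hB, Finset.mem_filter] at hy
    obtain ⟨hyo, hyC, hyf⟩ := hf4 y y.2 (fun h => hy.2.1 (Subtype.ext h)) hy.2.2
    have h1 := card_fixedBy_sylow P (y : G)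
    have hyf' : Nat.card (fixedBy (Sylow 3 G) (y : G)) = 4 := hyf
    rw [hyf', card_normalizer_three hG hn P] at h1
    have h2 : (B.filter (fun z : (P : Subgroup G) => IsConj (y : G) (z : G))).card =
        Nat.card {z : G // IsConj (y : G) z ∧ z ∈ normalizer ((P : Subgroup G) : Set G)} := by
      rw [← Fintype.card_coe, ← Nat.card_eq_fintype_card]
      refine Nat.card_congr ⟨fun z => ⟨z.1.1, ?_, ?_⟩, fun z => ⟨⟨z.1, ?_⟩, ?_⟩, ?_, ?_⟩
      · exact (Finset.mem_filter.1 z.2).2
      · exact Subgroup.le_normalizer z.1.2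
      · have hzo : orderOf z.1 = 3 := by
          obtain ⟨c, hc⟩ := isConj_iff.1 z.2.1
          rw [← hc, orderOf_conj, hyo]
        have hz3 : z.1 ^ (3 ^ 1) = 1 := orderOf_dvd_iff_pow_eq_one.1 (by rw [hzo, pow_one])
        rw [← smul_sylow_eq_iff (p := 3) (n := 1) (R := P) hz3]
        exact Sylow.smul_eq_iff_mem_normalizer.2 z.2.2
      · rw [Finset.mem_filter, hB, Finset.mem_filter]
        have hzf : f z.1 = f (y : G) := (card_fixedBy_eq_of_isConj z.2.1).symm
        refine ⟨⟨Finset.mem_univ _, ?_, ?_⟩, z.2.1⟩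
        · intro h
          have h3 : (z.1 : G) = 1 := congrArg Subtype.val h
          rw [h3, hf1, hyf] at hzf
          omega
        · show f z.1 ≠ 1
          rw [hzf, hyf]; norm_num
      · intro z; rfl
      · intro z; rfl
    rw [h2]
    rcases hyC with h | h
    · rw [h] at h1; right; omega
    · rw [h] at h1; left; omega
  -- `x` belongs to `B`
  have hxB : (⟨x, hxP⟩ : (P : Subgroup G)) ∈ B := by
    rw [hB, Finset.mem_filter]
    refine ⟨Finset.mem_univ _, fun h => hx1 (congrArg Subtype.val h), ?_⟩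
    have h1 := (card_fixedBy_eq_four hG hn (orderOf_eq_three hn hPQ hxP hxQ hx1) hPQ hxP hxQ).2
    show f x ≠ 1
    have h2 : f x = 4 := h1
    omega
  have hKx := hK _ hxB
  set K := B.filter (fun z : (P : Subgroup G) => IsConj ((⟨x, hxP⟩ : (P : Subgroup G)) : G) (z : G)) with hKdef
  have hKB : K ⊆ B := Finset.filter_subset _ _
  by_cases heq : K = B
  · rw [heq] at hKx
    omega
  · obtain ⟨y, hyB, hyK⟩ : ∃ y ∈ B, y ∉ K := by
      by_contra hcon
      push Not at hcon
      exact heq (Finset.Subset.antisymm hKB hcon)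
    have hKy := hK _ hyB
    set L := B.filter (fun z : (P : Subgroup G) => IsConj (y : G) (z : G)) with hLdef
    have hdisj : Disjoint K L := by
      rw [Finset.disjoint_left]
      intro z hzK hzL
      rw [hKdef, Finset.mem_filter] at hzK
      rw [hLdef, Finset.mem_filter] at hzL
      apply hyK
      rw [hKdef, Finset.mem_filter]
      exact ⟨hyB, hzK.2.trans hzL.2.symm⟩
    have h1 : (K ∪ L).card = K.card + L.card := Finset.card_union_of_disjoint hdisj
    have h2 : (K ∪ L).card ≤ B.card :=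
      Finset.card_le_card (Finset.union_subset hKB (Finset.filter_subset _ _))
    omega

end Cfsg.Agent.Classification.SmallOrders.N720
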