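import Cfsg.Agent.Classification.SmallOrders.SylowFix
import Cfsg.Agent.Classification.SmallOrders.Count
import Cfsg.Agent.Classification.SmallOrders.Cands
import Cfsg.Agent.S0992

/-!
No simple group of order 756.
-/

set_option autoImplicit false

namespace Cfsg.Agent.Classification.SmallOrders.N756

open Subgroup MulAction Cands Tools Invol Autom SylowFix SmallOrders.Count

variable {G : Type*} [Group G] [Finite G]

/-- In a simple group of order `756`, if an element of order 3 centralizes a Sylow 2-subgroup `V`, then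
`|C(V)| = 12` and there are 21 Sylow 2-subgroups. -/
theorem card_centralizer_two [IsSimpleGroup G] (hG : ¬ IsMulCommutative G) (hn : Nat.card G = 756)
    (V : Sylow 2 G) {x : G} (hx : orderOf x = 3)
    (hxV : x ∈ centralizer ((V : Subgroup G) : Set G)) :
    Nat.card (centralizer ((V : Subgroup G) : Set G)) = 12 ∧ Nat.card (Sylow 2 G) = 21 := by
  have hp2 : Fact (Nat.Prime 2) := ⟨by norm_num⟩
  have hn2 : Nat.card G = 2 ^ 2 * 189 := by rw [hn]; norm_num
  have hVcard : Nat.card V = 2 ^ 2 := SmallSimple.SylowPrimeInvol.card_sylow_of_card_eq V hn2 (by norm_num)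
  have hrel := (Cfsg.Agent.S0992.result hG (by rw [hn]; decide) (by rw [hn]; norm_num) V).2
  have hN : Nat.card (normalizer ((V : Subgroup G) : Set G)) =
      Nat.card (centralizer ((V : Subgroup G) : Set G)) * 3 := by
    have := SmallSimple.BurnsideNC.card_normalizer_eq (V : Subgroup G)
    rw [hrel] at this
    exact this
  have hVcomm : IsMulCommutative V := IsPGroup.isMulCommutative_of_card_eq_prime_sq hVcard
  have hVle : (V : Subgroup G) ≤ centralizer ((V : Subgroup G) : Set G) := by
    intro x hx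
    rw [mem_centralizer_iff]
    intro y hy
    exact congrArg Subtype.val (hVcomm.is_comm.comm (⟨y, hy⟩ : V) ⟨x, hx⟩)
  have h4 : 4 ∣ Nat.card (centralizer ((V : Subgroup G) : Set G)) := by
    have := Subgroup.card_dvd_of_le hVle
    rw [show Nat.card (V : Subgroup G) = 2 ^ 2 from hVcard] at this
    exact this
  have h3 : 3 ∣ Nat.card (centralizer ((V : Subgroup G) : Set G)) := by
    rw [← hx]
    exact Subgroup.orderOf_dvd_natCard _ hxV
  obtain ⟨j, hj⟩ : 12 ∣ Nat.card (centralizer ((V : Subgroup G) : Set G)) := by omega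
  have hidx := le_index hG (k := 9) hn (by decide) _
    (SmallSimple.Embed.normalizer_sylow_ne_top hG (by rw [hn]; norm_num) V)
  have hmul := (normalizer ((V : Subgroup G) : Set G)).card_mul_index
  rw [hn, hN, hj] at hmul
  have hj0 : j ≠ 0 := by rintro rfl; omega
  have hj2 : j ≤ 2 := by
    by_contra hcon
    push Not at hcon
    have : 12 * 3 * 3 * 9 ≤ 12 * j * 3 * (normalizer ((V : Subgroup G) : Set G)).index :=
      Nat.mul_le_mul (by omega) hidx
    omega
  have hsyl : Nat.card (Sylow 2 G) = (normalizer ((V : Subgroup G) : Set G)).index :=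
    V.card_eq_index_normalizer
  interval_cases j
  · exact absurd rfl hj0
  · refine ⟨by rw [hj], ?_⟩
    rw [hsyl]
    omega
  · exfalso
    omega

/-- In a simple group of order `756`, the centralizer of a Sylow 2-subgroup has at most two elements of
order 3. -/
theorem card_order_three_le [IsSimpleGroup G] (hG : ¬ IsMulCommutative G) (hn : Nat.card G = 756)
    (V : Sylow 2 G) :
    Nat.card {x : G // orderOf x = 3 ∧ x ∈ centralizer ((V : Subgroup G) : Set G)} ≤ 2 := by
  classical
  have hp2 : Fact (Nat.Prime 2) := ⟨by norm_num⟩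
  have hp3 : Fact (Nat.Prime 3) := ⟨by norm_num⟩
  by_cases hne : Nonempty {x : G // orderOf x = 3 ∧ x ∈ centralizer ((V : Subgroup G) : Set G)}
  swap
  · rw [not_nonempty_iff] at hne
    rw [Nat.card_of_isEmpty]
    norm_num
  obtain ⟨x, hx, hxV⟩ := hne
  obtain ⟨hC, hS⟩ := card_centralizer_two hG hn V hx hxV
  have hn2 : Nat.card G = 2 ^ 2 * 189 := by rw [hn]; norm_num
  have hVcard : Nat.card V = 2 ^ 2 := SmallSimple.SylowPrimeInvol.card_sylow_of_card_eq V hn2 (by norm_num)
  have hVcomm : IsMulCommutative V := IsPGroup.isMulCommutative_of_card_eq_prime_sq hVcard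
  have hVle : (V : Subgroup G) ≤ centralizer ((V : Subgroup G) : Set G) := by
    intro x hx
    rw [mem_centralizer_iff]
    intro y hy
    exact congrArg Subtype.val (hVcomm.is_comm.comm (⟨y, hy⟩ : V) ⟨x, hx⟩)
  -- the Sylow 3-subgroup of `C(V)` is unique
  have hone : Nat.card (Sylow 3 (centralizer ((V : Subgroup G) : Set G))) = 1 := by
    set K := centralizer ((V : Subgroup G) : Set G) with hK
    obtain ⟨T⟩ : Nonempty (Sylow 3 K) := inferInstance
    have hK3 : Nat.card K = 3 ^ 1 * 4 := by rw [hC]; norm_num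
    have hT : Nat.card T = 3 ^ 1 := SmallSimple.SylowPrimeInvol.card_sylow_of_card_eq T hK3 (by norm_num)
    have h1 := card_sylow_mul_card_normalizer T hC rfl
    have h2 : 3 ∣ Nat.card (normalizer ((T : Subgroup K) : Set K)) := by
      have := Subgroup.card_dvd_of_le (Subgroup.le_normalizer (H := (T : Subgroup K)))
      rwa [show Nat.card (T : Subgroup K) = 3 ^ 1 from hT, pow_one] at this
    have h3 : 4 ∣ Nat.card (normalizer ((T : Subgroup K) : Set K)) := by
      have h4 : (V : Subgroup G).subgroupOf K ≤ normalizer ((T : Subgroup K) : Set K) := by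
        intro v hv
        rw [mem_subgroupOf] at hv
        refine Tools.centralizer_le_normalizer _ ?_
        rw [mem_centralizer_iff]
        intro y _
        exact Subtype.ext (mem_centralizer_iff.1 y.2 (v : G) hv).symm
      have h5 := Subgroup.card_dvd_of_le h4
      rw [← card_inf_eq, inf_eq_right.2 hVle, show Nat.card (V : Subgroup G) = 2 ^ 2 from hVcard] at h5
      exact h5
    obtain ⟨c, hc⟩ : 12 ∣ Nat.card (normalizer ((T : Subgroup K) : Set K)) := by omega
    rw [hc] at h1
    have h6 : Nat.card (Sylow 3 K) * c = 1 := by nlinarith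
    exact Nat.eq_one_of_mul_eq_one_right h6
  have h9 : ¬ 3 ^ 2 ∣ Nat.card (centralizer ((V : Subgroup G) : Set G)) := by rw [hC]; norm_num
  have hsub : ({y : G | orderOf y = 3 ∧ y ∈ centralizer ((V : Subgroup G) : Set G)}) ⊆
      {x, x ^ 2} := by
    rintro y ⟨hy, hyV⟩
    have h1 := mem_zpowers_of_orderOf_eq_of_mem hone h9 hxV hyV hx hy
    rw [mem_zpowers_iff_mem_range_orderOf, hx] at h1
    simp only [Finset.mem_image, Finset.mem_range] at h1
    obtain ⟨k, hk, rfl⟩ := h1
    interval_cases k
    · rw [pow_zero, orderOf_one] at hy; omega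
    · left; rw [pow_one]
    · right; rfl
  have h1 := Set.ncard_le_ncard hsub (Set.toFinite _)
  have h2 : ({x, x ^ 2} : Set G).ncard ≤ 2 := by
    have := Set.ncard_insert_le x {x ^ 2}
    rwa [Set.ncard_singleton] at this
  exact h1.trans h2

/-- Distinct Sylow 3-subgroups meet in a subgroup of order at most 3. -/
theorem card_inf_le [IsSimpleGroup G] (hG : ¬ IsMulCommutative G) (hn : Nat.card G = 756)
    (P Q : Sylow 3 G) (hPQ : P ≠ Q) :
    Nat.card ((P : Subgroup G) ⊓ (Q : Subgroup G) : Subgroup G) = 1 ∨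
      Nat.card ((P : Subgroup G) ⊓ (Q : Subgroup G) : Subgroup G) = 3 := by
  have hp3 : Fact (Nat.Prime 3) := ⟨by norm_num⟩
  have hn3 : Nat.card G = 3 ^ 3 * 28 := by rw [hn]; norm_num
  have hcard : ∀ P : Sylow 3 G, Nat.card P = 3 ^ 3 := fun P =>
    SmallSimple.SylowPrimeInvol.card_sylow_of_card_eq P hn3 (by norm_num)
  have h1 : Nat.card ((P : Subgroup G) ⊓ (Q : Subgroup G) : Subgroup G) ∣ 3 ^ 3 := by
    rw [← hcard P]; exact Subgroup.card_dvd_of_le inf_le_left
  obtain ⟨j, hj, hj'⟩ := (Nat.dvd_prime_pow (by norm_num)).1 h1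
  have hP := SmallSimple.SylowMaxInter.card_lt_card_inf_normalizer P Q hPQ
  have hQ := SmallSimple.SylowMaxInter.card_lt_card_inf_normalizer Q P hPQ.symm
  rw [inf_comm (Q : Subgroup G) (P : Subgroup G)] at hQ
  set D : Subgroup G := (P : Subgroup G) ⊓ (Q : Subgroup G) with hD
  rw [hj'] at hP hQ ⊢
  have h2 : ∀ R : Sylow 3 G, 3 ^ 2 < Nat.card ((R : Subgroup G) ⊓ normalizer (D : Set G) : Subgroup G) →
      (R : Subgroup G) ≤ normalizer (D : Set G) := by
    intro R hR
    have h3 : Nat.card ((R : Subgroup G) ⊓ normalizer (D : Set G) : Subgroup G) ∣ 3 ^ 3 := by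
      rw [← hcard R]; exact Subgroup.card_dvd_of_le inf_le_left
    obtain ⟨i, hi, hi'⟩ := (Nat.dvd_prime_pow (by norm_num)).1 h3
    rw [hi'] at hR
    have h4 : 2 < i := (Nat.pow_lt_pow_iff_right (by norm_num)).1 hR
    apply le_normalizer_of_card_le
    rw [hi', show Nat.card (R : Subgroup G) = 3 ^ 3 from hcard R, show i = 3 by omega]
  interval_cases j
  · left; norm_num
  · right; norm_num
  · exfalso
    have hPN := h2 P hP
    have hQN := h2 Q hQ
    obtain ⟨d, hd1, hd2, hd3⟩ := exists_card_eq_mul P _ hPN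
    have hd : d ≠ 1 := by
      intro hd
      rw [hd] at hd2
      have hsub : Subsingleton (Sylow 3 ↥(normalizer (D : Set G))) :=
        (Nat.card_eq_one_iff_unique.1 hd2.symm).1
      have h1 : P.subtype hPN = Q.subtype hQN := Subsingleton.elim _ _
      exact hPQ (Sylow.subtype_injective h1)
    have hne : normalizer (D : Set G) ≠ ⊤ := by
      apply normalizer_ne_top
      · intro h; rw [h, Subgroup.card_bot] at hj'; omega
      · intro h; rw [h, Subgroup.card_top, hn] at hj'; omega
    have hidx := le_index hG (k := 9) hn (by decide) _ hne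
    have hmul := (normalizer (D : Set G)).card_mul_index
    rw [hn] at hmul
    have h27 : 27 ≤ Nat.card (normalizer (D : Set G) ⊓
        normalizer ((P : Subgroup G) : Set G) : Subgroup G) := by
      have := Subgroup.card_le_of_le (le_inf hPN (Subgroup.le_normalizer (H := (P : Subgroup G))))
      rwa [show Nat.card (P : Subgroup G) = 3 ^ 3 from hcard P] at this
    have h4 : 4 * 27 ≤ Nat.card (normalizer (D : Set G)) := by
      rw [hd3]; exact Nat.mul_le_mul (by omega) h27
    have h5 : 4 * 27 * 9 ≤ Nat.card (normalizer (D : Set G)) * (normalizer (D : Set G)).index :=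
      Nat.mul_le_mul h4 hidx
    omega
  · exfalso
    have h3 : (P : Subgroup G) ≤ Q := by
      have h4 : D = (P : Subgroup G) := by
        apply Subgroup.eq_of_le_of_card_ge inf_le_left
        rw [hj', show Nat.card (P : Subgroup G) = 3 ^ 3 from hcard P]
      rw [← h4]; exact inf_le_right
    exact hPQ (Sylow.ext (P.is_maximal' Q.isPGroup' h3).symm)

/-- The centralizers of the Sylow 7-subgroups have order 7 and there are 36 of them. -/
theorem card_centralizer_seven [IsSimpleGroup G] (hG : ¬ IsMulCommutative G) (hn : Nat.card G = 756)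
    [Fact (Nat.Prime 7)] :
    Nat.card (Sylow 7 G) = 36 ∧ ∀ P : Sylow 7 G, Nat.card P = 7 ∧
      Nat.card (centralizer ((P : Subgroup G) : Set G)) = 7 := by
  have hp7 : Fact (Nat.Prime 7) := ⟨by norm_num⟩
  have hn7 : Nat.card G = 7 ^ 1 * 108 := by rw [hn]; norm_num
  have h7 := card_sylow_mem_cands (p := 7) hG (by norm_num) hn7 (by norm_num)
  rw [show cands 7 1 108 = [36] by decide +kernel, List.mem_singleton] at h7
  refine ⟨h7, fun P => ?_⟩
  have hPcard : Nat.card P = 7 := SmallSimple.SylowPrimeInvol.card_sylow_of_card_eq P hn7 (by norm_num)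
  have hNP : Nat.card (normalizer ((P : Subgroup G) : Set G)) = 7 * 3 := by
    have := card_sylow_mul_card_normalizer P hn h7
    omega
  obtain ⟨e, f, he1, he2, he3, he4, -⟩ := automizer_prime hG P hPcard hNP
  have hf : f = 1 := by
    have : e ≤ 6 := Nat.le_of_dvd (by norm_num) he1
    interval_cases e <;> omega
  rw [hf] at he4
  exact ⟨hPcard, he4⟩

/-- The structure of the normalizer of an intersection of order 3. -/
theorem main_structure [IsSimpleGroup G] (hG : ¬ IsMulCommutative G) (hn : Nat.card G = 756)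
    (P Q : Sylow 3 G) (hPQ : P ≠ Q)
    (h3 : Nat.card ((P : Subgroup G) ⊓ (Q : Subgroup G) : Subgroup G) = 3) :
    Nat.card {R : Sylow 3 G // (P : Subgroup G) ⊓ (Q : Subgroup G) ≤ (R : Subgroup G)} ≤ 4 ∧
      ∃ V : Sylow 2 G, (P : Subgroup G) ⊓ (Q : Subgroup G) ≤ centralizer ((V : Subgroup G) : Set G) := by
  have hp2 : Fact (Nat.Prime 2) := ⟨by norm_num⟩
  have hp3 : Fact (Nat.Prime 3) := ⟨by norm_num⟩
  have hp7 : Fact (Nat.Prime 7) := ⟨by norm_num⟩
  have hn2 : Nat.card G = 2 ^ 2 * 189 := by rw [hn]; norm_num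
  have hn3 : Nat.card G = 3 ^ 3 * 28 := by rw [hn]; norm_num
  have hcard : ∀ P : Sylow 3 G, Nat.card P = 3 ^ 3 := fun P =>
    SmallSimple.SylowPrimeInvol.card_sylow_of_card_eq P hn3 (by norm_num)
  have hmax : ∀ P' Q' : Sylow 3 G, P' ≠ Q' → Nat.card ↥((P' : Subgroup G) ⊓ (Q' : Subgroup G)) ≤
      Nat.card ↥((P : Subgroup G) ⊓ (Q : Subgroup G)) := by
    intro P' Q' h
    rw [h3]
    rcases card_inf_le hG hn P' Q' h with h | h <;> omega
  obtain ⟨m1, -, m3⟩ := SmallSimple.SylowMaxInter.main P Q hPQ hmax
  have m4 := SmallSimple.SylowMaxInter.card_lt_card_sylow P Q hPQ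
  have m5 := SmallSimple.SylowMaxInter.card_lt_card_inf_normalizer P Q hPQ
  have m6 := SmallSimple.SylowMaxInter.card_lt_card_inf_normalizer Q P hPQ.symm
  rw [inf_comm (Q : Subgroup G) (P : Subgroup G)] at m6
  rw [h3] at m4 m5 m6
  have hDP : (P : Subgroup G) ⊓ (Q : Subgroup G) ≤ P := inf_le_left
  have hDQ : (P : Subgroup G) ⊓ (Q : Subgroup G) ≤ Q := inf_le_right
  have hPQinf : ∀ X : Subgroup G, X ≤ P → X ≤ Q → X ≤ (P : Subgroup G) ⊓ (Q : Subgroup G) :=
    fun X h1 h2 => le_inf h1 h2
  have mlt : ∀ R : Sylow 3 G, (P : Subgroup G) ⊓ (Q : Subgroup G) ≤ R →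
      3 < Nat.card ((R : Subgroup G) ⊓
        normalizer (((P : Subgroup G) ⊓ (Q : Subgroup G) : Subgroup G) : Set G) : Subgroup G) := by
    intro R hR
    have h1 : (P : Subgroup G) ⊓ (Q : Subgroup G) < R := by
      refine lt_of_le_of_ne hR ?_
      intro h
      rw [h, show Nat.card (R : Subgroup G) = 3 ^ 3 from hcard R] at h3
      norm_num at h3
    have h2 := SmallSimple.SylowMaxInter.lt_inf_normalizer R.isPGroup' h1
    have h4 : Nat.card ((P : Subgroup G) ⊓ (Q : Subgroup G) : Subgroup G) <
        Nat.card ((R : Subgroup G) ⊓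
          normalizer (((P : Subgroup G) ⊓ (Q : Subgroup G) : Subgroup G) : Set G) : Subgroup G) := by
      refine lt_of_le_of_ne (Subgroup.card_le_of_le h2.le) ?_
      intro heq
      exact h2.ne (Subgroup.eq_of_le_of_card_ge h2.le heq.ge)
    rwa [h3] at h4
  set D : Subgroup G := (P : Subgroup G) ⊓ (Q : Subgroup G) with hD
  have hne : normalizer (D : Set G) ≠ ⊤ := by
    apply normalizer_ne_top
    · intro h; rw [h, Subgroup.card_bot] at h3; omega
    · intro h; rw [h, Subgroup.card_top, hn] at h3; omega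
  have hidx := le_index hG (k := 9) hn (by decide) _ hne
  have hmul := (normalizer (D : Set G)).card_mul_index
  rw [hn] at hmul
  -- order of the Sylow 3-subgroups of `N(D)`
  have hS : ∀ S : Sylow 3 ↥(normalizer (D : Set G)), Nat.card S = 3 ^ 2 := by
    intro S
    have h1 := m4 S
    obtain ⟨T, hT⟩ := (S.isPGroup'.map (normalizer (D : Set G)).subtype).exists_le_sylow
    have hSm : Nat.card ((S : Subgroup ↥(normalizer (D : Set G))).map
        (normalizer (D : Set G)).subtype) = Nat.card S :=
      Subgroup.card_map_of_injective (normalizer (D : Set G)).subtype_injective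
    have h2 : Nat.card S ∣ 3 ^ 3 := by
      rw [← hSm, ← hcard T]; exact Subgroup.card_dvd_of_le hT
    obtain ⟨i, hi, hi'⟩ := (Nat.dvd_prime_pow (by norm_num)).1 h2
    rw [hi'] at h1 ⊢
    interval_cases i
    · omega
    · omega
    · rfl
    · exfalso
      have h4 : (S : Subgroup ↥(normalizer (D : Set G))).map (normalizer (D : Set G)).subtype = T :=
        Subgroup.eq_of_le_of_card_ge hT (by rw [hSm, hi', show Nat.card (T : Subgroup G) = 3 ^ 3 from hcard T])
      have hTN : (T : Subgroup G) ≤ normalizer (D : Set G) := by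
        rw [← h4]; exact Subgroup.map_subtype_le _
      obtain ⟨d, hd1, hd2, hd3⟩ := exists_card_eq_mul T _ hTN
      have hd : d ≠ 1 := by
        intro hd
        rw [← hd2, hd] at m1
        omega
      have h27 : 27 ≤ Nat.card (normalizer (D : Set G) ⊓
          normalizer ((T : Subgroup G) : Set G) : Subgroup G) := by
        have := Subgroup.card_le_of_le (le_inf hTN (Subgroup.le_normalizer (H := (T : Subgroup G))))
        rwa [show Nat.card (T : Subgroup G) = 3 ^ 3 from hcard T] at this
      have h4 : 4 * 27 ≤ Nat.card (normalizer (D : Set G)) := by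
        rw [hd3]; exact Nat.mul_le_mul (by omega) h27
      have h5 : 4 * 27 * 9 ≤ Nat.card (normalizer (D : Set G)) * (normalizer (D : Set G)).index :=
        Nat.mul_le_mul h4 hidx
      omega
  -- `|N(D) : C(D)|` divides 2
  have hrel : (centralizer (D : Set G)).relIndex (normalizer (D : Set G)) ∣ 2 := by
    have h1 := SmallSimple.BurnsideNC.relIndex_dvd_card_mulAut D
    have hc : IsCyclic D := isCyclic_of_prime_card h3
    rw [hc.card_mulAut, h3] at h1
    exact h1
  have hcardN := SmallSimple.BurnsideNC.card_normalizer_eq D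
  -- 7 does not divide `|N(D)|`
  have h7 : ¬ 7 ∣ Nat.card (normalizer (D : Set G)) := by
    intro h7
    rw [hcardN] at h7
    have h8 : 7 ∣ Nat.card (centralizer (D : Set G)) := by
      rcases (Nat.Prime.dvd_mul hp7.out).1 h7 with h | h
      · exact h
      · have := h.trans hrel
        norm_num at this
    obtain ⟨R, hR⟩ := exists_dvd_card_centralizer (q := 7)
      (fun R => ((card_centralizer_seven hG hn).2 R).1) h3 h8
    rw [((card_centralizer_seven hG hn).2 R).2] at hR
    norm_num at hR
  have h36 : Nat.card (normalizer (D : Set G)) = 36 ∧ Nat.card (Sylow 3 ↥(normalizer (D : Set G))) = 4 := by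
    obtain ⟨S⟩ : Nonempty (Sylow 3 ↥(normalizer (D : Set G))) := inferInstance
    have h1 := (S : Subgroup ↥(normalizer (D : Set G))).card_mul_index
    rw [show Nat.card (S : Subgroup ↥(normalizer (D : Set G))) = 3 ^ 2 from hS S] at h1
    have h2 : ¬ 3 ∣ (S : Subgroup ↥(normalizer (D : Set G))).index := S.not_dvd_index
    have h4 := S.card_dvd_index
    have h5 := card_sylow_modEq_one 3 ↥(normalizer (D : Set G))
    unfold Nat.ModEq at h5
    set k := (S : Subgroup ↥(normalizer (D : Set G))).index with hk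
    have h6 : k ∣ 84 := by
      refine ⟨(normalizer (D : Set G)).index, ?_⟩
      have : 9 * 84 = 9 * (k * (normalizer (D : Set G)).index) := by
        rw [← mul_assoc, show 9 * k = Nat.card (normalizer (D : Set G)) from h1, hmul]
      exact Nat.eq_of_mul_eq_mul_left (by norm_num) this
    have h8 : ¬ 7 ∣ k := fun h => h7 (by rw [← h1]; exact h.mul_left _)
    have h9 : k ∣ 4 := by
      have h10 : Nat.Coprime k 21 := by
        rw [show 21 = 3 * 7 by norm_num]
        exact Nat.Coprime.mul_right (Nat.Coprime.symm ((Nat.Prime.coprime_iff_not_dvd hp3.out).2 h2))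
          (Nat.Coprime.symm ((Nat.Prime.coprime_iff_not_dvd hp7.out).2 h8))
      exact h10.dvd_of_dvd_mul_right (by simpa using h6)
    have h11 : k ≤ 4 := Nat.le_of_dvd (by norm_num) h9
    have h12 : 0 < k := Nat.pos_of_dvd_of_pos h9 (by norm_num)
    have h13 : Nat.card (Sylow 3 ↥(normalizer (D : Set G))) ≤ k := Nat.le_of_dvd h12 h4
    have h14 : Nat.card (Sylow 3 ↥(normalizer (D : Set G))) = 4 := by omega
    have h15 : k = 4 := by omega
    refine ⟨?_, h14⟩
    rw [← h1, h15]
    norm_num
  obtain ⟨h36, h4⟩ := h36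
  have hcard9 : ∀ R : Sylow 3 G, D ≤ R →
      Nat.card ((R : Subgroup G) ⊓ normalizer (D : Set G) : Subgroup G) = 9 := by
    intro R hR
    have h1 := mlt R hR
    have h2 : Nat.card ((R : Subgroup G) ⊓ normalizer (D : Set G) : Subgroup G) ∣ 3 ^ 3 := by
      rw [← hcard R]; exact Subgroup.card_dvd_of_le inf_le_left
    have h5 : Nat.card ((R : Subgroup G) ⊓ normalizer (D : Set G) : Subgroup G) ∣ 36 := by
      rw [← h36]; exact Subgroup.card_dvd_of_le inf_le_right
    have h6 : Nat.card ((R : Subgroup G) ⊓ normalizer (D : Set G) : Subgroup G) ∣ Nat.gcd (3 ^ 3) 36 :=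
      Nat.dvd_gcd h2 h5
    have h7 : Nat.gcd (3 ^ 3) 36 = 3 ^ 2 := by decide
    rw [h7] at h6
    obtain ⟨i, hi, hi'⟩ := (Nat.dvd_prime_pow (by norm_num)).1 h6
    rw [hi'] at h1 ⊢
    interval_cases i <;> omega
  constructor
  · -- at most 4 Sylow 3-subgroups contain `D`
    rw [← h4]
    choose F hF1 hF2 using m3
    have hsurj : ∀ R : {R : Sylow 3 G // D ≤ R}, ∃ S, F S = R := by
      rintro ⟨R, hR⟩
      have h1 : IsPGroup 3 ((R : Subgroup G).subgroupOf (normalizer (D : Set G))) :=
        R.isPGroup'.comap_of_injective _ (normalizer (D : Set G)).subtype_injective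
      obtain ⟨S, hS'⟩ := h1.exists_le_sylow
      refine ⟨S, ?_⟩
      have h2 : (R : Subgroup G).subgroupOf (normalizer (D : Set G)) = S := by
        apply Subgroup.eq_of_le_of_card_ge hS'
        rw [show Nat.card (S : Subgroup ↥(normalizer (D : Set G))) = 3 ^ 2 from hS S,
          ← card_inf_eq, inf_comm, hcard9 R hR]
        norm_num
      have h3 : (S : Subgroup ↥(normalizer (D : Set G))).map (normalizer (D : Set G)).subtype ≤ R := by
        rw [← h2, Subgroup.subgroupOf_map_subtype]
        exact inf_le_left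
      exact (hF2 S R h3).symm
    choose g hg using hsurj
    refine Nat.card_le_card_of_injective g ?_
    intro a b hab
    have := hg a
    rw [hab, hg b] at this
    exact Subtype.ext this.symm
  · -- `D` centralizes a Sylow 2-subgroup
    have hC : Nat.card (centralizer (D : Set G)) = 36 := by
      rw [h36] at hcardN
      rcases (Nat.dvd_prime Nat.prime_two).1 hrel with h | h
      · rw [h, mul_one] at hcardN
        exact hcardN.symm
      · exfalso
        rw [h] at hcardN
        have h18 : Nat.card (centralizer (D : Set G)) = 18 := by omega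
        have hX : ∀ R : Sylow 3 G, D ≤ R → (R : Subgroup G) ⊓ normalizer (D : Set G) ≤
            centralizer (D : Set G) := by
          intro R hR
          have h1 := hcard9 R hR
          have h2 : IsMulCommutative ((R : Subgroup G) ⊓ normalizer (D : Set G) : Subgroup G) :=
            IsPGroup.isMulCommutative_of_card_eq_prime_sq (p := 3) (by rw [h1]; norm_num)
          intro x hx
          rw [mem_centralizer_iff]
          intro y hy
          have hy' : y ∈ (R : Subgroup G) ⊓ normalizer (D : Set G) :=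
            mem_inf.2 ⟨hR hy, Subgroup.le_normalizer hy⟩
          exact congrArg Subtype.val (h2.is_comm.comm (⟨y, hy'⟩ :
            ((R : Subgroup G) ⊓ normalizer (D : Set G) : Subgroup G)) ⟨x, hx⟩)
        have hXP := hX P hDP
        have hXQ := hX Q hDQ
        have c9P := hcard9 P hDP
        have c9Q := hcard9 Q hDQ
        set XP := (P : Subgroup G) ⊓ normalizer (D : Set G) with hXPdef
        set XQ := (Q : Subgroup G) ⊓ normalizer (D : Set G) with hXQdef
        have h1 : XP.relIndex (centralizer (D : Set G)) = 2 := by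
          have h2 := Subgroup.card_mul_index (XP.subgroupOf (centralizer (D : Set G)))
          rw [← card_inf_eq, inf_eq_right.2 hXP, c9P, h18] at h2
          have h5 : XP.relIndex (centralizer (D : Set G)) =
            (XP.subgroupOf (centralizer (D : Set G))).index := rfl
          omega
        have h2 : XP.relIndex XQ ≤ 2 := by
          rw [← h1]
          exact relIndex_le_of_le_right hXQ (by rw [h1]; norm_num)
        have h5 : Nat.card (XQ ⊓ XP : Subgroup G) * XP.relIndex XQ = 9 := by
          rw [card_inf_eq, ← c9Q]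
          exact Subgroup.card_mul_index _
        have h6 : Nat.card (XQ ⊓ XP : Subgroup G) ≤ 3 := by
          rw [← h3]
          apply Subgroup.card_le_of_le
          apply hPQinf
          · exact inf_le_right.trans inf_le_left
          · exact inf_le_left.trans inf_le_left
        nlinarith
    obtain ⟨K, hK1, hK2⟩ := exists_le_card_eq (p := 2) (k := 2) (centralizer (D : Set G))
      (by rw [hC]; norm_num)
    obtain ⟨V, hV⟩ := (IsPGroup.of_card hK2).exists_le_sylow
    have hVcard : Nat.card V = 2 ^ 2 :=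
      SmallSimple.SylowPrimeInvol.card_sylow_of_card_eq V hn2 (by norm_num)
    have hKV : K = (V : Subgroup G) := Subgroup.eq_of_le_of_card_ge hV
      (by rw [hK2, show Nat.card (V : Subgroup G) = 2 ^ 2 from hVcard])
    refine ⟨V, ?_⟩
    rw [← hKV]
    intro x hx
    rw [mem_centralizer_iff]
    intro y hy
    exact (mem_centralizer_iff.1 (hK1 hy) x hx).symm

/-- There is no simple group of order 756. -/
theorem card_ne_756 [IsSimpleGroup G] (hG : ¬ IsMulCommutative G) : Nat.card G ≠ 756 := by
  classical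
  intro hn
  have hp2 : Fact (Nat.Prime 2) := ⟨by norm_num⟩
  have hp3 : Fact (Nat.Prime 3) := ⟨by norm_num⟩
  have hp7 : Fact (Nat.Prime 7) := ⟨by norm_num⟩
  have hn3 : Nat.card G = 3 ^ 3 * 28 := by rw [hn]; norm_num
  have hcard : ∀ P : Sylow 3 G, Nat.card P = 3 ^ 3 := fun P =>
    SmallSimple.SylowPrimeInvol.card_sylow_of_card_eq P hn3 (by norm_num)
  have h3 := card_sylow_mem_cands (p := 3) hG (by norm_num) hn3 (by norm_num)
  rw [show cands 3 3 28 = [28] by decide +kernel, List.mem_singleton] at h3
  obtain ⟨h7, h7'⟩ := card_centralizer_seven hG hn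
  have : Fintype G := Fintype.ofFinite G
  have : Fintype (Sylow 3 G) := Fintype.ofFinite _
  -- multiplicities
  let mult : G → ℕ := fun x => Nat.card {P : Sylow 3 G // x ∈ (P : Subgroup G) ∧ x ≠ 1}
  let B : Set G := {x | ∃ P Q : Sylow 3 G, P ≠ Q ∧ x ∈ (P : Subgroup G) ∧ x ∈ (Q : Subgroup G) ∧ x ≠ 1}
  let N3 : Set G := {x | x ≠ 1 ∧ ∃ P : Sylow 3 G, x ∈ (P : Subgroup G)}
  have hsum : ∑ x : G, mult x = 28 * 26 := by
    have h1 : Nat.card (Σ x : G, {P : Sylow 3 G // x ∈ (P : Subgroup G) ∧ x ≠ 1}) = ∑ x : G, mult x := by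
      rw [Nat.card_sigma]
    have h2 : Nat.card (Σ x : G, {P : Sylow 3 G // x ∈ (P : Subgroup G) ∧ x ≠ 1}) =
        Nat.card (Σ P : Sylow 3 G, {x : (P : Subgroup G) // x ≠ 1}) := by
      refine Nat.card_congr ⟨fun z => ⟨z.2.1, ⟨⟨z.1, z.2.2.1⟩, fun h => z.2.2.2 (congrArg Subtype.val h)⟩⟩,
        fun z => ⟨((z.2.1 : (z.1 : Subgroup G)) : G), ⟨z.1, (z.2.1).2, fun h => z.2.2 (Subtype.ext h)⟩⟩,
        ?_, ?_⟩
      · intro z; rfl
      · intro z; rfl
    rw [← h1, h2, Nat.card_sigma]
    have h4 : ∀ P : Sylow 3 G, Nat.card {x : (P : Subgroup G) // x ≠ 1} = 26 := by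
      intro P
      have : Fintype (P : Subgroup G) := Fintype.ofFinite _
      rw [Nat.card_eq_fintype_card, Fintype.card_subtype_compl, ← Nat.card_eq_fintype_card,
        Fintype.card_subtype_eq, show Nat.card (P : Subgroup G) = 3 ^ 3 from hcard P]
      norm_num
    simp only [h4]
    rw [Finset.sum_const, Finset.card_univ, ← Nat.card_eq_fintype_card, h3, smul_eq_mul]
  -- structure for elements of `B`
  have hB : ∀ x ∈ B, orderOf x = 3 ∧ mult x ≤ 4 ∧
      ∃ V : Sylow 2 G, x ∈ centralizer ((V : Subgroup G) : Set G) := by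
    rintro x ⟨P, Q, hPQ, hxP, hxQ, hx1⟩
    have hxD : x ∈ (P : Subgroup G) ⊓ (Q : Subgroup G) := mem_inf.2 ⟨hxP, hxQ⟩
    have h4 : Nat.card ((P : Subgroup G) ⊓ (Q : Subgroup G) : Subgroup G) = 3 := by
      rcases card_inf_le hG hn P Q hPQ with h | h
      · exfalso
        rw [Subgroup.card_eq_one] at h
        rw [h, mem_bot] at hxD
        exact hx1 hxD
      · exact h
    have hxo : orderOf x = 3 := by
      have h5 := Subgroup.orderOf_dvd_natCard _ hxD
      rw [h4] at h5
      rcases (Nat.dvd_prime Nat.prime_three).1 h5 with h | h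
      · exact absurd (orderOf_eq_one_iff.1 h) hx1
      · exact h
    have hz : zpowers x = (P : Subgroup G) ⊓ (Q : Subgroup G) := by
      apply Subgroup.eq_of_le_of_card_ge (zpowers_le.2 hxD)
      rw [h4, Nat.card_zpowers, hxo]
    obtain ⟨m1, V, hV⟩ := main_structure hG hn P Q hPQ h4
    refine ⟨hxo, le_trans ?_ m1, V, hV hxD⟩
    refine Nat.card_le_card_of_injective (fun R => ⟨R.1, ?_⟩) ?_
    · rw [← hz]
      exact zpowers_le.2 R.2.1
    · intro a b hab
      have h5 : (a : Sylow 3 G) = (b : Sylow 3 G) := congrArg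
        (fun z : {R : Sylow 3 G // (P : Subgroup G) ⊓ (Q : Subgroup G) ≤ (R : Subgroup G)} =>
          (z : Sylow 3 G)) hab
      exact Subtype.ext h5
  have hmult : ∀ x : G, mult x ≤ (if x ∈ N3 then 1 else 0) + (if x ∈ B then 3 else 0) := by
    intro x
    by_cases hxB : x ∈ B
    · have h1 : x ∈ N3 := by
        obtain ⟨P, Q, -, hxP, -, hx1⟩ := hxB
        exact ⟨hx1, P, hxP⟩
      rw [if_pos h1, if_pos hxB]
      exact (hB x hxB).2.1
    · rw [if_neg hxB, add_zero]
      have hsub : Subsingleton {P : Sylow 3 G // x ∈ (P : Subgroup G) ∧ x ≠ 1} := by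
        constructor
        rintro ⟨P, hP, hx1⟩ ⟨Q, hQ, -⟩
        by_contra hne
        apply hxB
        exact ⟨P, Q, fun h => hne (Subtype.ext h), hP, hQ, hx1⟩
      have hle : mult x ≤ 1 := Finite.card_le_one_iff_subsingleton.2 hsub
      by_cases hxN : x ∈ N3
      · rw [if_pos hxN]; exact hle
      · rw [if_neg hxN]
        have hemp : IsEmpty {P : Sylow 3 G // x ∈ (P : Subgroup G) ∧ x ≠ 1} := by
          constructor
          rintro ⟨P, hP, hx1⟩
          exact hxN ⟨hx1, P, hP⟩
        have : mult x = 0 := Nat.card_of_isEmpty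
        omega
  have htotal : 28 * 26 ≤ N3.ncard + 3 * B.ncard := by
    rw [← hsum]
    refine (Finset.sum_le_sum fun x _ => hmult x).trans ?_
    rw [Finset.sum_add_distrib, Finset.sum_ite, Finset.sum_ite]
    simp only [Finset.sum_const, smul_eq_mul, mul_one, mul_zero, add_zero]
    rw [mul_comm _ 3]
    apply le_of_eq
    congr 1
    · rw [Set.ncard_eq_toFinset_card']; congr 1; ext; simp
    · rw [Set.ncard_eq_toFinset_card']; congr 2; ext; simp
  -- bound for `N3`
  have hN3 : N3.ncard ≤ 539 := by
    have c7 := le_card_orderOf_dvd (p := 7) (f := 1) (fun P => (h7' P).1) (fun P =>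
      ⟨⊥, bot_le, Subgroup.card_bot⟩) (by norm_num)
    rw [h7] at c7
    have hdisj := card_add_card_le (s := {x : G | 7 ∣ orderOf x}) (t := insert 1 N3)
      (Set.disjoint_left.2 fun x hx hx' => by
        have hx7 : 7 ∣ orderOf x := hx
        rcases hx' with hx' | hx'
        · rw [hx', orderOf_one] at hx7; omega
        · obtain ⟨-, P, hP⟩ := hx'
          have h1 := Subgroup.orderOf_dvd_natCard _ hP
          rw [show Nat.card (P : Subgroup G) = 3 ^ 3 from hcard P] at h1
          have := hx7.trans h1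
          norm_num at this)
    have h1 : (insert 1 N3 : Set G).ncard = N3.ncard + 1 :=
      Set.ncard_insert_of_notMem (fun h => h.1 rfl) (Set.toFinite _)
    have h2 : Nat.card (insert 1 N3 : Set G) = N3.ncard + 1 := h1
    rw [h2, hn] at hdisj
    have e7 : Nat.card ({x : G | 7 ∣ orderOf x} : Set G) = Nat.card {x : G // 7 ∣ orderOf x} := rfl
    omega
  -- bound for `B`
  have hBle : B.ncard ≤ 42 := by
    by_cases hne : B = ∅
    · rw [hne, Set.ncard_empty]; norm_num
    · obtain ⟨x, hx⟩ := Set.nonempty_iff_ne_empty.2 hne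
      obtain ⟨hxo, -, V, hV⟩ := hB x hx
      obtain ⟨-, h21⟩ := card_centralizer_two hG hn V hxo hV
      have hch : ∀ x : B, ∃ V : Sylow 2 G, (x : G) ∈ centralizer ((V : Subgroup G) : Set G) :=
        fun x => (hB x x.2).2.2
      choose v hv using hch
      have h1 : Nat.card B ≤ Nat.card (Σ V : Sylow 2 G,
          {x : G // orderOf x = 3 ∧ x ∈ centralizer ((V : Subgroup G) : Set G)}) := by
        refine Nat.card_le_card_of_injective (fun x : B => ⟨v x, ⟨x, (hB x x.2).1, hv x⟩⟩) ?_
        intro a b hab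
        have h2 : ∀ z w : (Σ V : Sylow 2 G,
          {x : G // orderOf x = 3 ∧ x ∈ centralizer ((V : Subgroup G) : Set G)}), z = w →
            (z.2 : G) = (w.2 : G) := by rintro z w rfl; rfl
        exact Subtype.ext (h2 _ _ hab)
      have : Fintype (Sylow 2 G) := Fintype.ofFinite _
      rw [Nat.card_sigma] at h1
      have h2 : ∑ V : Sylow 2 G, Nat.card {x : G // orderOf x = 3 ∧
          x ∈ centralizer ((V : Subgroup G) : Set G)} ≤ ∑ V : Sylow 2 G, 2 :=
        Finset.sum_le_sum fun V _ => card_order_three_le hG hn V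
      rw [Finset.sum_const, Finset.card_univ, ← Nat.card_eq_fintype_card, h21] at h2
      exact h1.trans h2
  omega

end Cfsg.Agent.Classification.SmallOrders.N756
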