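import Cfsg.Agent.Classification.SmallOrders.Count
import Cfsg.Agent.Classification.SmallOrders.AbelianSylow
import Cfsg.Agent.Classification.SmallOrders.Cands

/-!
No simple group of order 840.
-/

set_option autoImplicit false

namespace Cfsg.Agent.Classification.SmallOrders.N840

open Subgroup MulAction Cands Tools Autom SmallOrders.Count AbelianSylow

variable {G : Type*} [Group G] [Finite G]

/-- If a simple group of order `8 m`, `m` odd, has a subgroup `S` of order 8 contained in the normalizer of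
a subgroup `P` of order 5, then `4` divides `|S ∩ C(P)|`. -/
theorem four_dvd_card_inf [IsSimpleGroup G] (hG : ¬ IsMulCommutative G) {m : ℕ}
    (hn : Nat.card G = 2 ^ 3 * m) (hm : ¬ 2 ∣ m) {P S : Subgroup G} (hP : Nat.card P = 5)
    (hS : Nat.card S = 2 ^ 3) (hSP : S ≤ normalizer (P : Set G)) :
    4 ∣ Nat.card (S ⊓ centralizer (P : Set G) : Subgroup G) := by
  have hp2 : Fact (Nat.Prime 2) := ⟨by norm_num⟩
  have hp5 : Fact (Nat.Prime 5) := ⟨by norm_num⟩
  have h1 : Nat.card (S ⊓ centralizer (P : Set G) : Subgroup G) ∣ 2 ^ 3 := by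
    rw [← hS]; exact Subgroup.card_dvd_of_le inf_le_left
  obtain ⟨j, hj, hj'⟩ := (Nat.dvd_prime_pow Nat.prime_two).1 h1
  rw [hj']
  by_contra hcon
  have hj2 : j < 2 := by
    by_contra h
    push Not at h
    exact hcon (Nat.pow_dvd_pow 2 h)
  have hle : Nat.card (S ⊓ centralizer (P : Set G) : Subgroup G) ≤ 2 := by
    rw [hj']; interval_cases j <;> norm_num
  have hcomm := comm_of_card_inf_le_two hP hSP hle
  -- `S` is a Sylow subgroup
  obtain ⟨T, hT⟩ := (IsPGroup.of_card hS).exists_le_sylow
  have hTcard : Nat.card T = 2 ^ 3 := SmallSimple.SylowPrimeInvol.card_sylow_of_card_eq T hn hm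
  have hST : S = (T : Subgroup G) := Subgroup.eq_of_le_of_card_ge hT (by rw [hS, hTcard])
  have hTcomm : IsMulCommutative T := by
    refine ⟨⟨fun x y => ?_⟩⟩
    have hx : (x : G) ∈ S := by rw [hST]; exact x.2
    have hy : (y : G) ∈ S := by rw [hST]; exact y.2
    have := hcomm ⟨x, hx⟩ ⟨y, hy⟩
    exact Subtype.ext (show (x : G) * (y : G) = y * x from congrArg Subtype.val this)
  -- the image of `S` in `Aut P` has order at least 4
  have hker : Nat.card (act P S hSP).ker = Nat.card (S ⊓ centralizer (P : Set G) : Subgroup G) := by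
    refine Nat.card_congr ⟨fun x => ⟨(x : S), (x : S).2, (mem_ker_act hSP _).1 x.2⟩,
      fun x => ⟨⟨x, x.2.1⟩, (mem_ker_act hSP _).2 x.2.2⟩, ?_, ?_⟩
    · intro x; rfl
    · intro x; rfl
  have hrange : 4 ≤ Nat.card (act P S hSP).range := by
    have h2 := Subgroup.card_mul_index (act P S hSP).ker
    rw [Subgroup.index_ker, hker, hS] at h2
    by_contra h3
    push Not at h3
    nlinarith
  have hcyc := isCyclic_mulAut hP
  have h4 : Nat.card (MulAut P) = 4 := by
    have hc : IsCyclic P := isCyclic_of_prime_card hP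
    rw [hc.card_mulAut, hP]; decide
  have hsurj : (act P S hSP).range = ⊤ :=
    Subgroup.eq_top_of_le_card _ (by rw [h4]; exact hrange)
  obtain ⟨g, hg⟩ := hcyc.exists_generator
  have hgo : orderOf g = 4 := by
    rw [← h4]; exact orderOf_eq_card_of_forall_mem_zpowers hg
  obtain ⟨x, hx⟩ : g ∈ (act P S hSP).range := hsurj ▸ mem_top g
  have hxo : 4 ∣ orderOf x := by
    rw [← hgo, ← hx]; exact orderOf_map_dvd _ x
  have hxo8 : orderOf x ∣ 8 := by
    have := orderOf_dvd_natCard x
    rwa [hS] at this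
  have hxo' : orderOf x = 4 ∨ orderOf x = 8 := by
    have h5 : orderOf x ≤ 8 := Nat.le_of_dvd (by norm_num) hxo8
    have h6 : 0 < orderOf x := orderOf_pos x
    interval_cases (orderOf x) <;> omega
  have hnc := not_isCyclic_of_card hG (by norm_num) hn hm S hS
  rcases hxo' with h5 | h5
  swap
  · exact hnc (isCyclic_of_orderOf_eq_card x (by rw [h5, hS]; norm_num))
  have hxo4 : orderOf (x : G) = 4 := by rw [Subgroup.orderOf_coe, h5]
  have hone : (x : G) ^ 2 = 1 := by
    refine eq_one_of_forall_normalizer_comm hG T hTcomm ?_ ?_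
    · rw [← hST]; exact pow_mem x.2 2
    · intro n hn'
      have h6 : n * x * n⁻¹ ∈ S := hST.ge ((mem_normalizer_iff.1 hn' x).1 (hST.le x.2))
      have h7 := sq_eq_sq_of_orderOf_four (by rw [hS]; norm_num) x.2 h6 hxo4
        (by rw [orderOf_conj, hxo4])
      rw [conj_pow] at h7
      exact mul_inv_eq_iff_eq_mul.1 h7.symm
  have := orderOf_dvd_of_pow_eq_one hone
  rw [hxo4] at this
  omega

/-- There is no simple group of order 840. -/
theorem card_ne_840 [IsSimpleGroup G] (hG : ¬ IsMulCommutative G) : Nat.card G ≠ 840 := by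
  intro hn
  have hp2 : Fact (Nat.Prime 2) := ⟨by norm_num⟩
  have hp3 : Fact (Nat.Prime 3) := ⟨by norm_num⟩
  have hp5 : Fact (Nat.Prime 5) := ⟨by norm_num⟩
  have hp7 : Fact (Nat.Prime 7) := ⟨by norm_num⟩
  have hn2 : Nat.card G = 2 ^ 3 * 105 := by rw [hn]; norm_num
  have hn3 : Nat.card G = 3 ^ 1 * 280 := by rw [hn]; norm_num
  have hn5 : Nat.card G = 5 ^ 1 * 168 := by rw [hn]; norm_num
  have hn7 : Nat.card G = 7 ^ 1 * 120 := by rw [hn]; norm_num
  have h3 := card_sylow_mem_cands (p := 3) hG (by norm_num) hn3 (by norm_num)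
  have h5 := card_sylow_mem_cands (p := 5) hG (by norm_num) hn5 (by norm_num)
  have h7 := card_sylow_mem_cands (p := 7) hG (by norm_num) hn7 (by norm_num)
  rw [show cands 3 1 280 = [7, 10, 28, 70] by decide +kernel] at h3
  rw [show cands 5 1 168 = [21] by decide +kernel, List.mem_singleton] at h5
  rw [show cands 7 1 120 = [15] by decide +kernel, List.mem_singleton] at h7
  have hP3 : ∀ P : Sylow 3 G, Nat.card P = 3 := fun P =>
    SmallSimple.SylowPrimeInvol.card_sylow_of_card_eq P hn3 (by norm_num)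
  have hP5 : ∀ P : Sylow 5 G, Nat.card P = 5 := fun P =>
    SmallSimple.SylowPrimeInvol.card_sylow_of_card_eq P hn5 (by norm_num)
  have hP7 : ∀ P : Sylow 7 G, Nat.card P = 7 := fun P =>
    SmallSimple.SylowPrimeInvol.card_sylow_of_card_eq P hn7 (by norm_num)
  have hN7 : ∀ P : Sylow 7 G, Nat.card (normalizer ((P : Subgroup G) : Set G)) = 7 * 8 := by
    intro P
    have := card_sylow_mul_card_normalizer P hn h7
    omega
  have hN5 : ∀ P : Sylow 5 G, Nat.card (normalizer ((P : Subgroup G) : Set G)) = 5 * 8 := by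
    intro P
    have := card_sylow_mul_card_normalizer P hn h5
    omega
  -- `|C(P_7)| = 28`
  have hC7 : ∀ P : Sylow 7 G, Nat.card (centralizer ((P : Subgroup G) : Set G)) = 7 * 4 := by
    intro P
    obtain ⟨e, f, he1, he2, he3, he4, -⟩ := automizer_prime hG P (hP7 P) (hN7 P)
    have hf : f = 4 := by
      have : e ≤ 6 := Nat.le_of_dvd (by norm_num) he1
      interval_cases e <;> omega
    rw [he4, hf]
  -- `|C(P_5)| = 20`
  have hC5 : ∀ P : Sylow 5 G, Nat.card (centralizer ((P : Subgroup G) : Set G)) = 5 * 4 := by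
    intro P
    obtain ⟨e, f, he1, he2, he3, he4, -⟩ := automizer_prime hG P (hP5 P) (hN5 P)
    obtain ⟨S, hS1, hS2⟩ := exists_le_card_eq (p := 2) (k := 3)
      (normalizer ((P : Subgroup G) : Set G)) (by rw [hN5 P]; norm_num)
    have h8 := four_dvd_card_inf hG hn2 (by norm_num) (hP5 P) hS2 hS1
    have h9 : 4 ∣ Nat.card (centralizer ((P : Subgroup G) : Set G)) :=
      h8.trans (Subgroup.card_dvd_of_le inf_le_right)
    rw [he4] at h9
    have hf : f = 4 := by
      have : e ≤ 4 := Nat.le_of_dvd (by norm_num) he1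
      interval_cases e <;> omega
    rw [he4, hf]
  -- `|C(P_3)| = 6`
  have hC3 : ∀ P : Sylow 3 G, Nat.card (Sylow 3 G) = 70 ∧
      Nat.card (centralizer ((P : Subgroup G) : Set G)) = 3 * 2 := by
    intro P
    have hmul := card_sylow_mul_card_normalizer P hn rfl
    simp only [List.mem_cons, List.not_mem_nil, or_false] at h3
    have hidx : (normalizer ((P : Subgroup G) : Set G)).index = Nat.card (Sylow 3 G) :=
      P.card_eq_index_normalizer.symm
    have hne : (normalizer ((P : Subgroup G) : Set G)) ≠ ⊤ :=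
      SmallSimple.Embed.normalizer_sylow_ne_top hG (by rw [hn]; norm_num) P
    rcases h3 with h3 | h3 | h3 | h3
    · exfalso
      obtain ⟨Q⟩ : Nonempty (Sylow 7 G) := inferInstance
      have := PrimeDegree.two_mul_card_normalizer_dvd hG (by norm_num) Q (hP7 Q) _ hne
        (Or.inl (hidx.trans h3))
      rw [hN7 Q] at this
      norm_num at this
    · exfalso
      rw [h3] at hmul
      have hN : Nat.card (normalizer ((P : Subgroup G) : Set G)) = 3 * 28 := by omega
      obtain ⟨e, f, he1, he2, he3, he4, -⟩ := automizer_prime hG P (hP3 P) hN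
      have hf : f = 14 := by
        have : e ≤ 2 := Nat.le_of_dvd (by norm_num) he1
        interval_cases e <;> omega
      obtain ⟨Q, hQ⟩ := exists_dvd_card_centralizer (q := 7) hP7 (hP3 P) (by rw [he4, hf]; norm_num)
      rw [hC7 Q] at hQ
      norm_num at hQ
    · exfalso
      rw [h3] at hmul
      have hN : Nat.card (normalizer ((P : Subgroup G) : Set G)) = 3 * 10 := by omega
      obtain ⟨e, f, he1, he2, he3, he4, -⟩ := automizer_prime hG P (hP3 P) hN
      have hf : f = 5 := by
        have : e ≤ 2 := Nat.le_of_dvd (by norm_num) he1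
        interval_cases e <;> omega
      obtain ⟨Q, hQ⟩ := exists_dvd_card_centralizer (q := 5) hP5 (hP3 P) (by rw [he4, hf]; norm_num)
      rw [hC5 Q] at hQ
      norm_num at hQ
    · refine ⟨h3, ?_⟩
      rw [h3] at hmul
      have hN : Nat.card (normalizer ((P : Subgroup G) : Set G)) = 3 * 4 := by omega
      obtain ⟨e, f, he1, he2, he3, he4, -⟩ := automizer_prime hG P (hP3 P) hN
      have hf : f = 2 := by
        have : e ≤ 2 := Nat.le_of_dvd (by norm_num) he1
        interval_cases e <;> omega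
      rw [he4, hf]
  have hn70 : Nat.card (Sylow 3 G) = 70 := (hC3 default).1
  have c7 := le_card_orderOf_dvd (p := 7) (f := 4) hP7 (fun P => by
    obtain ⟨T, hT1, hT2⟩ := exists_le_card_eq (p := 2) (k := 2)
      (centralizer ((P : Subgroup G) : Set G)) (by rw [hC7 P]; norm_num)
    exact ⟨T, hT1, hT2⟩) (by norm_num)
  have c5 := le_card_orderOf_dvd (p := 5) (f := 4) hP5 (fun P => by
    obtain ⟨T, hT1, hT2⟩ := exists_le_card_eq (p := 2) (k := 2)
      (centralizer ((P : Subgroup G) : Set G)) (by rw [hC5 P]; norm_num)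
    exact ⟨T, hT1, hT2⟩) (by norm_num)
  have c3 := le_card_orderOf_dvd (p := 3) (f := 2) hP3 (fun P => by
    obtain ⟨T, hT1, hT2⟩ := exists_le_card_eq (p := 2) (k := 1)
      (centralizer ((P : Subgroup G) : Set G)) (by rw [(hC3 P).2]; norm_num)
    exact ⟨T, hT1, hT2⟩) (by norm_num)
  rw [h7] at c7
  rw [h5] at c5
  rw [hn70] at c3
  have hdisj := card_add_card_add_card_le (s := {x : G | 7 ∣ orderOf x}) (t := {x : G | 5 ∣ orderOf x})
    (u := {x : G | 3 ∣ orderOf x})
    (Set.disjoint_left.2 fun x hx hx' => not_dvd_orderOf hP7 (q := 5)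
      (fun P => by rw [hC7 P]; norm_num) hx hx')
    (Set.disjoint_left.2 fun x hx hx' => not_dvd_orderOf hP7 (q := 3)
      (fun P => by rw [hC7 P]; norm_num) hx hx')
    (Set.disjoint_left.2 fun x hx hx' => not_dvd_orderOf hP5 (q := 3)
      (fun P => by rw [hC5 P]; norm_num) hx hx')
  rw [hn] at hdisj
  have e7 : Nat.card ({x : G | 7 ∣ orderOf x} : Set G) = Nat.card {x : G // 7 ∣ orderOf x} := rfl
  have e5 : Nat.card ({x : G | 5 ∣ orderOf x} : Set G) = Nat.card {x : G // 5 ∣ orderOf x} := rfl
  have e3 : Nat.card ({x : G | 3 ∣ orderOf x} : Set G) = Nat.card {x : G // 3 ∣ orderOf x} := rfl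
  omega

end Cfsg.Agent.Classification.SmallOrders.N840
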