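import Mathlib
import Cfsg.Agent.S0144
import Cfsg.Agent.Classification.SmallOrders.Cands

/-!
A sieve for orders of finite simple groups: two-prime orders, smallest prime divisor to the first
power, Sylow counts with Burnside transfer, Klein four Sylow subgroups.
-/

set_option autoImplicit false

namespace Cfsg.Agent.Classification.SmallOrders.Sieve

open Subgroup Cfsg.Agent.Classification.SmallOrders.Cands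

/-- trial division, valid below 1156 -/
def isPrimeB (p : ℕ) : Bool :=
  Nat.ble 2 p && Nat.blt p 1156 &&
    (List.range 34).all (fun d => Nat.blt d 2 || Nat.blt p (d * d) || !(Nat.beq (p % d) 0))

theorem prime_of_isPrimeB {p : ℕ} (h : isPrimeB p = true) : p.Prime := by
  unfold isPrimeB at h
  simp only [Bool.and_eq_true, List.all_eq_true, List.mem_range, Bool.or_eq_true,
    Bool.not_eq_true', Nat.ble_eq, Nat.blt_eq, beq_false_iff] at h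
  obtain ⟨⟨h2, h3⟩, h4⟩ := h
  by_contra hnp
  have h5 := Nat.minFac_sq_le_self (by omega) hnp
  have h6 : (Nat.minFac p) < 34 := by nlinarith
  have h7 : 2 ≤ Nat.minFac p := (Nat.minFac_prime (by omega)).two_le
  rcases h4 _ h6 with (h8 | h8) | h8
  · omega
  · nlinarith
  · exact h8 (Nat.mod_eq_zero_of_dvd (Nat.minFac_dvd p))

/-- Checking a certificate `(kind, p, a, q, b)` that there is no non-abelian simple group of order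
`n`. Kind 0: `n = p ^ a * q ^ b`; kind 1: `p` is the smallest prime divisor and `p ^ 2` does not
divide; kind 2: no possible number of Sylow `p`-subgroups; kind 3: `4 ∣ n`, but 8 and 3 do not. -/
def check (n : ℕ) : ℕ × ℕ × ℕ × ℕ × ℕ → Bool
  | (0, p, a, q, b) => isPrimeB p && isPrimeB q && Nat.beq n (p ^ a * q ^ b)
  | (1, p, _, _, _) => isPrimeB p && Nat.beq (n % p) 0 && !(Nat.beq (n % p ^ 2) 0) &&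
      (List.range p).all (fun d => Nat.blt d 2 || !(Nat.beq (n % d) 0))
  | (2, p, a, _, _) => isPrimeB p && !(Nat.beq a 0) && Nat.beq (n % p ^ a) 0 &&
      !(Nat.beq ((n / p ^ a) % p) 0) && (cands p a (n / p ^ a)).isEmpty
  | (3, _, _, _, _) => Nat.beq (n % 4) 0 && !(Nat.beq (n % 8) 0) && !(Nat.beq (n % 3) 0)
  | _ => false

theorem not_check {G : Type*} [Group G] [Finite G] [IsSimpleGroup G]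
    (hG : ¬ IsMulCommutative G) (c : ℕ × ℕ × ℕ × ℕ × ℕ) : check (Nat.card G) c = false := by
  by_contra hcon
  rw [Bool.not_eq_false] at hcon
  obtain ⟨k, p, a, q, b⟩ := c
  match k with
  | 0 =>
    simp only [check, Bool.and_eq_true, Nat.beq_eq] at hcon
    obtain ⟨⟨h1, h2⟩, h3⟩ := hcon
    have hsol : Group.IsSolvable G :=
      Cfsg.Agent.S0144.result p q a b (prime_of_isPrimeB h1) (prime_of_isPrimeB h2) h3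
    have h4 : ∀ x y : G, x * y = y * x := IsSimpleGroup.comm_iff_isSolvable.2 hsol
    exact hG ⟨⟨h4⟩⟩
  | 1 =>
    simp only [check, Bool.and_eq_true, Nat.beq_eq, Bool.not_eq_true', beq_false_iff,
      List.all_eq_true, List.mem_range, Bool.or_eq_true, Nat.blt_eq] at hcon
    obtain ⟨⟨⟨h1, h2⟩, h3⟩, h4⟩ := hcon
    have hp := prime_of_isPrimeB h1
    have hmin : (Nat.card G).minFac = p := by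
      apply le_antisymm
      · exact Nat.minFac_le_of_dvd hp.two_le (Nat.dvd_of_mod_eq_zero h2)
      · by_contra hlt
        push Not at hlt
        have h5 : Nat.card G ≠ 1 := (Finite.one_lt_card (α := G)).ne'
        have h6 := (Nat.minFac_prime h5).two_le
        rcases h4 _ hlt with h7 | h7
        · omega
        · exact h7 (Nat.mod_eq_zero_of_dvd (Nat.minFac_dvd _))
    have h5 := SmallSimple.EvenOrder.minFac_sq_dvd_card hG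
    rw [hmin] at h5
    exact h3 (Nat.mod_eq_zero_of_dvd h5)
  | 2 =>
    simp only [check, Bool.and_eq_true, Nat.beq_eq, Bool.not_eq_true', beq_false_iff]
      at hcon
    obtain ⟨⟨⟨⟨h1, h2⟩, h3⟩, h4⟩, h5⟩ := hcon
    have hp := prime_of_isPrimeB h1
    have : Fact p.Prime := ⟨hp⟩
    have h6 : Nat.card G = p ^ a * (Nat.card G / p ^ a) :=
      (Nat.mul_div_cancel' (Nat.dvd_of_mod_eq_zero h3)).symm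
    have h7 := card_sylow_mem_cands hG h2 h6 (fun h => h4 (Nat.mod_eq_zero_of_dvd h))
    rw [List.isEmpty_iff] at h5
    rw [h5] at h7
    exact absurd h7 List.not_mem_nil
  | 3 =>
    simp only [check, Bool.and_eq_true, Nat.beq_eq, Bool.not_eq_true', beq_false_iff]
      at hcon
    obtain ⟨⟨h1, h2⟩, h3⟩ := hcon
    have h4 : 2 ∣ Nat.card G := by omega
    rcases SmallSimple.EvenOrder.twelve_dvd_or_eight_dvd hG h4 with h5 | h5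
    · exact h3 (Nat.mod_eq_zero_of_dvd (dvd_trans (by norm_num) h5))
    · exact h2 (Nat.mod_eq_zero_of_dvd h5)
  | (k + 4) => simp [check] at hcon

/-- certificates for 0, 1, ..., 1092 -/
def certs : List (ℕ × ℕ × ℕ × ℕ × ℕ) := [
  (4,0,0,0,0),(4,0,0,0,0),(1,2,0,0,0),(1,3,0,0,0),(3,0,0,0,0),(1,5,0,0,0),(1,2,0,0,0),(1,7,0,0,0),
  (2,2,3,0,0),(2,3,2,0,0),(1,2,0,0,0),(1,11,0,0,0),(2,2,2,0,0),(1,13,0,0,0),(1,2,0,0,0),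
  (1,3,0,0,0),(2,2,4,0,0),(1,17,0,0,0),(1,2,0,0,0),(1,19,0,0,0),(3,0,0,0,0),(1,3,0,0,0),
  (1,2,0,0,0),(1,23,0,0,0),(2,2,3,0,0),(2,5,2,0,0),(1,2,0,0,0),(2,3,3,0,0),(3,0,0,0,0),
  (1,29,0,0,0),(1,2,0,0,0),(1,31,0,0,0),(2,2,5,0,0),(1,3,0,0,0),(1,2,0,0,0),(1,5,0,0,0),
  (2,3,2,0,0),(1,37,0,0,0),(1,2,0,0,0),(1,3,0,0,0),(2,2,3,0,0),(1,41,0,0,0),(1,2,0,0,0),
  (1,43,0,0,0),(3,0,0,0,0),(2,3,2,0,0),(1,2,0,0,0),(1,47,0,0,0),(2,2,4,0,0),(2,7,2,0,0),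
  (1,2,0,0,0),(1,3,0,0,0),(3,0,0,0,0),(1,53,0,0,0),(1,2,0,0,0),(1,5,0,0,0),(2,7,1,0,0),
  (1,3,0,0,0),(1,2,0,0,0),(1,59,0,0,0),(4,0,0,0,0),(1,61,0,0,0),(1,2,0,0,0),(2,3,2,0,0),
  (2,2,6,0,0),(1,5,0,0,0),(1,2,0,0,0),(1,67,0,0,0),(3,0,0,0,0),(1,3,0,0,0),(1,2,0,0,0),
  (1,71,0,0,0),(2,3,2,0,0),(1,73,0,0,0),(1,2,0,0,0),(1,3,0,0,0),(3,0,0,0,0),(1,7,0,0,0),
  (1,2,0,0,0),(1,79,0,0,0),(2,2,4,0,0),(2,3,4,0,0),(1,2,0,0,0),(1,83,0,0,0),(2,7,1,0,0),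
  (1,5,0,0,0),(1,2,0,0,0),(1,3,0,0,0),(2,11,1,0,0),(1,89,0,0,0),(1,2,0,0,0),(1,7,0,0,0),
  (3,0,0,0,0),(1,3,0,0,0),(1,2,0,0,0),(1,5,0,0,0),(2,2,5,0,0),(1,97,0,0,0),(1,2,0,0,0),
  (2,11,1,0,0),(3,0,0,0,0),(1,101,0,0,0),(1,2,0,0,0),(1,103,0,0,0),(2,13,1,0,0),(1,3,0,0,0),
  (1,2,0,0,0),(1,107,0,0,0),(2,3,3,0,0),(1,109,0,0,0),(1,2,0,0,0),(1,3,0,0,0),(2,2,4,0,0),
  (1,113,0,0,0),(1,2,0,0,0),(1,5,0,0,0),(3,0,0,0,0),(2,13,1,0,0),(1,2,0,0,0),(1,7,0,0,0),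
  (2,5,1,0,0),(2,11,2,0,0),(1,2,0,0,0),(1,3,0,0,0),(3,0,0,0,0),(2,5,3,0,0),(1,2,0,0,0),
  (1,127,0,0,0),(2,2,7,0,0),(1,3,0,0,0),(1,2,0,0,0),(1,131,0,0,0),(2,11,1,0,0),(1,7,0,0,0),
  (1,2,0,0,0),(2,3,3,0,0),(2,17,1,0,0),(1,137,0,0,0),(1,2,0,0,0),(1,139,0,0,0),(3,0,0,0,0),
  (1,3,0,0,0),(1,2,0,0,0),(1,11,0,0,0),(2,3,2,0,0),(1,5,0,0,0),(1,2,0,0,0),(1,3,0,0,0),
  (3,0,0,0,0),(1,149,0,0,0),(1,2,0,0,0),(1,151,0,0,0),(2,19,1,0,0),(2,17,1,0,0),(1,2,0,0,0),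
  (1,5,0,0,0),(2,13,1,0,0),(1,157,0,0,0),(1,2,0,0,0),(1,3,0,0,0),(2,2,5,0,0),(1,7,0,0,0),
  (1,2,0,0,0),(1,163,0,0,0),(3,0,0,0,0),(1,3,0,0,0),(1,2,0,0,0),(1,167,0,0,0),(4,0,0,0,0),
  (2,13,2,0,0),(1,2,0,0,0),(2,19,1,0,0),(3,0,0,0,0),(1,173,0,0,0),(1,2,0,0,0),(2,5,2,0,0),
  (2,11,1,0,0),(1,3,0,0,0),(1,2,0,0,0),(1,179,0,0,0),(2,5,1,0,0),(1,181,0,0,0),(1,2,0,0,0),
  (1,3,0,0,0),(2,23,1,0,0),(1,5,0,0,0),(1,2,0,0,0),(1,11,0,0,0),(3,0,0,0,0),(2,3,3,0,0),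
  (1,2,0,0,0),(1,191,0,0,0),(2,2,6,0,0),(1,193,0,0,0),(1,2,0,0,0),(1,3,0,0,0),(3,0,0,0,0),
  (1,197,0,0,0),(1,2,0,0,0),(1,199,0,0,0),(2,5,2,0,0),(1,3,0,0,0),(1,2,0,0,0),(1,7,0,0,0),
  (2,17,1,0,0),(1,5,0,0,0),(1,2,0,0,0),(2,23,1,0,0),(2,13,1,0,0),(1,11,0,0,0),(1,2,0,0,0),
  (1,211,0,0,0),(3,0,0,0,0),(1,3,0,0,0),(1,2,0,0,0),(1,5,0,0,0),(2,3,3,0,0),(1,7,0,0,0),
  (1,2,0,0,0),(1,3,0,0,0),(3,0,0,0,0),(1,13,0,0,0),(1,2,0,0,0),(1,223,0,0,0),(2,2,5,0,0),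
  (2,5,2,0,0),(1,2,0,0,0),(1,227,0,0,0),(2,19,1,0,0),(1,229,0,0,0),(1,2,0,0,0),(1,3,0,0,0),
  (2,29,1,0,0),(1,233,0,0,0),(1,2,0,0,0),(1,5,0,0,0),(3,0,0,0,0),(1,3,0,0,0),(1,2,0,0,0),
  (1,239,0,0,0),(2,5,1,0,0),(1,241,0,0,0),(1,2,0,0,0),(2,3,5,0,0),(3,0,0,0,0),(1,5,0,0,0),
  (1,2,0,0,0),(1,13,0,0,0),(2,31,1,0,0),(1,3,0,0,0),(1,2,0,0,0),(1,251,0,0,0),(2,7,1,0,0),
  (1,11,0,0,0),(1,2,0,0,0),(1,3,0,0,0),(2,2,8,0,0),(1,257,0,0,0),(1,2,0,0,0),(1,7,0,0,0),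
  (3,0,0,0,0),(2,29,1,0,0),(1,2,0,0,0),(1,263,0,0,0),(2,11,1,0,0),(1,5,0,0,0),(1,2,0,0,0),
  (1,3,0,0,0),(3,0,0,0,0),(1,269,0,0,0),(1,2,0,0,0),(1,271,0,0,0),(2,17,1,0,0),(1,3,0,0,0),
  (1,2,0,0,0),(2,5,2,0,0),(2,23,1,0,0),(1,277,0,0,0),(1,2,0,0,0),(2,31,1,0,0),(2,7,1,0,0),
  (1,281,0,0,0),(1,2,0,0,0),(1,283,0,0,0),(3,0,0,0,0),(1,3,0,0,0),(1,2,0,0,0),(1,7,0,0,0),
  (0,2,5,3,2),(2,17,2,0,0),(1,2,0,0,0),(1,3,0,0,0),(3,0,0,0,0),(1,293,0,0,0),(1,2,0,0,0),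
  (1,5,0,0,0),(2,37,1,0,0),(2,3,3,0,0),(1,2,0,0,0),(1,13,0,0,0),(2,5,2,0,0),(1,7,0,0,0),
  (1,2,0,0,0),(1,3,0,0,0),(2,19,1,0,0),(1,5,0,0,0),(1,2,0,0,0),(1,307,0,0,0),(3,0,0,0,0),
  (1,3,0,0,0),(1,2,0,0,0),(1,311,0,0,0),(2,13,1,0,0),(1,313,0,0,0),(1,2,0,0,0),(2,3,2,0,0),
  (3,0,0,0,0),(1,317,0,0,0),(1,2,0,0,0),(1,11,0,0,0),(2,2,6,0,0),(1,3,0,0,0),(1,2,0,0,0),
  (1,17,0,0,0),(2,3,4,0,0),(2,5,2,0,0),(1,2,0,0,0),(1,3,0,0,0),(2,41,1,0,0),(1,7,0,0,0),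
  (1,2,0,0,0),(1,331,0,0,0),(3,0,0,0,0),(2,37,1,0,0),(1,2,0,0,0),(1,5,0,0,0),(2,7,1,0,0),
  (1,337,0,0,0),(1,2,0,0,0),(1,3,0,0,0),(3,0,0,0,0),(1,11,0,0,0),(1,2,0,0,0),(2,7,3,0,0),
  (2,43,1,0,0),(1,3,0,0,0),(1,2,0,0,0),(1,347,0,0,0),(2,29,1,0,0),(1,349,0,0,0),(1,2,0,0,0),
  (2,13,1,0,0),(2,11,1,0,0),(1,353,0,0,0),(1,2,0,0,0),(1,5,0,0,0),(3,0,0,0,0),(1,3,0,0,0),
  (1,2,0,0,0),(1,359,0,0,0),(4,0,0,0,0),(2,19,2,0,0),(1,2,0,0,0),(1,3,0,0,0),(3,0,0,0,0),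
  (1,5,0,0,0),(1,2,0,0,0),(1,367,0,0,0),(2,23,1,0,0),(2,41,1,0,0),(1,2,0,0,0),(1,7,0,0,0),
  (2,31,1,0,0),(1,373,0,0,0),(1,2,0,0,0),(1,3,0,0,0),(2,47,1,0,0),(1,13,0,0,0),(1,2,0,0,0),
  (1,379,0,0,0),(3,0,0,0,0),(1,3,0,0,0),(1,2,0,0,0),(1,383,0,0,0),(2,2,7,0,0),(1,5,0,0,0),
  (1,2,0,0,0),(2,43,1,0,0),(3,0,0,0,0),(1,389,0,0,0),(1,2,0,0,0),(1,17,0,0,0),(2,7,2,0,0),
  (1,3,0,0,0),(1,2,0,0,0),(1,5,0,0,0),(2,11,1,0,0),(1,397,0,0,0),(1,2,0,0,0),(1,3,0,0,0),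
  (2,5,2,0,0),(1,401,0,0,0),(1,2,0,0,0),(1,13,0,0,0),(3,0,0,0,0),(2,3,4,0,0),(1,2,0,0,0),
  (1,11,0,0,0),(2,17,1,0,0),(1,409,0,0,0),(1,2,0,0,0),(1,3,0,0,0),(3,0,0,0,0),(1,7,0,0,0),
  (1,2,0,0,0),(1,5,0,0,0),(2,13,1,0,0),(1,3,0,0,0),(1,2,0,0,0),(1,419,0,0,0),(4,0,0,0,0),
  (1,421,0,0,0),(1,2,0,0,0),(2,47,1,0,0),(2,53,1,0,0),(2,5,2,0,0),(1,2,0,0,0),(1,7,0,0,0),
  (3,0,0,0,0),(1,3,0,0,0),(1,2,0,0,0),(1,431,0,0,0),(0,2,4,3,3),(1,433,0,0,0),(1,2,0,0,0),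
  (1,3,0,0,0),(3,0,0,0,0),(1,19,0,0,0),(1,2,0,0,0),(1,439,0,0,0),(2,11,1,0,0),(2,7,2,0,0),
  (1,2,0,0,0),(1,443,0,0,0),(2,37,1,0,0),(1,5,0,0,0),(1,2,0,0,0),(1,3,0,0,0),(2,2,6,0,0),
  (1,449,0,0,0),(1,2,0,0,0),(1,11,0,0,0),(3,0,0,0,0),(1,3,0,0,0),(1,2,0,0,0),(1,5,0,0,0),
  (2,19,1,0,0),(1,457,0,0,0),(1,2,0,0,0),(2,3,3,0,0),(3,0,0,0,0),(1,461,0,0,0),(1,2,0,0,0),
  (1,463,0,0,0),(2,29,1,0,0),(1,3,0,0,0),(1,2,0,0,0),(1,467,0,0,0),(2,13,1,0,0),(1,7,0,0,0),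
  (1,2,0,0,0),(1,3,0,0,0),(2,59,1,0,0),(1,11,0,0,0),(1,2,0,0,0),(2,5,2,0,0),(3,0,0,0,0),
  (2,53,1,0,0),(1,2,0,0,0),(1,479,0,0,0),(4,0,0,0,0),(1,13,0,0,0),(1,2,0,0,0),(1,3,0,0,0),
  (3,0,0,0,0),(1,5,0,0,0),(1,2,0,0,0),(1,487,0,0,0),(2,61,1,0,0),(1,3,0,0,0),(1,2,0,0,0),
  (1,491,0,0,0),(2,41,1,0,0),(1,17,0,0,0),(1,2,0,0,0),(2,11,1,0,0),(2,31,1,0,0),(1,7,0,0,0),
  (1,2,0,0,0),(1,499,0,0,0),(3,0,0,0,0),(1,3,0,0,0),(1,2,0,0,0),(1,503,0,0,0),(4,0,0,0,0),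
  (1,5,0,0,0),(1,2,0,0,0),(1,3,0,0,0),(3,0,0,0,0),(1,509,0,0,0),(1,2,0,0,0),(1,7,0,0,0),
  (2,2,9,0,0),(2,19,1,0,0),(1,2,0,0,0),(1,5,0,0,0),(2,43,1,0,0),(1,11,0,0,0),(1,2,0,0,0),
  (1,3,0,0,0),(2,13,1,0,0),(1,521,0,0,0),(1,2,0,0,0),(1,523,0,0,0),(3,0,0,0,0),(1,3,0,0,0),
  (1,2,0,0,0),(1,17,0,0,0),(2,11,1,0,0),(2,23,2,0,0),(1,2,0,0,0),(2,59,1,0,0),(3,0,0,0,0),
  (1,13,0,0,0),(1,2,0,0,0),(1,5,0,0,0),(2,67,1,0,0),(1,3,0,0,0),(1,2,0,0,0),(2,7,2,0,0),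
  (2,5,1,0,0),(1,541,0,0,0),(1,2,0,0,0),(1,3,0,0,0),(2,17,1,0,0),(1,5,0,0,0),(1,2,0,0,0),
  (1,547,0,0,0),(3,0,0,0,0),(2,61,1,0,0),(1,2,0,0,0),(1,19,0,0,0),(2,23,1,0,0),(1,7,0,0,0),
  (1,2,0,0,0),(1,3,0,0,0),(3,0,0,0,0),(1,557,0,0,0),(1,2,0,0,0),(1,13,0,0,0),(2,7,1,0,0),
  (1,3,0,0,0),(1,2,0,0,0),(1,563,0,0,0),(2,47,1,0,0),(1,5,0,0,0),(1,2,0,0,0),(2,3,4,0,0),
  (2,71,1,0,0),(1,569,0,0,0),(1,2,0,0,0),(1,571,0,0,0),(3,0,0,0,0),(1,3,0,0,0),(1,2,0,0,0),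
  (2,5,2,0,0),(0,2,6,3,2),(1,577,0,0,0),(1,2,0,0,0),(1,3,0,0,0),(3,0,0,0,0),(1,7,0,0,0),
  (1,2,0,0,0),(1,11,0,0,0),(2,73,1,0,0),(2,13,1,0,0),(1,2,0,0,0),(1,587,0,0,0),(2,7,2,0,0),
  (1,19,0,0,0),(1,2,0,0,0),(1,3,0,0,0),(2,37,1,0,0),(1,593,0,0,0),(1,2,0,0,0),(1,5,0,0,0),
  (3,0,0,0,0),(1,3,0,0,0),(1,2,0,0,0),(1,599,0,0,0),(2,5,2,0,0),(1,601,0,0,0),(1,2,0,0,0),
  (2,67,1,0,0),(3,0,0,0,0),(1,5,0,0,0),(1,2,0,0,0),(1,607,0,0,0),(2,19,1,0,0),(1,3,0,0,0),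
  (1,2,0,0,0),(1,13,0,0,0),(4,0,0,0,0),(1,613,0,0,0),(1,2,0,0,0),(1,3,0,0,0),(2,11,1,0,0),
  (1,617,0,0,0),(1,2,0,0,0),(1,619,0,0,0),(3,0,0,0,0),(2,3,3,0,0),(1,2,0,0,0),(1,7,0,0,0),
  (2,13,1,0,0),(2,5,4,0,0),(1,2,0,0,0),(1,3,0,0,0),(3,0,0,0,0),(1,17,0,0,0),(1,2,0,0,0),
  (1,631,0,0,0),(2,79,1,0,0),(1,3,0,0,0),(1,2,0,0,0),(1,5,0,0,0),(2,53,1,0,0),(2,7,2,0,0),
  (1,2,0,0,0),(2,71,1,0,0),(2,2,7,0,0),(1,641,0,0,0),(1,2,0,0,0),(1,643,0,0,0),(3,0,0,0,0),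
  (1,3,0,0,0),(1,2,0,0,0),(1,647,0,0,0),(2,3,4,0,0),(1,11,0,0,0),(1,2,0,0,0),(1,3,0,0,0),
  (3,0,0,0,0),(1,653,0,0,0),(1,2,0,0,0),(1,5,0,0,0),(2,41,1,0,0),(2,73,1,0,0),(1,2,0,0,0),
  (1,659,0,0,0),(4,0,0,0,0),(1,661,0,0,0),(1,2,0,0,0),(1,3,0,0,0),(2,83,1,0,0),(1,5,0,0,0),
  (1,2,0,0,0),(1,23,0,0,0),(3,0,0,0,0),(1,3,0,0,0),(1,2,0,0,0),(1,11,0,0,0),(2,7,1,0,0),
  (1,673,0,0,0),(1,2,0,0,0),(2,5,2,0,0),(3,0,0,0,0),(1,677,0,0,0),(1,2,0,0,0),(1,7,0,0,0),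
  (2,17,1,0,0),(1,3,0,0,0),(1,2,0,0,0),(1,683,0,0,0),(2,19,1,0,0),(1,5,0,0,0),(1,2,0,0,0),
  (1,3,0,0,0),(2,43,1,0,0),(1,13,0,0,0),(1,2,0,0,0),(1,691,0,0,0),(3,0,0,0,0),(2,11,1,0,0),
  (1,2,0,0,0),(1,5,0,0,0),(2,29,1,0,0),(1,17,0,0,0),(1,2,0,0,0),(1,3,0,0,0),(3,0,0,0,0),
  (1,701,0,0,0),(1,2,0,0,0),(1,19,0,0,0),(2,11,1,0,0),(1,3,0,0,0),(1,2,0,0,0),(1,7,0,0,0),
  (2,59,1,0,0),(1,709,0,0,0),(1,2,0,0,0),(2,79,1,0,0),(2,89,1,0,0),(1,23,0,0,0),(1,2,0,0,0),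
  (1,5,0,0,0),(3,0,0,0,0),(1,3,0,0,0),(1,2,0,0,0),(1,719,0,0,0),(4,0,0,0,0),(1,7,0,0,0),
  (1,2,0,0,0),(1,3,0,0,0),(3,0,0,0,0),(2,29,1,0,0),(1,2,0,0,0),(1,727,0,0,0),(2,13,1,0,0),
  (2,3,6,0,0),(1,2,0,0,0),(1,17,0,0,0),(2,61,1,0,0),(1,733,0,0,0),(1,2,0,0,0),(1,3,0,0,0),
  (2,23,1,0,0),(1,11,0,0,0),(1,2,0,0,0),(1,739,0,0,0),(3,0,0,0,0),(1,3,0,0,0),(1,2,0,0,0),
  (1,743,0,0,0),(2,31,1,0,0),(1,5,0,0,0),(1,2,0,0,0),(2,83,1,0,0),(3,0,0,0,0),(1,7,0,0,0),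
  (1,2,0,0,0),(1,751,0,0,0),(2,47,1,0,0),(1,3,0,0,0),(1,2,0,0,0),(1,5,0,0,0),(4,0,0,0,0),
  (1,757,0,0,0),(1,2,0,0,0),(1,3,0,0,0),(2,19,1,0,0),(1,761,0,0,0),(1,2,0,0,0),(1,7,0,0,0),
  (3,0,0,0,0),(2,17,1,0,0),(1,2,0,0,0),(1,13,0,0,0),(2,2,8,0,0),(1,769,0,0,0),(1,2,0,0,0),
  (1,3,0,0,0),(3,0,0,0,0),(1,773,0,0,0),(1,2,0,0,0),(2,31,1,0,0),(2,97,1,0,0),(1,3,0,0,0),
  (1,2,0,0,0),(1,19,0,0,0),(2,13,1,0,0),(1,11,0,0,0),(1,2,0,0,0),(2,29,1,0,0),(2,7,2,0,0),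
  (1,5,0,0,0),(1,2,0,0,0),(1,787,0,0,0),(3,0,0,0,0),(1,3,0,0,0),(1,2,0,0,0),(1,7,0,0,0),
  (2,11,1,0,0),(1,13,0,0,0),(1,2,0,0,0),(1,3,0,0,0),(3,0,0,0,0),(1,797,0,0,0),(1,2,0,0,0),
  (1,17,0,0,0),(0,2,5,5,2),(2,89,1,0,0),(1,2,0,0,0),(1,11,0,0,0),(2,67,1,0,0),(1,5,0,0,0),
  (1,2,0,0,0),(1,3,0,0,0),(2,101,1,0,0),(1,809,0,0,0),(1,2,0,0,0),(1,811,0,0,0),(3,0,0,0,0),
  (1,3,0,0,0),(1,2,0,0,0),(1,5,0,0,0),(2,17,1,0,0),(1,19,0,0,0),(1,2,0,0,0),(2,13,1,0,0),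
  (3,0,0,0,0),(1,821,0,0,0),(1,2,0,0,0),(1,823,0,0,0),(2,103,1,0,0),(1,3,0,0,0),(1,2,0,0,0),
  (1,827,0,0,0),(2,23,1,0,0),(1,829,0,0,0),(1,2,0,0,0),(1,3,0,0,0),(2,13,1,0,0),(2,7,2,0,0),
  (1,2,0,0,0),(1,5,0,0,0),(3,0,0,0,0),(2,31,1,0,0),(1,2,0,0,0),(1,839,0,0,0),(4,0,0,0,0),
  (2,29,2,0,0),(1,2,0,0,0),(1,3,0,0,0),(3,0,0,0,0),(1,5,0,0,0),(1,2,0,0,0),(1,7,0,0,0),
  (2,53,1,0,0),(1,3,0,0,0),(1,2,0,0,0),(1,23,0,0,0),(2,71,1,0,0),(1,853,0,0,0),(1,2,0,0,0),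
  (2,19,1,0,0),(2,107,1,0,0),(1,857,0,0,0),(1,2,0,0,0),(1,859,0,0,0),(3,0,0,0,0),(1,3,0,0,0),
  (1,2,0,0,0),(1,863,0,0,0),(0,2,5,3,3),(1,5,0,0,0),(1,2,0,0,0),(1,3,0,0,0),(3,0,0,0,0),
  (1,11,0,0,0),(1,2,0,0,0),(1,13,0,0,0),(2,109,1,0,0),(2,97,1,0,0),(1,2,0,0,0),(2,5,3,0,0),
  (2,73,1,0,0),(1,877,0,0,0),(1,2,0,0,0),(1,3,0,0,0),(2,11,1,0,0),(1,881,0,0,0),(1,2,0,0,0),
  (1,883,0,0,0),(3,0,0,0,0),(1,3,0,0,0),(1,2,0,0,0),(1,887,0,0,0),(2,37,1,0,0),(1,7,0,0,0),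
  (1,2,0,0,0),(2,3,4,0,0),(3,0,0,0,0),(1,19,0,0,0),(1,2,0,0,0),(1,5,0,0,0),(2,2,7,0,0),
  (1,3,0,0,0),(1,2,0,0,0),(1,29,0,0,0),(2,5,2,0,0),(1,17,0,0,0),(1,2,0,0,0),(1,3,0,0,0),
  (2,113,1,0,0),(1,5,0,0,0),(1,2,0,0,0),(1,907,0,0,0),(3,0,0,0,0),(2,101,1,0,0),(1,2,0,0,0),
  (1,911,0,0,0),(2,19,1,0,0),(1,11,0,0,0),(1,2,0,0,0),(1,3,0,0,0),(3,0,0,0,0),(1,7,0,0,0),
  (1,2,0,0,0),(1,919,0,0,0),(2,23,1,0,0),(1,3,0,0,0),(1,2,0,0,0),(1,13,0,0,0),(2,11,1,0,0),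
  (2,37,1,0,0),(1,2,0,0,0),(2,103,1,0,0),(2,29,1,0,0),(1,929,0,0,0),(1,2,0,0,0),(2,7,2,0,0),
  (3,0,0,0,0),(1,3,0,0,0),(1,2,0,0,0),(1,5,0,0,0),(2,13,1,0,0),(1,937,0,0,0),(1,2,0,0,0),
  (1,3,0,0,0),(3,0,0,0,0),(1,941,0,0,0),(1,2,0,0,0),(1,23,0,0,0),(2,59,1,0,0),(2,3,3,0,0),
  (1,2,0,0,0),(1,947,0,0,0),(2,79,1,0,0),(1,13,0,0,0),(1,2,0,0,0),(1,3,0,0,0),(2,17,1,0,0),
  (1,953,0,0,0),(1,2,0,0,0),(1,5,0,0,0),(3,0,0,0,0),(1,3,0,0,0),(1,2,0,0,0),(1,7,0,0,0),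
  (4,0,0,0,0),(2,31,2,0,0),(1,2,0,0,0),(2,107,1,0,0),(3,0,0,0,0),(1,5,0,0,0),(1,2,0,0,0),
  (1,967,0,0,0),(2,11,2,0,0),(1,3,0,0,0),(1,2,0,0,0),(1,971,0,0,0),(2,3,5,0,0),(1,7,0,0,0),
  (1,2,0,0,0),(1,3,0,0,0),(2,61,1,0,0),(1,977,0,0,0),(1,2,0,0,0),(1,11,0,0,0),(3,0,0,0,0),
  (2,109,1,0,0),(1,2,0,0,0),(1,983,0,0,0),(2,41,1,0,0),(1,5,0,0,0),(1,2,0,0,0),(1,3,0,0,0),
  (3,0,0,0,0),(1,23,0,0,0),(1,2,0,0,0),(1,991,0,0,0),(2,31,1,0,0),(1,3,0,0,0),(1,2,0,0,0),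
  (1,5,0,0,0),(2,83,1,0,0),(1,997,0,0,0),(1,2,0,0,0),(2,37,1,0,0),(2,5,3,0,0),(1,7,0,0,0),
  (1,2,0,0,0),(1,17,0,0,0),(3,0,0,0,0),(1,3,0,0,0),(1,2,0,0,0),(1,19,0,0,0),(4,0,0,0,0),
  (1,1009,0,0,0),(1,2,0,0,0),(1,3,0,0,0),(3,0,0,0,0),(1,1013,0,0,0),(1,2,0,0,0),(1,5,0,0,0),
  (2,127,1,0,0),(2,113,1,0,0),(1,2,0,0,0),(1,1019,0,0,0),(2,17,1,0,0),(1,1021,0,0,0),(1,2,0,0,0),
  (1,3,0,0,0),(2,2,10,0,0),(2,41,1,0,0),(1,2,0,0,0),(1,13,0,0,0),(3,0,0,0,0),(1,3,0,0,0),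
  (1,2,0,0,0),(1,1031,0,0,0),(2,43,1,0,0),(1,1033,0,0,0),(1,2,0,0,0),(2,23,1,0,0),(3,0,0,0,0),
  (1,17,0,0,0),(1,2,0,0,0),(1,1039,0,0,0),(4,0,0,0,0),(1,3,0,0,0),(1,2,0,0,0),(1,7,0,0,0),
  (2,29,1,0,0),(1,5,0,0,0),(1,2,0,0,0),(1,3,0,0,0),(2,131,1,0,0),(1,1049,0,0,0),(1,2,0,0,0),
  (1,1051,0,0,0),(3,0,0,0,0),(0,3,4,13,1),(1,2,0,0,0),(1,5,0,0,0),(2,11,1,0,0),(1,7,0,0,0),
  (1,2,0,0,0),(1,3,0,0,0),(3,0,0,0,0),(1,1061,0,0,0),(1,2,0,0,0),(1,1063,0,0,0),(2,19,1,0,0),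
  (1,3,0,0,0),(1,2,0,0,0),(1,11,0,0,0),(2,89,1,0,0),(1,1069,0,0,0),(1,2,0,0,0),(2,17,1,0,0),
  (2,67,1,0,0),(1,29,0,0,0),(1,2,0,0,0),(2,43,1,0,0),(3,0,0,0,0),(1,3,0,0,0),(1,2,0,0,0),
  (1,13,0,0,0),(4,0,0,0,0),(1,23,0,0,0),(1,2,0,0,0),(1,3,0,0,0),(3,0,0,0,0),(1,5,0,0,0),
  (1,2,0,0,0),(1,1087,0,0,0),(2,17,1,0,0),(2,11,2,0,0),(1,2,0,0,0),(1,1091,0,0,0),(4,0,0,0,0)]

/-- the orders not covered by the certificates -/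
def exceptions : List ℕ :=
  [60, 168, 360, 420, 480, 504, 612, 660, 720, 756, 840, 960, 1008, 1040, 1080, 1092]

def allCheck : List (ℕ × ℕ × ℕ × ℕ × ℕ) → ℕ → Bool
  | [], _ => true
  | c :: l, n => (Nat.blt n 2 || exceptions.contains n || check n c) && allCheck l (n + 1)

theorem allCheck_get {l : List (ℕ × ℕ × ℕ × ℕ × ℕ)} {n : ℕ} (h : allCheck l n = true) (i : ℕ)
    (hi : i < l.length) : n + i < 2 ∨ (n + i) ∈ exceptions ∨ ∃ c, check (n + i) c = true := by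
  induction l generalizing n i with
  | nil => simp at hi
  | cons c l ih =>
    unfold allCheck at h
    rw [Bool.and_eq_true] at h
    cases i with
    | zero =>
      have h1 := h.1
      simp only [Bool.or_eq_true, Nat.blt_eq, List.contains_iff_mem] at h1
      rcases h1 with (h1 | h1) | h1
      · left; simpa using h1
      · right; left; simpa using h1
      · right; right; exact ⟨c, by simpa using h1⟩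
    | succ i =>
      have h2 := ih h.2 i (by simpa using hi)
      have h3 : n + 1 + i = n + (i + 1) := by ring
      rwa [h3] at h2

theorem certs_length : certs.length = 1093 := by decide +kernel

theorem certs_check : allCheck certs 0 = true := by decide +kernel

/-- The order of a non-abelian simple group of order at most 1092 is one of 16 numbers. -/
theorem card_mem_exceptions {G : Type*} [Group G] [Finite G] [IsSimpleGroup G]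
    (hG : ¬ IsMulCommutative G) (h : Nat.card G ≤ 1092) : Nat.card G ∈ exceptions := by
  have h1 := allCheck_get certs_check (Nat.card G) (by rw [certs_length]; omega)
  rw [Nat.zero_add] at h1
  rcases h1 with h1 | h1 | ⟨c, hc⟩
  · have := Finite.one_lt_card (α := G)
    omega
  · exact h1
  · rw [not_check hG c] at hc
    exact absurd hc (by simp)

end Cfsg.Agent.Classification.SmallOrders.Sieve
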