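import Cfsg.Agent.Classification.SmallOrders.Invol
import Cfsg.Agent.SmallSimple.SylowPrimeCount
import Cfsg.Agent.SmallSimple.SylowPrime

/-!
Fixed points on the set of Sylow subgroups.
-/

set_option autoImplicit false

namespace Cfsg.Agent.Classification.SmallOrders.SylowFix

open Subgroup MulAction Invol

variable {G : Type*} [Group G] [Finite G]

/-- Fixed points on Sylow subgroups and on cosets of the normalizer. -/
theorem card_fixedBy_sylow_eq {p : ℕ} [hp : Fact p.Prime] (P : Sylow p G) (x : G) :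
    Nat.card (fixedBy (Sylow p G) x) =
      Nat.card (fixedBy (G ⧸ normalizer ((P : Subgroup G) : Set G)) x) := by
  symm
  let N := normalizer ((P : Subgroup G) : Set G)
  have hwd : ∀ a b : G, (a : G ⧸ N) = (b : G ⧸ N) ↔ a • P = b • P := by
    intro a b
    rw [QuotientGroup.eq]
    have h1 : (a⁻¹ * b) • P = P ↔ a⁻¹ * b ∈ N := Sylow.smul_eq_iff_mem_normalizer
    rw [← h1, mul_smul, inv_smul_eq_iff, eq_comm]
  let f : G ⧸ N → Sylow p G := fun q => Quotient.liftOn' q (fun a => a • P)
    (fun a b hab => (hwd a b).1 (Quotient.sound' hab))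
  have hf : ∀ a : G, f (a : G ⧸ N) = a • P := fun a => rfl
  have hinj : Function.Injective f := by
    intro a b hab
    induction a using QuotientGroup.induction_on with
    | H a =>
      induction b using QuotientGroup.induction_on with
      | H b =>
        rw [hf, hf] at hab
        exact (hwd a b).2 hab
  have hsurj : Function.Surjective f := by
    intro Q
    obtain ⟨g, hg⟩ := MulAction.exists_smul_eq G P Q
    exact ⟨(g : G ⧸ N), by rw [hf, hg]⟩
  have hequiv : ∀ (x : G) (q : G ⧸ N), f (x • q) = x • f q := by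
    intro x q
    induction q using QuotientGroup.induction_on with
    | H a =>
      show f ((x * a : G) : G ⧸ N) = x • f (a : G ⧸ N)
      rw [hf, hf, mul_smul]
  refine Nat.card_congr (Equiv.subtypeEquiv (Equiv.ofBijective f ⟨hinj, hsurj⟩) ?_)
  intro q
  show x • q = q ↔ x • f q = f q
  rw [← hequiv]
  exact ⟨fun h => by rw [h], fun h => hinj h⟩

/-- `|Fix(x)| |N(P)| = |C(x)| |x^G ∩ N(P)|` on the Sylow subgroups. -/
theorem card_fixedBy_sylow {p : ℕ} [hp : Fact p.Prime] (P : Sylow p G) (x : G) :
    Nat.card (fixedBy (Sylow p G) x) * Nat.card (normalizer ((P : Subgroup G) : Set G)) =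
      Nat.card (centralizer ({x} : Set G)) *
        Nat.card {y : G // IsConj x y ∧ y ∈ normalizer ((P : Subgroup G) : Set G)} := by
  rw [card_fixedBy_sylow_eq P x]
  exact card_fixedBy _ x

/-- Parity on the Sylow subgroups. -/
theorem card_sylow_eq_add [IsSimpleGroup G] (h2 : 2 < Nat.card G) (p : ℕ) {t : G}
    (ht : orderOf t = 2) : ∃ k, Nat.card (Sylow p G) = Nat.card (fixedBy (Sylow p G) t) + 4 * k := by
  obtain ⟨k, hk⟩ := SmallSimple.Parity.card_modEq_four (X := Sylow p G) h2 t
    (by rw [← ht]; exact pow_orderOf_eq_one t)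
  exact ⟨k, hk⟩

/-- If `t` normalizes but does not centralize the subgroup `P` of prime order `p` then it has at least
`p` conjugates in `N(P)`. -/
theorem le_card_conj {p : ℕ} (hp : p.Prime) {P : Subgroup G} (hP : Nat.card P = p) {t : G}
    (ht : t ∈ normalizer (P : Set G)) (htC : t ∉ centralizer (P : Set G)) :
    p ≤ Nat.card {y : G // IsConj t y ∧ y ∈ normalizer (P : Set G)} := by
  rw [← hP]
  refine Nat.card_le_card_of_injective (fun g : P => (⟨(g : G) * t * (g : G)⁻¹, ?_, ?_⟩ :
    {y : G // IsConj t y ∧ y ∈ normalizer (P : Set G)})) ?_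
  · exact isConj_iff.2 ⟨g, rfl⟩
  · have hg : (g : G) ∈ normalizer (P : Set G) := Subgroup.le_normalizer g.2
    exact mul_mem (mul_mem hg ht) (inv_mem hg)
  · intro a b hab
    by_contra hne
    have h1 : (a : G) * t * (a : G)⁻¹ = (b : G) * t * (b : G)⁻¹ := congrArg Subtype.val hab
    apply htC
    rw [mem_centralizer_iff]
    intro u hu
    have h2 : (b : G)⁻¹ * a ≠ 1 := by
      intro h
      rw [inv_mul_eq_one] at h
      exact hne (Subtype.ext h.symm)
    have h3 : (b : G)⁻¹ * a ∈ P := mul_mem (inv_mem b.2) a.2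
    have h4 := SmallSimple.SylowPrime.mem_zpowers_of_card_prime hp hP h3 h2 hu
    obtain ⟨k, rfl⟩ := mem_zpowers_iff.1 h4
    have h5 : Commute ((b : G)⁻¹ * a) t := by
      show (b : G)⁻¹ * a * t = t * ((b : G)⁻¹ * a)
      calc (b : G)⁻¹ * a * t = (b : G)⁻¹ * ((a : G) * t * (a : G)⁻¹) * a := by group
        _ = (b : G)⁻¹ * ((b : G) * t * (b : G)⁻¹) * a := by rw [h1]
        _ = t * ((b : G)⁻¹ * a) := by group
    exact (h5.zpow_left k).eq

end Cfsg.Agent.Classification.SmallOrders.SylowFix
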