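import Mathlib
import Cfsg.Agent.SmallSimple.Embed
import Cfsg.Agent.SmallSimple.EvenOrder
import Cfsg.Agent.SmallSimple.BurnsideNC
import Cfsg.Agent.SmallSimple.SylowInter
import Cfsg.Agent.SmallSimple.SylowMaxInter
import Cfsg.Agent.SmallSimple.Parity
import Cfsg.Agent.S1019
import Cfsg.Agent.SmallSimple.SylowPrimeInvol

/-!
Tools for showing that there is no simple group of a given order.
-/

set_option autoImplicit false

namespace Cfsg.Agent.Classification.SmallOrders.Tools

open Subgroup MulAction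

variable {G : Type*} [Group G] [Finite G]

/-- A lower bound for the index of a proper subgroup. -/
theorem le_index [IsSimpleGroup G] (hG : ¬ IsMulCommutative G) {n k : ℕ} (hn : Nat.card G = n)
    (hk : ¬ 2 * n ∣ (k - 1).factorial) (H : Subgroup G) (hH : H ≠ ⊤) : k ≤ H.index := by
  by_contra hlt
  push Not at hlt
  apply hk
  rw [← hn]
  exact (SmallSimple.Embed.two_mul_card_dvd_factorial_index hG H hH).trans
    (Nat.factorial_dvd_factorial (by omega))

omit [Finite G] in
theorem card_inf_eq (H K : Subgroup G) :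
    Nat.card (H ⊓ K : Subgroup G) = Nat.card (K.subgroupOf H) := by
  rw [← Subgroup.inf_subgroupOf_left]
  exact (Nat.card_congr (Subgroup.subgroupOfEquivOfLe inf_le_left).toEquiv).symm

/-- Sylow's theorem in a subgroup `H` containing the Sylow subgroup `P` of `G`. -/
theorem exists_card_eq_mul {p : ℕ} [hp : Fact p.Prime] (P : Sylow p G) (H : Subgroup G)
    (hPH : (P : Subgroup G) ≤ H) :
    ∃ d : ℕ, d % p = 1 ∧ d = Nat.card (Sylow p H) ∧
      Nat.card H = d * Nat.card (H ⊓ normalizer ((P : Subgroup G) : Set G) : Subgroup G) := by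
  refine ⟨Nat.card (Sylow p H), ?_, rfl, ?_⟩
  · have h := card_sylow_modEq_one p H
    unfold Nat.ModEq at h
    rw [h]
    exact Nat.mod_eq_of_lt hp.out.one_lt
  · have h1 := (P.subtype hPH).card_eq_index_normalizer
    have h2 : (normalizer ((P : Subgroup G) : Set G)).subgroupOf H =
        normalizer (((P : Subgroup G).subgroupOf H : Subgroup H) : Set H) :=
      Subgroup.subgroupOf_normalizer_eq hPH
    have h3 : Nat.card (Sylow p H) = ((normalizer ((P : Subgroup G) : Set G)).subgroupOf H).index := by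
      rw [h1, h2]; rfl
    rw [h3, card_inf_eq, mul_comm]
    exact (Subgroup.card_mul_index _).symm

/-- If moreover `N(P) ≤ H`. -/
theorem exists_card_eq_mul_of_normalizer_le {p : ℕ} [hp : Fact p.Prime] (P : Sylow p G)
    (H : Subgroup G) (hH : normalizer ((P : Subgroup G) : Set G) ≤ H) :
    ∃ d : ℕ, d % p = 1 ∧
      Nat.card H = d * Nat.card (normalizer ((P : Subgroup G) : Set G)) := by
  obtain ⟨d, h1, h2, h3⟩ := exists_card_eq_mul P H (Subgroup.le_normalizer.trans hH)
  refine ⟨d, h1, ?_⟩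
  rwa [inf_eq_right.2 hH] at h3

/-- If `|H| = |H ∩ N(P)|` then `H ≤ N(P)`. -/
theorem le_normalizer_of_card_le (H N : Subgroup G)
    (h : Nat.card H ≤ Nat.card (H ⊓ N : Subgroup G)) : H ≤ N := by
  have := Subgroup.eq_of_le_of_card_ge (inf_le_left : H ⊓ N ≤ H) h
  rw [← this]
  exact inf_le_right

/-- If the number of Sylow `p`-subgroups of a simple group of order `p ^ a * m`, `a ≥ 2`, is not 1 modulo `p ^ 2`,
there is a proper subgroup `H` whose order is divisible by `p ^ a` and which has more than one Sylow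
`p`-subgroup; it is the normalizer of a subgroup of order `p ^ (a - 1)`. -/
theorem exists_normalizer_of_not_modEq [IsSimpleGroup G] {p a m : ℕ} [hp : Fact p.Prime]
    (ha : 2 ≤ a) (hn : Nat.card G = p ^ a * m) (hm : ¬ p ∣ m)
    (h : ¬ Nat.card (Sylow p G) ≡ 1 [MOD p ^ 2]) :
    ∃ (P Q : Sylow p G) (D : Subgroup G) (k : ℕ), P ≠ Q ∧ D = (P : Subgroup G) ⊓ Q ∧
      Nat.card D = p ^ (a - 1) ∧
      (P : Subgroup G) ≤ normalizer (D : Set G) ∧ (Q : Subgroup G) ≤ normalizer (D : Set G) ∧
      normalizer (D : Set G) ≠ ⊤ ∧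
      Nat.card (normalizer (D : Set G)) = p ^ a * k ∧ k ∣ m ∧ (∃ d, d ∣ k ∧ d % p = 1 ∧ d ≠ 1) := by
  obtain ⟨P⟩ : Nonempty (Sylow p G) := inferInstance
  have hPcard : ∀ P : Sylow p G, Nat.card P = p ^ a := fun P =>
    SmallSimple.SylowPrimeInvol.card_sylow_of_card_eq P hn hm
  obtain ⟨Q, hPQ, hdvd⟩ := SmallSimple.SylowInter.exists_ne_pow_dvd_card_inf p 2 a h P (hPcard P)
  have ha' : a + 1 - 2 = a - 1 := by omega
  rw [ha'] at hdvd
  set D : Subgroup G := (P : Subgroup G) ⊓ Q with hD
  have hDP : D < P := by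
    refine lt_of_le_of_ne inf_le_left ?_
    intro heq
    have h2 : (P : Subgroup G) ≤ Q := by rw [← heq]; exact inf_le_right
    exact hPQ (Sylow.ext (P.is_maximal' Q.isPGroup' h2).symm)
  have hDQ : D < Q := by
    refine lt_of_le_of_ne inf_le_right ?_
    intro heq
    have h2 : (Q : Subgroup G) ≤ P := by rw [← heq]; exact inf_le_left
    exact hPQ (Sylow.ext (Q.is_maximal' P.isPGroup' h2))
  have hDcard : Nat.card D = p ^ (a - 1) := by
    have h1 : Nat.card D ∣ p ^ a := by
      rw [← hPcard P]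
      exact Subgroup.card_dvd_of_le hDP.le
    obtain ⟨j, hj, hj'⟩ := (Nat.dvd_prime_pow hp.out).1 h1
    have h2 : a - 1 ≤ j := by
      rw [hj'] at hdvd
      exact (Nat.pow_dvd_pow_iff_le_right hp.out.one_lt).1 hdvd
    have h3 : j ≠ a := by
      rintro rfl
      apply hDP.ne
      exact Subgroup.eq_of_le_of_card_ge hDP.le (by rw [hj', hPcard P])
    rw [hj', show j = a - 1 by omega]
  have hle : ∀ R : Sylow p G, D < R → (R : Subgroup G) ≤ normalizer (D : Set G) := by
    intro R hR
    have h1 := SmallSimple.SylowMaxInter.lt_inf_normalizer R.isPGroup' hR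
    have h2 : Nat.card ((R : Subgroup G) ⊓ normalizer (D : Set G) : Subgroup G) ∣ p ^ a := by
      rw [← hPcard R]
      exact Subgroup.card_dvd_of_le inf_le_left
    obtain ⟨j, hj, hj'⟩ := (Nat.dvd_prime_pow hp.out).1 h2
    have h3 : Nat.card D < Nat.card ((R : Subgroup G) ⊓ normalizer (D : Set G) : Subgroup G) := by
      refine lt_of_le_of_ne (Subgroup.card_le_of_le h1.le) ?_
      intro heq
      exact h1.ne (Subgroup.eq_of_le_of_card_ge h1.le heq.ge)
    rw [hDcard, hj'] at h3
    have h4 : a - 1 < j := (Nat.pow_lt_pow_iff_right hp.out.one_lt).1 h3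
    have h5 : j = a := by omega
    have h6 : (R : Subgroup G) ⊓ normalizer (D : Set G) = R :=
      Subgroup.eq_of_le_of_card_ge inf_le_left (by rw [hj', hPcard R, h5])
    rw [← h6]
    exact inf_le_right
  have hPN := hle P hDP
  have hQN := hle Q hDQ
  have hcardN : p ^ a ∣ Nat.card (normalizer (D : Set G)) := by
    rw [← hPcard P]
    exact Subgroup.card_dvd_of_le hPN
  obtain ⟨k, hk⟩ := hcardN
  have hppos : 0 < p ^ a := pow_pos hp.out.pos a
  have hkm : k ∣ m := by
    have h1 := (normalizer (D : Set G)).card_subgroup_dvd_card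
    rw [hk, hn] at h1
    exact Nat.dvd_of_mul_dvd_mul_left hppos h1
  refine ⟨P, Q, D, k, hPQ, hD, hDcard, hPN, hQN, ?_, hk, hkm, ?_⟩
  · intro htop
    have hnorm : D.Normal := normalizer_eq_top_iff.1 htop
    rcases hnorm.eq_bot_or_eq_top with h1 | h1
    · rw [h1, Subgroup.card_bot] at hDcard
      have h2 : 1 < p ^ (a - 1) := Nat.one_lt_pow (by omega) hp.out.one_lt
      omega
    · rw [h1] at hDP
      exact not_top_lt hDP
  · obtain ⟨d, hd1, hd2, hd3⟩ := exists_card_eq_mul P _ hPN
    refine ⟨d, ?_, hd1, ?_⟩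
    · have h1 : Nat.card P ∣ Nat.card (normalizer (D : Set G) ⊓
          normalizer ((P : Subgroup G) : Set G) : Subgroup G) :=
        Subgroup.card_dvd_of_le (le_inf hPN Subgroup.le_normalizer)
      obtain ⟨c, hc⟩ := h1
      rw [hPcard P] at hc
      rw [hc, hk] at hd3
      have h2 : k = d * c := by
        have : p ^ a * k = p ^ a * (d * c) := by rw [hd3]; ring
        exact Nat.eq_of_mul_eq_mul_left hppos this
      exact ⟨c, h2⟩
    · intro hd
      rw [hd] at hd2
      have hsub : Subsingleton (Sylow p ↥(normalizer (D : Set G))) :=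
        (Nat.card_eq_one_iff_unique.1 hd2.symm).1
      have h1 : P.subtype hPN = Q.subtype hQN := Subsingleton.elim _ _
      exact hPQ (Sylow.subtype_injective h1)

omit [Finite G] in
/-- In a simple group the normalizer of a nontrivial proper subgroup is proper. -/
theorem normalizer_ne_top [IsSimpleGroup G] {D : Subgroup G} (h1 : D ≠ ⊥) (h2 : D ≠ ⊤) :
    normalizer (D : Set G) ≠ ⊤ := by
  intro h
  rcases (normalizer_eq_top_iff.1 h).eq_bot_or_eq_top with h | h
  · exact h1 h
  · exact h2 h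

theorem card_sylow_mul_card_normalizer {p : ℕ} [hp : Fact p.Prime] (P : Sylow p G) {n d : ℕ}
    (hn : Nat.card G = n) (hd : Nat.card (Sylow p G) = d) :
    d * Nat.card (normalizer ((P : Subgroup G) : Set G)) = n := by
  rw [← hn, ← hd]
  exact SmallSimple.BurnsideNC.card_sylow_mul_card_normalizer P

omit [Finite G] in
theorem conj_mem_centralizer {H : Subgroup G} {g x : G} (hg : g ∈ normalizer (H : Set G))
    (hx : x ∈ centralizer (H : Set G)) : g * x * g⁻¹ ∈ centralizer (H : Set G) := by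
  rw [mem_centralizer_iff] at hx ⊢
  intro h hh
  have h1 : g⁻¹ * h * g ∈ (H : Set G) := by
    have h2 := (mem_normalizer_iff.1 (inv_mem hg) h).1 hh
    simpa using h2
  have h2 := hx _ h1
  calc h * (g * x * g⁻¹) = g * (g⁻¹ * h * g * x) * g⁻¹ := by group
    _ = g * (x * (g⁻¹ * h * g)) * g⁻¹ := by rw [h2]
    _ = g * x * g⁻¹ * h := by group

/-- If a group `K` has only one Sylow `p`-subgroup and `p ^ 2` does not divide its order, two elements of
order `p` generate the same subgroup. -/
theorem mem_zpowers_of_orderOf_eq {K : Type*} [Group K] [Finite K] {p : ℕ} [hp : Fact p.Prime]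
    (h1 : Nat.card (Sylow p K) = 1) (h2 : ¬ p ^ 2 ∣ Nat.card K) {x y : K} (hx : orderOf x = p)
    (hy : orderOf y = p) : y ∈ zpowers x := by
  have hsub : Subsingleton (Sylow p K) := (Nat.card_eq_one_iff_unique.1 h1).1
  have hpx : IsPGroup p (zpowers x) :=
    IsPGroup.of_card (n := 1) (by rw [Nat.card_zpowers, hx, pow_one])
  have hpy : IsPGroup p (zpowers y) :=
    IsPGroup.of_card (n := 1) (by rw [Nat.card_zpowers, hy, pow_one])
  obtain ⟨P, hP⟩ := hpx.exists_le_sylow
  obtain ⟨Q, hQ⟩ := hpy.exists_le_sylow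
  have hPQ : Q = P := Subsingleton.elim _ _
  rw [hPQ] at hQ
  obtain ⟨k, hk⟩ := (IsPGroup.iff_card.1 P.isPGroup')
  have hk1 : k ≤ 1 := by
    by_contra hcon
    push Not at hcon
    apply h2
    have h3 := (P : Subgroup K).card_subgroup_dvd_card
    rw [hk] at h3
    exact (Nat.pow_dvd_pow p hcon).trans h3
  have h3 : zpowers x = (P : Subgroup K) := by
    apply Subgroup.eq_of_le_of_card_ge hP
    rw [Nat.card_zpowers, hx, hk]
    calc p ^ k ≤ p ^ 1 := Nat.pow_le_pow_right hp.out.pos hk1
      _ = p := pow_one p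
  rw [h3]
  exact hQ (mem_zpowers y)

/-- The same for a subgroup `K` of `G`. -/
theorem mem_zpowers_of_orderOf_eq_of_mem {K : Subgroup G} {p : ℕ} [hp : Fact p.Prime]
    (h1 : Nat.card (Sylow p K) = 1) (h2 : ¬ p ^ 2 ∣ Nat.card K) {x y : G} (hxK : x ∈ K)
    (hyK : y ∈ K) (hx : orderOf x = p) (hy : orderOf y = p) : y ∈ zpowers x := by
  have h3 := mem_zpowers_of_orderOf_eq h1 h2 (x := ⟨x, hxK⟩) (y := ⟨y, hyK⟩)
    (by rw [← Subgroup.orderOf_coe]; exact hx) (by rw [← Subgroup.orderOf_coe]; exact hy)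
  obtain ⟨k, hk⟩ := mem_zpowers_iff.1 h3
  rw [mem_zpowers_iff]
  exact ⟨k, by simpa using congrArg Subtype.val hk⟩

/-- Number of Sylow subgroups: `n_p = 1` when no other divisor of `m` is 1 modulo `p`. -/
theorem card_sylow_eq_one {K : Type*} [Group K] [Finite K] {p a m : ℕ} [hp : Fact p.Prime]
    (hn : Nat.card K = p ^ a * m) (hm : ¬ p ∣ m)
    (h : ∀ d ∈ List.range (m + 1), m % d = 0 → d % p = 1 → d = 1) : Nat.card (Sylow p K) = 1 := by
  obtain ⟨P⟩ : Nonempty (Sylow p K) := inferInstance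
  have hm0 : m ≠ 0 := fun h => hm (h ▸ dvd_zero p)
  have h1 : Nat.card (Sylow p K) ∣ m :=
    SmallSimple.SylowPrimeInvol.card_sylow_dvd_of_card_eq P hn hm
  have h2 := card_sylow_modEq_one p K
  unfold Nat.ModEq at h2
  rw [Nat.mod_eq_of_lt hp.out.one_lt] at h2
  exact h _ (List.mem_range.2 (Nat.lt_succ_of_le (Nat.le_of_dvd (Nat.pos_of_ne_zero hm0) h1)))
    (Nat.mod_eq_zero_of_dvd h1) h2

/-- `|N(P)|`, `|C(P)|` and `|N(P) : C(P)|` for a Sylow subgroup of prime order. -/
theorem automizer_prime [IsSimpleGroup G] (hG : ¬ IsMulCommutative G) {p c : ℕ} [hp : Fact p.Prime]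
    (P : Sylow p G) (hP : Nat.card P = p)
    (hN : Nat.card (normalizer ((P : Subgroup G) : Set G)) = p * c) :
    ∃ e f : ℕ, e ∣ p - 1 ∧ e ≠ 1 ∧ c = f * e ∧
      Nat.card (centralizer ((P : Subgroup G) : Set G)) = p * f ∧
      (centralizer ((P : Subgroup G) : Set G)).relIndex (normalizer ((P : Subgroup G) : Set G)) = e := by
  have hne : Nat.card G ≠ p := SmallSimple.EvenOrder.card_ne_prime hG hp.out
  obtain ⟨e, he1, he2, he3, he4, he5, he6⟩ :=
    SmallSimple.BurnsideNC.exists_automizer_of_card_eq_prime hne P hP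
  obtain ⟨f, hf⟩ := he6
  refine ⟨e, f, he1, he2, ?_, hf, he3.symm⟩
  have h1 : p * c = p * (f * e) := by
    have h2 : Nat.card (normalizer ((P : Subgroup G) : Set G)) =
      Nat.card (centralizer ((P : Subgroup G) : Set G)) * e := he4
    have h3 : Nat.card (centralizer ((P : Subgroup G) : Set G)) = p * f := hf
    rw [← hN, h2, h3]; ring
  exact Nat.eq_of_mul_eq_mul_left hp.out.pos h1

/-- In a finite group `g x g⁻¹ ∈ ⟨x⟩` implies that `g` normalizes `⟨x⟩`. -/
theorem mem_normalizer_zpowers {g x : G} (h : g * x * g⁻¹ ∈ zpowers x) :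
    g ∈ normalizer ((zpowers x : Subgroup G) : Set G) := by
  rw [Subgroup.mem_normalizer_iff_map_conj_eq, MonoidHom.map_zpowers]
  show zpowers (g * x * g⁻¹) = zpowers x
  apply Subgroup.eq_of_le_of_card_ge (zpowers_le.2 h)
  rw [Nat.card_zpowers, Nat.card_zpowers]
  exact (orderOf_injective (MulAut.conj g).toMonoidHom (MulAut.conj g).injective x).ge

theorem orderOf_conj (g x : G) : orderOf (g * x * g⁻¹) = orderOf x :=
  orderOf_injective (MulAut.conj g).toMonoidHom (MulAut.conj g).injective x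

omit [Finite G] in
theorem centralizer_le_normalizer (H : Subgroup G) :
    centralizer (H : Set G) ≤ normalizer (H : Set G) :=
  SmallSimple.BurnsideNC.centralizer_le_normalizer H

end Cfsg.Agent.Classification.SmallOrders.Tools
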